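import Mathlib

/-!
# Groups in which every involution has an abelian centralizer: the shared definitions

These are the notions used by the keystones of S2202.
-/

set_option autoImplicit false

namespace Cfsg.Agent.Lib.Helper60.AIC

open Subgroup

/-- every involution of `G` has an abelian centralizer -/
def Hyp (G : Type*) [Group G] : Prop :=
  ∀ t : G, orderOf t = 2 → ∀ x ∈ centralizer ({t} : Set G), ∀ y ∈ centralizer ({t} : Set G),
    x * y = y * x

/-- the local condition: a nonidentity element of odd order of an involution centralizer
`C_G(t)` has its centralizer inside `N_G(C_G(t))` -/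
def Loc (G : Type*) [Group G] : Prop :=
  ∀ t : G, orderOf t = 2 → ∀ a ∈ centralizer ({t} : Set G), Odd (orderOf a) → a ≠ 1 →
    centralizer ({a} : Set G) ≤ normalizer ((centralizer ({t} : Set G) : Subgroup G) : Set G)

/-- the target: the square of every element of an involution centralizer is central -/
def Concl (G : Type*) [Group G] : Prop :=
  ∀ t : G, orderOf t = 2 → ∀ c ∈ centralizer ({t} : Set G), c ^ 2 ∈ center G

/-- the Brauer-Suzuki-Wall hypothesis of S1230 -/
def BSWHyp (G : Type*) [Group G] : Prop :=
  ∀ t : G, orderOf t = 2 → IsMulCommutative (centralizer ({t} : Set G)) ∧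
    ∀ c ∈ centralizer ({t} : Set G), c ^ 2 = 1

end Cfsg.Agent.Lib.Helper60.AIC
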