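import Mathlib

set_option autoImplicit false

namespace Cfsg.Agent.Lib.Helper60

open Matrix

/-- The standard element of order four in `SL₂`. -/
def sl2w (F : Type*) [Field F] : Matrix.SpecialLinearGroup (Fin 2) F :=
  ⟨!![0, -1; 1, 0], by simp [Matrix.det_fin_two]⟩

/-- entries of a square in `SL₂` -/
theorem sl2_sq_entries {F : Type*} [Field F] (A : Matrix.SpecialLinearGroup (Fin 2) F) :
    ((A ^ 2 : Matrix.SpecialLinearGroup (Fin 2) F) : Matrix (Fin 2) (Fin 2) F) =
      !![A.1 0 0 * A.1 0 0 + A.1 0 1 * A.1 1 0, A.1 0 0 * A.1 0 1 + A.1 0 1 * A.1 1 1;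
         A.1 1 0 * A.1 0 0 + A.1 1 1 * A.1 1 0, A.1 1 0 * A.1 0 1 + A.1 1 1 * A.1 1 1] := by
  ext i j
  fin_cases i <;> fin_cases j <;>
    simp [pow_two, Matrix.mul_apply, Fin.sum_univ_two]

theorem sl2w_sq (F : Type*) [Field F] : sl2w F ^ 2 = -1 := by
  apply Subtype.ext
  rw [sl2_sq_entries]
  ext i j
  fin_cases i <;> fin_cases j <;> simp [sl2w]

theorem sl2_det {F : Type*} [Field F] (A : Matrix.SpecialLinearGroup (Fin 2) F) :
    A.1 0 0 * A.1 1 1 - A.1 0 1 * A.1 1 0 = 1 := by
  have := A.2
  rwa [Matrix.det_fin_two] at this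

/-- In characteristic different from two, the only elements of `SL₂(F)` squaring to one are `±1`. -/
theorem sl2_sq_eq_one {F : Type*} [Field F] (h2 : (2 : F) ≠ 0)
    (A : Matrix.SpecialLinearGroup (Fin 2) F) (hA : A ^ 2 = 1) : A = 1 ∨ A = -1 := by
  have hent := sl2_sq_entries A
  rw [hA] at hent
  have hdet := sl2_det A
  set a := A.1 0 0 with ha
  set b := A.1 0 1 with hb
  set c := A.1 1 0 with hc
  set d := A.1 1 1 with hd
  have e00 : a * a + b * c = 1 := by
    have := congrFun (congrFun hent 0) 0
    simpa using this.symm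
  have e01 : a * b + b * d = 0 := by
    have := congrFun (congrFun hent 0) 1
    simpa using this.symm
  have e10 : c * a + d * c = 0 := by
    have := congrFun (congrFun hent 1) 0
    simpa using this.symm
  have e11 : c * b + d * d = 1 := by
    have := congrFun (congrFun hent 1) 1
    simpa using this.symm
  have hs : a * (a + d) = 2 := by linear_combination e00 + hdet
  have hne : a + d ≠ 0 := by
    intro h
    rw [h, mul_zero] at hs
    exact h2 hs.symm
  have hb0 : b = 0 := by
    have : b * (a + d) = 0 := by linear_combination e01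
    rcases mul_eq_zero.mp this with h | h
    · exact h
    · exact absurd h hne
  have hc0 : c = 0 := by
    have : c * (a + d) = 0 := by linear_combination e10
    rcases mul_eq_zero.mp this with h | h
    · exact h
    · exact absurd h hne
  have haa : a * a = 1 := by rw [hb0] at e00; simpa using e00
  have had : a * d = 1 := by rw [hb0] at hdet; simpa using hdet
  have hda : d = a := by
    have ha0 : a ≠ 0 := by
      intro h; rw [h] at haa; simp at haa
    have : a * d = a * a := by rw [had, haa]
    exact mul_left_cancel₀ ha0 this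
  have ha1 : a = 1 ∨ a = -1 := mul_self_eq_one_iff.mp haa
  rcases ha1 with h1 | h1
  · left
    ext i j
    fin_cases i <;> fin_cases j <;> simp [← ha, ← hb, ← hc, ← hd, hb0, hc0, hda, h1]
  · right
    ext i j
    fin_cases i <;> fin_cases j <;> simp [← ha, ← hb, ← hc, ← hd, hb0, hc0, hda, h1]

theorem two_ne_zero_of_odd_card {F : Type*} [Field F] [Fintype F] (hF : Odd (Fintype.card F)) :
    (2 : F) ≠ 0 := by
  apply Ring.two_ne_zero
  intro h
  have := (FiniteField.even_card_iff_char_two (F := F)).mp h
  rw [Nat.odd_iff] at hF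
  omega

/-- Over a finite field of odd order, all elements of `SL₂(F)` squaring to `-1` are conjugate
(in `SL₂(F)`) to the standard one. -/
theorem sl2_conj_of_sq_eq_neg_one {F : Type*} [Field F] [Fintype F] (hF : Odd (Fintype.card F))
    (A : Matrix.SpecialLinearGroup (Fin 2) F) (hA : A ^ 2 = -1) :
    ∃ P : Matrix.SpecialLinearGroup (Fin 2) F, P * sl2w F * P⁻¹ = A := by
  have h2 : (2 : F) ≠ 0 := two_ne_zero_of_odd_card hF
  have hent := sl2_sq_entries A
  rw [hA] at hent
  have hdet := sl2_det A
  set a := A.1 0 0 with ha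
  set b := A.1 0 1 with hb
  set c := A.1 1 0 with hc
  set d := A.1 1 1 with hd
  have e00 : a * a + b * c = -1 := by
    have := congrFun (congrFun hent 0) 0
    simpa using this.symm
  have e01 : a * b + b * d = 0 := by
    have := congrFun (congrFun hent 0) 1
    simpa using this.symm
  have e10 : c * a + d * c = 0 := by
    have := congrFun (congrFun hent 1) 0
    simpa using this.symm
  have e11 : c * b + d * d = -1 := by
    have := congrFun (congrFun hent 1) 1
    simpa using this.symm
  have hda : d = -a := by
    by_contra hne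
    have hne' : a + d ≠ 0 := fun h => hne (by linear_combination h)
    have ha0 : a = 0 := by
      have : a * (a + d) = 0 := by linear_combination e00 + hdet
      rcases mul_eq_zero.mp this with h | h
      · exact h
      · exact absurd h hne'
    have hb0 : b = 0 := by
      have : b * (a + d) = 0 := by linear_combination e01
      rcases mul_eq_zero.mp this with h | h
      · exact h
      · exact absurd h hne'
    rw [ha0, hb0] at hdet
    simp at hdet
  have hq : a * a + b * c = -1 := e00
  -- find s t with c s² - 2 a s t - b t² = 1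
  obtain ⟨s, t, hst⟩ : ∃ s t : F, c * s ^ 2 - 2 * a * s * t - b * t ^ 2 = 1 := by
    by_cases hc0 : c = 0
    · have haa : a * a = -1 := by rw [hc0] at hq; simpa using hq
      have ha0 : a ≠ 0 := by
        intro h; rw [h] at haa; simp at haa
      refine ⟨-(1 + b) / (2 * a), 1, ?_⟩
      rw [hc0]
      field_simp
      ring
    · have hdf : (Polynomial.C c * Polynomial.X ^ 2 - Polynomial.C 1 : Polynomial F).degree = 2 := by
        rw [Polynomial.degree_sub_C]
        · exact Polynomial.degree_C_mul_X_pow 2 hc0
        · rw [Polynomial.degree_C_mul_X_pow 2 hc0]; decide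
      have hdg : (Polynomial.C c⁻¹ * Polynomial.X ^ 2 : Polynomial F).degree = 2 :=
        Polynomial.degree_C_mul_X_pow 2 (inv_ne_zero hc0)
      have hR : Fintype.card F % 2 = 1 := Nat.odd_iff.mp hF
      obtain ⟨s', t, h⟩ := FiniteField.exists_root_sum_quadratic hdf hdg hR
      simp only [Polynomial.eval_sub, Polynomial.eval_mul, Polynomial.eval_C, Polynomial.eval_pow,
        Polynomial.eval_X] at h
      refine ⟨s' + a * c⁻¹ * t, t, ?_⟩
      have hcc : c * c⁻¹ = 1 := mul_inv_cancel₀ hc0
      have h1 : -(a * a) * c⁻¹ - b = c⁻¹ := by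
        have : (a * a + b * c) * c⁻¹ = -1 * c⁻¹ := by rw [hq]
        linear_combination -this + b * hcc
      linear_combination h + (t ^ 2) * h1 + (2 * s' * a * t + a * a * c⁻¹ * t ^ 2) * hcc
  let P : Matrix.SpecialLinearGroup (Fin 2) F :=
    ⟨!![s, a * s + b * t; t, c * s - a * t], by
      rw [Matrix.det_fin_two]
      simp only [Matrix.of_apply, Matrix.cons_val', Matrix.cons_val_zero, Matrix.cons_val_one,
        Matrix.cons_val_fin_one]
      linear_combination hst⟩
  refine ⟨P, ?_⟩
  have hPw : P * sl2w F = A * P := by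
    apply Subtype.ext
    rw [Matrix.SpecialLinearGroup.coe_mul, Matrix.SpecialLinearGroup.coe_mul]
    ext i j
    fin_cases i <;> fin_cases j
    · simp [P, sl2w, Matrix.mul_apply, Fin.sum_univ_two, ← ha, ← hb]
    · simp [P, sl2w, Matrix.mul_apply, Fin.sum_univ_two, ← ha, ← hb]
      linear_combination (-s) * hq
    · simp [P, sl2w, Matrix.mul_apply, Fin.sum_univ_two, ← hc, ← hd, hda]
      ring
    · simp [P, sl2w, Matrix.mul_apply, Fin.sum_univ_two, ← hc, ← hd, hda]
      linear_combination (-t) * hq
  rw [hPw, mul_inv_cancel_right]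

end Cfsg.Agent.Lib.Helper60
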