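import Mathlib
import Cfsg.Agent.S1414
import Cfsg.Agent.Lib.Helper31.Transitivity
import Cfsg.Agent.Lib.Helper55.SylowIn

/-!
# Keystone 142805  K-S1428-G6  `frattini_beta`  (helper60, for helper31's S1428 pack)

`H = H_β N_H(Y)` for a Sylow `q`-subgroup `Y` of `H'`, `q ∉ β(H)`.
Proof inside `G` (no quotients): `H' = D N₀` with `D = H_β ⊓ H'` and `N₀` the nilpotent Hall
`β(H)'`-subgroup of `H'` (S1414); the Sylow `q`-subgroup `Q₀` of `N₀` is normal in `N₀` and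
Sylow in `H'`, so all Sylow `q`-subgroups of `H'` are `D`-conjugate.
-/

set_option autoImplicit false

namespace Cfsg.Agent.Lib.Helper60.BG134

open Cfsg Cfsg.Agent.Lib.Helper55

/-- pure arithmetic: two factorizations `d * a = k = n₀ * b`, `d, b` being `β`-numbers and
`a, n₀` being `β'`-numbers -/
theorem g6_arith {β : Set ℕ} {d a n₀ b k : ℕ} (h1 : d * a = k) (h2 : n₀ * b = k)
    (hd : ∀ p : ℕ, p.Prime → p ∣ d → p ∈ β) (ha : ∀ p : ℕ, p.Prime → p ∈ β → ¬ p ∣ a)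
    (hn : ∀ p : ℕ, p.Prime → p ∣ n₀ → p ∉ β) (hb : ∀ p : ℕ, p.Prime → p ∉ β → ¬ p ∣ b) :
    d * n₀ = k ∧ Nat.Coprime d n₀ := by
  have cop1 : Nat.Coprime d n₀ :=
    Nat.coprime_of_dvd fun p hp hpd hpn => hn p hp hpn (hd p hp hpd)
  have cop2 : Nat.Coprime b a :=
    Nat.coprime_of_dvd fun p hp hpb hpa => by
      by_cases hpβ : p ∈ β
      · exact ha p hp hpβ hpa
      · exact hb p hp hpβ hpb
  have hdb : d ∣ b := by
    have : d ∣ b * n₀ := by rw [mul_comm, h2, ← h1]; exact dvd_mul_right _ _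
    exact cop1.dvd_of_dvd_mul_right this
  have hbd : b ∣ d := by
    have : b ∣ d * a := by rw [h1, ← h2]; exact dvd_mul_left _ _
    exact cop2.dvd_of_dvd_mul_right this
  have hEq : d = b := Nat.dvd_antisymm hdb hbd
  refine ⟨?_, cop1⟩
  rw [hEq, mul_comm, h2]

section

variable {G : Type*} [Group G]

theorem g6_card_mul_relIndex {A K : Subgroup G} (hAK : A ≤ K) :
    Nat.card A * A.relIndex K = Nat.card K := by
  have h := (A.subgroupOf K).card_mul_index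
  rw [Nat.card_congr (Subgroup.subgroupOfEquivOfLe hAK).toEquiv] at h
  exact h

theorem g6_cj_commutator {H : Subgroup G} {h : G} (hh : h ∈ H) : cj h ⁅H, H⁆ = ⁅H, H⁆ := by
  have h1 : cj h ⁅H, H⁆ = ⁅cj h H, cj h H⁆ := Subgroup.map_commutator H H _
  rw [h1, cj_eq_self_of_mem hh]

variable [Finite G]

/-- a product decomposition from a coprime factorization of the order -/
theorem g6_mul_decomp {K D N : Subgroup G} (hDK : D ≤ K) (hNK : N ≤ K)
    (hcard : Nat.card D * Nat.card N = Nat.card K)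
    (hcop : Nat.Coprime (Nat.card D) (Nat.card N)) :
    ∀ k ∈ K, ∃ d ∈ D, ∃ n ∈ N, k = d * n := by
  have hc : Subgroup.IsComplement' (D.subgroupOf K) (N.subgroupOf K) := by
    apply Subgroup.isComplement'_of_coprime
    · rw [Nat.card_congr (Subgroup.subgroupOfEquivOfLe hDK).toEquiv,
        Nat.card_congr (Subgroup.subgroupOfEquivOfLe hNK).toEquiv]
      exact hcard
    · rw [Nat.card_congr (Subgroup.subgroupOfEquivOfLe hDK).toEquiv,
        Nat.card_congr (Subgroup.subgroupOfEquivOfLe hNK).toEquiv]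
      exact hcop
  intro k hk
  obtain ⟨⟨d, n⟩, hdn⟩ := hc.2 ⟨k, hk⟩
  refine ⟨(d : K), d.2, (n : K), n.2, ?_⟩
  have := congrArg (Subtype.val) hdn
  simpa using this.symm

/-- the normal Sylow `q`-subgroup of a nilpotent subgroup `N` of `q'`-index in `K` is Sylow in `K`
and normalized by `N` -/
theorem g6_exists_sylow_of_nilpotent {K N : Subgroup G} (hNK : N ≤ K) (hnil : Group.IsNilpotent N)
    {q : ℕ} [Fact q.Prime] (hq : ¬ q ∣ N.relIndex K) :
    ∃ Q : Subgroup G, IsSylowIn q K Q ∧ N ≤ Subgroup.normalizer (Q : Set G) := by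
  obtain ⟨P⟩ : Nonempty (Sylow q N) := inferInstance
  have h03 := (Group.isNilpotent_of_finite_tfae (G := ↥N)).out 0 3
  have hPn : (P : Subgroup N).Normal := h03.mp hnil q inferInstance P
  set Q : Subgroup G := (P : Subgroup N).map N.subtype with hQ
  have hQN : Q ≤ N := Subgroup.map_subtype_le _
  have hQK : Q ≤ K := hQN.trans hNK
  have hQsub : Q.subgroupOf N = (P : Subgroup N) := by
    rw [hQ]
    exact Subgroup.comap_map_eq_self_of_injective N.subtype_injective _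
  have hQp : IsPGroup q Q := P.isPGroup'.map _
  have hnorm : N ≤ Subgroup.normalizer (Q : Set G) := by
    rw [← Subgroup.normal_subgroupOf_iff_le_normalizer hQN, hQsub]
    exact hPn
  refine ⟨Q, ?_, hnorm⟩
  have hidx : ¬ q ∣ (Q.subgroupOf K).index := by
    have h1 : (Q.subgroupOf K).index = Q.relIndex N * N.relIndex K :=
      (Subgroup.relIndex_mul_relIndex Q N K hQN hNK).symm
    rw [h1]
    have h2 : Q.relIndex N = (P : Subgroup N).index := by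
      rw [Subgroup.relIndex, hQsub]
    rw [h2]
    have hqp : q.Prime := Fact.out
    exact hqp.not_dvd_mul P.not_dvd_index hq
  have hQp' : IsPGroup q (Q.subgroupOf K) := hQp.comap_subtype
  have hS := isSylowIn_of_sylow (hQp'.toSylow hidx)
  have e : ((hQp'.toSylow hidx : Sylow q K) : Subgroup K) = Q.subgroupOf K :=
    IsPGroup.toSylow_coe _ _
  rw [e, Subgroup.map_subgroupOf_eq_of_le hQK] at hS
  exact hS

end

variable {G : Type*} [Group G] [Finite G]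

/-- generic form: `Hβ` a normal Hall `β`-subgroup of `H`, `N₀` a nilpotent Hall `β'`-subgroup of
`H'`, `Y` a Sylow `q`-subgroup of `H'` with `q ∉ β`: then `H = Hβ N_H(Y)`. -/
theorem g6_frattini_of_hall {β : Set ℕ} {H Hβ N₀ : Subgroup G}
    (hHall : IsPiHallOf β Hβ H) (hnormβ : H ≤ Subgroup.normalizer (Hβ : Set G))
    (hN₀ : IsPiHallOf {q | q.Prime ∧ q ∉ β} N₀ ⁅H, H⁆) (hnil : Group.IsNilpotent N₀)
    {q : ℕ} [Fact q.Prime] (hq : q ∉ β) {Y : Subgroup G} (hY : IsSylowIn q ⁅H, H⁆ Y) :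
    ∀ h ∈ H, ∃ b ∈ Hβ, ∃ n ∈ H ⊓ Subgroup.normalizer (Y : Set G), h = b * n := by
  have hqp : q.Prime := Fact.out
  obtain ⟨hβH, hβpi, hβidx⟩ := hHall
  obtain ⟨hN₀K, hN₀pi, hN₀idx⟩ := hN₀
  have hKH : ⁅H, H⁆ ≤ H := Subgroup.commutator_le_self H
  -- `D := H_β ⊓ H'`
  have hDK : Hβ ⊓ ⁅H, H⁆ ≤ ⁅H, H⁆ := inf_le_right
  -- cards
  have hnormal : (Hβ.subgroupOf H).Normal :=
    (Subgroup.normal_subgroupOf_iff_le_normalizer hβH).mpr hnormβ
  have hdvd : (Hβ ⊓ ⁅H, H⁆).relIndex ⁅H, H⁆ ∣ Hβ.relIndex H := by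
    rw [Subgroup.inf_relIndex_right, ← Subgroup.relIndex_subgroupOf hKH]
    exact Subgroup.relIndex_dvd_index_of_normal _ _
  obtain ⟨hcard, hcop⟩ := g6_arith (β := β)
    (g6_card_mul_relIndex hDK) (g6_card_mul_relIndex hN₀K)
    (fun p hp hpd => hβpi p hp (dvd_trans hpd (Subgroup.card_dvd_of_le inf_le_left)))
    (fun p hp hpβ hpa => hβidx p hp hpβ (dvd_trans hpa hdvd))
    (fun p hp hpn => (hN₀pi p hp hpn).2)
    (fun p hp hpβ => hN₀idx p hp ⟨hp, hpβ⟩)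
  have hdecomp := g6_mul_decomp hDK hN₀K hcard hcop
  obtain ⟨Q₀, hQ₀, hQ₀n⟩ := g6_exists_sylow_of_nilpotent hN₀K hnil (hN₀idx q hqp ⟨hqp, hq⟩)
  -- every Sylow `q`-subgroup of `H'` is a `D`-conjugate of `Q₀`
  have key : ∀ Y' : Subgroup G, IsSylowIn q ⁅H, H⁆ Y' →
      ∃ d ∈ Hβ ⊓ ⁅H, H⁆, cj d Q₀ = Y' := by
    intro Y' hY'
    obtain ⟨k, hk, hkY⟩ := hQ₀.exists_conj hY'
    obtain ⟨d, hd, n, hn, rfl⟩ := hdecomp k hk
    refine ⟨d, hd, ?_⟩
    rw [cj_mul, cj_eq_self_iff.mpr (hQ₀n hn)] at hkY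
    exact hkY
  intro h hh
  obtain ⟨d₁, hd₁, hd₁Y⟩ := key Y hY
  have hY2 : IsSylowIn q ⁅H, H⁆ (cj h Y) := by
    have := isSylowIn_cj hY h
    rwa [g6_cj_commutator hh] at this
  obtain ⟨d₂, hd₂, hd₂Y⟩ := key (cj h Y) hY2
  have hb : d₂ * d₁⁻¹ ∈ Hβ :=
    Subgroup.mul_mem _ hd₂.1 (Subgroup.inv_mem _ hd₁.1)
  refine ⟨d₂ * d₁⁻¹, hb, (d₂ * d₁⁻¹)⁻¹ * h, Subgroup.mem_inf.mpr ⟨?_, ?_⟩, ?_⟩
  · exact Subgroup.mul_mem _ (Subgroup.inv_mem _ (hβH hb)) hh
  · apply cj_eq_self_iff.mp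
    rw [cj_mul, ← hd₂Y, mul_inv_rev, inv_inv, cj_mul, cj_inv_cj]
    exact hd₁Y
  · rw [mul_inv_cancel_left]

theorem frattini_beta (hG : IsMinSimpleOddOrder G) {H : Subgroup G} (hH : IsCoatom H)
    {q : ℕ} [Fact q.Prime] (hq : q ∉ beta H) {Y : Subgroup G} (hY : IsSylowIn q ⁅H, H⁆ Y) :
    ∀ h ∈ H, ∃ b ∈ piCoreOf (beta H) H, ∃ n ∈ H ⊓ Subgroup.normalizer (Y : Set G), h = b * n := by
  obtain ⟨hHall, -, ⟨N₀, hN₀, hnil⟩, -, -⟩ := Cfsg.Agent.S1414.result hG H hH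
  exact g6_frattini_of_hall hHall (Cfsg.Agent.Lib.Helper31.le_normalizer_piCoreOf (beta H) H)
    hN₀ hnil hq hY

end Cfsg.Agent.Lib.Helper60.BG134
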