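import Mathlib

set_option autoImplicit false

namespace Cfsg.Agent.Lib.Helper60

/-- If `α t = u * t` with `u` an `α`-fixed element of square one and `α ^ r = 1` for an odd `r`,
then `u = 1`. -/
theorem eq_one_of_odd_pow_aut {T : Type*} [Group T] (α : MulAut T) (t u : T)
    (htu : α t = u * t) (hu : α u = u) (huu : u * u = 1) (r : ℕ) (hr : Odd r)
    (hαr : α ^ r = 1) : u = 1 := by
  have hiter : ∀ j : ℕ, (α ^ j) t = u ^ j * t := by
    intro j
    induction j with
    | zero => simp
    | succ j ih =>
      rw [pow_succ', MulAut.mul_apply, ih, map_mul, map_pow, hu, htu, pow_succ, mul_assoc]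
  have h1 : u ^ r * t = t := by
    rw [← hiter r, hαr, MulAut.one_apply]
  have h2 : u ^ r = 1 := by
    have := mul_right_cancel (b := t) (a := u ^ r) (c := 1) (by rw [h1, one_mul])
    exact this
  obtain ⟨m, rfl⟩ := hr
  have h3 : u ^ (2 * m) = 1 := by
    rw [pow_mul, pow_two, huu, one_pow]
  rw [pow_succ, h3, one_mul] at h2
  exact h2

/-- An abelian group of order `2 ^ (k + 1)`, `k ≥ 2`, containing an element of order `2 ^ k` has
no non-trivial automorphism of odd order. -/
theorem aut_eq_one_of_odd {T : Type*} [Group T] [Finite T] (hcomm : ∀ x y : T, x * y = y * x)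
    (k : ℕ) (hk : 2 ≤ k) (hT : Nat.card T = 2 ^ (k + 1)) (c : T) (hc : orderOf c = 2 ^ k)
    (α : MulAut T) (r : ℕ) (hr : Odd r) (hαr : α ^ r = 1) : α = 1 := by
  obtain ⟨k, rfl⟩ : ∃ k', k = k' + 2 := ⟨k - 2, by omega⟩
  set C : Subgroup T := Subgroup.zpowers c with hC
  have hCcard : Nat.card C = 2 ^ (k + 2) := by rw [hC, Nat.card_zpowers, hc]
  have hCidx : C.index = 2 := by
    have h := C.card_mul_index
    rw [hCcard, hT, pow_succ 2 (k + 2)] at h
    exact Nat.eq_of_mul_eq_mul_left (by positivity) h
  set z : T := c ^ (2 ^ (k + 1)) with hz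
  set w : T := c ^ (2 ^ k) with hw
  have hww : w * w = z := by
    rw [hw, hz, ← pow_add]; congr 1; rw [pow_succ]; omega
  have hzz : z * z = 1 := by
    rw [hz, ← pow_add]
    have : 2 ^ (k + 1) + 2 ^ (k + 1) = 2 ^ (k + 2) := by rw [pow_succ 2 (k + 1)]; omega
    rw [this, ← hc, pow_orderOf_eq_one]
  have hz1 : z ≠ 1 := by
    intro h
    have h1 : orderOf c ∣ 2 ^ (k + 1) := orderOf_dvd_of_pow_eq_one h
    rw [hc] at h1
    have h2 := Nat.le_of_dvd (by positivity) h1
    have h3 : 2 ^ (k + 1) < 2 ^ (k + 2) := Nat.pow_lt_pow_right (by norm_num) (by omega)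
    omega
  -- unique involution of `C`
  have hU : ∀ x ∈ C, x * x = 1 → x = 1 ∨ x = z := by
    intro x hx hxx
    rw [hC, ← mem_powers_iff_mem_zpowers, Submonoid.mem_powers_iff] at hx
    obtain ⟨j, rfl⟩ := hx
    rw [← pow_add] at hxx
    have h1 : orderOf c ∣ j + j := orderOf_dvd_of_pow_eq_one hxx
    rw [hc] at h1
    obtain ⟨m, hm⟩ := h1
    have hj : j = 2 ^ (k + 1) * m := by
      rw [pow_succ 2 (k + 1)] at hm
      have : 2 * j = 2 * (2 ^ (k + 1) * m) := by rw [two_mul, hm]; ring
      exact Nat.eq_of_mul_eq_mul_left (by norm_num) this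
    rw [hj, pow_mul, ← hz]
    rcases Nat.even_or_odd' m with ⟨l, rfl | rfl⟩
    · left; rw [pow_mul, pow_two, hzz, one_pow]
    · right; rw [pow_succ, pow_mul, pow_two, hzz, one_pow, one_mul]
  have hsq : ∀ t : T, t * t ∈ C := by
    intro t
    have := Subgroup.sq_mem_of_index_two hCidx t
    rwa [pow_two] at this
  have hinj : Function.Injective α := α.injective
  have hαz : α z = z := by
    have h1 : α z ∈ C := by rw [← hww, map_mul]; exact hsq _
    have h2 : α z * α z = 1 := by rw [← map_mul, hzz, map_one]
    rcases hU _ h1 h2 with h | h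
    · exfalso; apply hz1; apply hinj; rw [h, map_one]
    · exact h
  have hinv : ∀ t : T, t * t = 1 → t⁻¹ = t := fun t ht => inv_eq_of_mul_eq_one_left ht
  -- `α` fixes the elements of square one
  have hb : ∀ t : T, t * t = 1 → α t = t := by
    intro t htt
    have hαtt : α t * α t = 1 := by rw [← map_mul, htt, map_one]
    have key : α t = t ∨ α t = z * t := by
      by_cases ht : t ∈ C
      · rcases hU t ht htt with h | h
        · left; rw [h, map_one]
        · left; rw [h, hαz]
      · have hαt : α t ∉ C := by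
          intro hαt
          rcases hU _ hαt hαtt with h | h
          · apply ht
            have : t = 1 := hinj (by rw [h, map_one])
            rw [this]; exact C.one_mem
          · apply ht
            have : t = z := hinj (by rw [h, hαz])
            rw [this, hz]; exact Subgroup.pow_mem _ (Subgroup.mem_zpowers c) _
        have hmem : α t * t ∈ C := (Subgroup.mul_mem_iff_of_index_two hCidx).mpr
          (iff_of_false hαt ht)
        have hsq1 : (α t * t) * (α t * t) = 1 := by
          calc (α t * t) * (α t * t) = (α t * α t) * (t * t) := by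
                rw [mul_assoc, mul_assoc, ← mul_assoc t (α t) t, hcomm t (α t), mul_assoc]
            _ = 1 := by rw [hαtt, htt, one_mul]
        rcases hU _ hmem hsq1 with h | h
        · left
          have := eq_inv_of_mul_eq_one_left h
          rw [this, hinv t htt]
        · right
          have := eq_mul_inv_of_mul_eq h
          rw [this, hinv t htt]
    rcases key with h | h
    · exact h
    · exfalso
      exact hz1 (eq_one_of_odd_pow_aut α t z h hαz hzz r hr hαr)
  have hcI : ∀ j : ℕ, ∀ t : T, t ^ (2 ^ j) = 1 → α t = t := by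
    intro j
    induction j with
    | zero => intro t ht; rw [pow_zero, pow_one] at ht; rw [ht, map_one]
    | succ j ih =>
      intro t ht
      have h1 : (t * t) ^ (2 ^ j) = 1 := by
        rw [← pow_two, ← pow_mul, ← pow_succ']; exact ht
      have h2 : α (t * t) = t * t := ih _ h1
      set u : T := α t * t⁻¹ with hu
      have huu : u * u = 1 := by
        calc u * u = (α t * α t) * (t⁻¹ * t⁻¹) := by
              rw [hu, mul_assoc, mul_assoc, ← mul_assoc t⁻¹ (α t) t⁻¹, hcomm t⁻¹ (α t), mul_assoc]
          _ = 1 := by rw [← map_mul, h2, ← mul_inv_rev, mul_inv_cancel]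
      have hαu : α u = u := hb u huu
      have htu : α t = u * t := by rw [hu, inv_mul_cancel_right]
      have hu1 := eq_one_of_odd_pow_aut α t u htu hαu huu r hr hαr
      rw [htu, hu1, one_mul]
  ext t
  rw [MulAut.one_apply]
  apply hcI (k + 3) t
  have : (2 : ℕ) ^ (k + 3) = Nat.card T := by rw [hT]
  rw [this, pow_card_eq_one']
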