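import Mathlib
import Cfsg.Prelude.Def_Transfer
import Cfsg.Agent.Lib.Helper03.NormalPComplement
import Cfsg.Agent.Lib.Helper60.OddAut

set_option autoImplicit false

namespace Cfsg.Agent.Lib.Helper60

open Cfsg

/-- A group with a central subgroup of index two is commutative. -/
theorem comm_of_central_index_two {T : Type*} [Group T] (Z : Subgroup T) (hZ : Z.index = 2)
    (hc : ∀ z ∈ Z, ∀ t : T, z * t = t * z) (x y : T) : x * y = y * x := by
  by_cases hx : x ∈ Z
  · exact hc x hx y
  by_cases hy : y ∈ Z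
  · exact (hc y hy x).symm
  have hy' : y⁻¹ ∉ Z := fun h => hy (by simpa using Z.inv_mem h)
  have hw : x * y⁻¹ ∈ Z := (Subgroup.mul_mem_iff_of_index_two hZ).mpr (iff_of_false hx hy')
  have hxw : x = (x * y⁻¹) * y := by rw [inv_mul_cancel_right]
  have h1 := hc _ hw y
  calc x * y = ((x * y⁻¹) * y) * y := by rw [← hxw]
    _ = (y * (x * y⁻¹)) * y := by rw [h1]
    _ = y * ((x * y⁻¹) * y) := by rw [mul_assoc]
    _ = y * x := by rw [← hxw]

/-- Subgroup version of `comm_of_central_index_two`. -/
theorem comm_of_central_relIndex_two {G : Type*} [Group G] (T Z : Subgroup G)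
    (hZ : Z.relIndex T = 2) (hc : ∀ z ∈ Z, ∀ t ∈ T, z * t = t * z) :
    ∀ x ∈ T, ∀ y ∈ T, x * y = y * x := by
  intro x hx y hy
  have h := comm_of_central_index_two (T := ↥T) (Z.subgroupOf T) hZ
    (by
      intro z hz t
      rw [Subgroup.mem_subgroupOf] at hz
      exact Subtype.ext (hc _ hz _ t.2)) ⟨x, hx⟩ ⟨y, hy⟩
  exact congrArg Subtype.val h

/-- A Sylow `2`-subgroup that is abelian of order `2 ^ (k + 1)`, `k ≥ 2`, with an element of
order `2 ^ k`, is central in its normalizer. -/
theorem normalizer_le_centralizer_of_abelian_two {H : Type*} [Group H] [Finite H]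
    (P : Sylow 2 H)
    (hcomm : ∀ x ∈ (P : Subgroup H), ∀ y ∈ (P : Subgroup H), x * y = y * x)
    (k : ℕ) (hk : 2 ≤ k) (hP : Nat.card (P : Subgroup H) = 2 ^ (k + 1)) (c : H)
    (hcP : c ∈ (P : Subgroup H)) (hc : orderOf c = 2 ^ k) :
    Subgroup.normalizer (P : Set H) ≤ Subgroup.centralizer (P : Set H) := by
  have : Fact (Nat.Prime 2) := ⟨Nat.prime_two⟩
  set φ := (P : Subgroup H).normalizerMonoidHom with hφ
  have hker : φ.ker = (Subgroup.centralizer (P : Set H)).subgroupOf
      (Subgroup.normalizer ((P : Subgroup H) : Set H)) := Subgroup.normalizerMonoidHom_ker _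
  suffices h : ∀ g, φ g = 1 by
    intro g hg
    have : (⟨g, hg⟩ : Subgroup.normalizer ((P : Subgroup H) : Set H)) ∈ φ.ker := h ⟨g, hg⟩
    rw [hker, Subgroup.mem_subgroupOf] at this
    exact this
  intro g
  have h1 : orderOf (φ g) ∣ Nat.card φ.range :=
    Subgroup.orderOf_dvd_natCard φ.range ⟨g, rfl⟩
  have h2 : Nat.card φ.range = (Subgroup.centralizer (P : Set H)).relIndex
      (Subgroup.normalizer ((P : Subgroup H) : Set H)) := by
    rw [← Subgroup.index_ker, hker]; rfl
  have h3 : (Subgroup.centralizer (P : Set H)).relIndex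
      (Subgroup.normalizer ((P : Subgroup H) : Set H)) ∣ (P : Subgroup H).index := by
    have hle : (P : Subgroup H) ≤ Subgroup.centralizer (P : Set H) := by
      intro x hx
      rw [Subgroup.mem_centralizer_iff]
      intro y hy
      exact hcomm y hy x hx
    refine dvd_trans (Subgroup.relIndex_dvd_of_le_left _ hle) ?_
    exact Subgroup.relIndex_dvd_index_of_le Subgroup.le_normalizer
  have hodd : Odd (orderOf (φ g)) := by
    rw [← Nat.not_even_iff_odd, even_iff_two_dvd]
    intro h
    exact P.not_dvd_index (dvd_trans h (dvd_trans h1 (h2 ▸ h3)))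
  exact aut_eq_one_of_odd (T := ↥(P : Subgroup H))
    (fun x y => Subtype.ext (hcomm _ x.2 _ y.2)) k hk hP ⟨c, hcP⟩
    (by rw [Subgroup.orderOf_mk]; exact hc) (φ g) _ hodd (pow_orderOf_eq_one _)

/-- Burnside for the abelian `2`-groups of `normalizer_le_centralizer_of_abelian_two`. -/
theorem hasNormalPComplement_of_abelian_two {H : Type*} [Group H] [Finite H]
    (P : Sylow 2 H)
    (hcomm : ∀ x ∈ (P : Subgroup H), ∀ y ∈ (P : Subgroup H), x * y = y * x)
    (k : ℕ) (hk : 2 ≤ k) (hP : Nat.card (P : Subgroup H) = 2 ^ (k + 1)) (c : H)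
    (hcP : c ∈ (P : Subgroup H)) (hc : orderOf c = 2 ^ k) :
    HasNormalPComplement 2 H := by
  have : Fact (Nat.Prime 2) := ⟨Nat.prime_two⟩
  exact Cfsg.Agent.Lib.Helper03.hasNormalPComplement_of_normalizer_le_centralizer P
    (normalizer_le_centralizer_of_abelian_two P hcomm k hk hP c hcP hc)

end Cfsg.Agent.Lib.Helper60

namespace Cfsg.Agent.Lib.Helper60

open Cfsg

/-- A normal `p`-complement of a normal subgroup of `p`-power index is a normal `p`-complement
of the whole group. -/
theorem hasNormalPComplement_of_normal_of_index_pow {G : Type*} [Group G] [Finite G] {p : ℕ}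
    [hp : Fact p.Prime] (N : Subgroup G) [hNn : N.Normal] (j : ℕ) (hN : N.index = p ^ j)
    (h : HasNormalPComplement p ↥N) : HasNormalPComplement p G := by
  obtain ⟨Q, K, hKn, hKQ⟩ := h
  have hcardKQ : Nat.card K * Nat.card (Q : Subgroup ↥N) = Nat.card ↥N := hKQ.card_mul_card
  have hKidx : K.index = Nat.card (Q : Subgroup ↥N) := hKQ.symm.index_eq_card
  have hKcard : (Q : Subgroup ↥N).index = Nat.card K := hKQ.index_eq_card
  have hcop : ¬ p ∣ Nat.card K := by rw [← hKcard]; exact Q.not_dvd_index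
  have hcopK : (Nat.card K).Coprime p :=
    (Nat.Coprime.symm ((Nat.Prime.coprime_iff_not_dvd hp.out).mpr hcop))
  have hQcard : Nat.card (Q : Subgroup ↥N) = p ^ (Nat.card ↥N).factorization p :=
    Q.card_eq_multiplicity
  -- characterization of `K` by element orders
  have hchar : ∀ x : ↥N, (orderOf x).Coprime p → x ∈ K := by
    intro x hx
    have h1 : (QuotientGroup.mk' K x) ^ (orderOf x) = 1 := by
      rw [← map_pow, pow_orderOf_eq_one, map_one]
    have h2 : (QuotientGroup.mk' K x) ^ (p ^ (Nat.card ↥N).factorization p) = 1 := by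
      have : Nat.card (↥N ⧸ K) = p ^ (Nat.card ↥N).factorization p := by
        rw [← Subgroup.index_eq_card, hKidx, hQcard]
      rw [← this, pow_card_eq_one']
    have h3 : orderOf (QuotientGroup.mk' K x) ∣ 1 := by
      have hc : (orderOf x).Coprime (p ^ (Nat.card ↥N).factorization p) :=
        Nat.Coprime.pow_right _ hx
      rw [← hc.gcd_eq_one]
      exact Nat.dvd_gcd (orderOf_dvd_of_pow_eq_one h1) (orderOf_dvd_of_pow_eq_one h2)
    have h4 : QuotientGroup.mk' K x = 1 := orderOf_eq_one_iff.mp (Nat.dvd_one.mp h3)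
    exact (QuotientGroup.eq_one_iff x).mp h4
  have hKn' : (K.map N.subtype).Normal := by
    refine ⟨fun k hk g => ?_⟩
    obtain ⟨x, hx, rfl⟩ := hk
    have hxo : (orderOf x).Coprime p :=
      Nat.Coprime.coprime_dvd_left (Subgroup.orderOf_dvd_natCard K hx) hcopK
    set y : ↥N := ⟨g * (x : G) * g⁻¹, hNn.conj_mem x x.2 g⟩ with hy
    have hyo : orderOf y = orderOf x := by
      rw [hy, Subgroup.orderOf_mk]
      have := (MulAut.conj g).orderOf_eq (x : G)
      rw [MulAut.conj_apply] at this
      rw [this, Subgroup.orderOf_coe]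
    have hyK : y ∈ K := hchar y (hyo ▸ hxo)
    exact ⟨y, hyK, rfl⟩
  obtain ⟨P⟩ : Nonempty (Sylow p G) := inferInstance
  have hPcard : Nat.card (P : Subgroup G) = p ^ (Nat.card G).factorization p :=
    P.card_eq_multiplicity
  have hG : Nat.card G = Nat.card ↥N * p ^ j := by rw [← hN, N.card_mul_index]
  have hfac : (Nat.card G).factorization p = (Nat.card ↥N).factorization p + j := by
    rw [hG, Nat.factorization_mul Nat.card_pos.ne' (pow_ne_zero _ hp.out.ne_zero),
      Nat.Prime.factorization_pow hp.out]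
    simp
  have hK'card : Nat.card (K.map N.subtype) = Nat.card K :=
    Subgroup.card_map_of_injective N.subtype_injective
  refine ⟨P, K.map N.subtype, hKn', ?_⟩
  apply Subgroup.isComplement'_of_coprime
  · rw [hK'card, hPcard, hfac, pow_add, ← hQcard, ← mul_assoc, hcardKQ, hG]
  · rw [hK'card, hPcard]
    exact Nat.Coprime.pow_right _ hcopK

end Cfsg.Agent.Lib.Helper60
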