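import Mathlib
import Cfsg.Prelude.Def_OddOrderLocal

set_option autoImplicit false

/-! K-151-A (pack K-151 of helper12, BG §15.1): `M_F ≤ M_σ` for a maximal subgroup `M` of a minimal
simple group of odd order. -/

namespace Cfsg.Agent.Lib.Helper60.BG151

open Cfsg

/-- a normal Sylow `p`-subgroup of a normal Hall subgroup `N` of `X` yields a normal Sylow
`p`-subgroup of `X` -/
theorem exists_normal_sylow_of_hall {X : Type*} [Group X] [Finite X] (N : Subgroup X) [N.Normal]
    (hnil : Group.IsNilpotent N) (hcop : (Nat.card N).Coprime N.index) (p : ℕ) [Fact p.Prime]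
    (hpN : p ∣ Nat.card N) :
    ∃ P : Sylow p X, (P : Subgroup X).Normal ∧ (P : Subgroup X) ≠ ⊥ := by
  have hp : p.Prime := Fact.out
  obtain ⟨P0⟩ : Nonempty (Sylow p N) := inferInstance
  have hP0n : (P0 : Subgroup N).Normal := by
    have h := ((Group.isNilpotent_of_finite_tfae (G := N)).out 0 3).mp hnil
    exact h p inferInstance P0
  have : (P0 : Subgroup N).Characteristic := Sylow.characteristic_of_normal P0 hP0n
  have hQn : ((P0 : Subgroup N).map N.subtype).Normal :=
    ConjAct.normal_of_characteristic_of_normal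
  have hQp : IsPGroup p ((P0 : Subgroup N).map N.subtype) := P0.2.map N.subtype
  have hidx : ((P0 : Subgroup N).map N.subtype).index = (P0 : Subgroup N).index * N.index := by
    rw [Subgroup.index_map_subtype]
  have hnd : ¬ p ∣ ((P0 : Subgroup N).map N.subtype).index := by
    rw [hidx]
    intro h
    rcases (Nat.Prime.dvd_mul hp).mp h with h | h
    · exact P0.not_dvd_index h
    · have : p ∣ Nat.gcd (Nat.card N) N.index := Nat.dvd_gcd hpN h
      rw [hcop] at this
      exact hp.one_lt.ne' (Nat.dvd_one.mp this)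
  refine ⟨hQp.toSylow hnd, ?_, ?_⟩
  · show ((P0 : Subgroup N).map N.subtype).Normal
    exact hQn
  · show ((P0 : Subgroup N).map N.subtype) ≠ ⊥
    intro h
    have h1 : (P0 : Subgroup N) = ⊥ := by
      rw [← Subgroup.map_eq_bot_iff_of_injective _ N.subtype_injective]
      exact h
    have h2 : p ∣ Nat.card (P0 : Subgroup N) := by
      have hc := P0.card_eq_multiplicity
      rw [hc]
      exact dvd_pow_self p (by
        intro h0
        have : (Nat.card N).factorization p = 0 := h0
        rcases (Nat.factorization_eq_zero_iff _ _).mp this with h | h | h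
        · exact h hp
        · exact h hpN
        · exact Nat.card_pos.ne' h)
    rw [h1, Subgroup.card_bot] at h2
    exact hp.one_lt.ne' (Nat.dvd_one.mp h2)

/-- K-151-A -/
theorem fittingHallOf_le_sigmaCore {G : Type*} [Group G] [Finite G] (hG : IsMinSimpleOddOrder G)
    {M : Subgroup G} (hM : IsCoatom M) : fittingHallOf M ≤ sigmaCore M := by
  unfold fittingHallOf sigmaCore
  apply Subgroup.map_mono
  unfold fittingHall piCore
  apply sSup_le
  rintro N ⟨hNn, hNnil, hNcop⟩
  apply le_sSup
  refine ⟨hNn, ?_⟩
  intro p hp hpN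
  have := Fact.mk hp
  have := hNn
  obtain ⟨P, hPn, hP1⟩ := exists_normal_sylow_of_hall N hNnil hNcop p hpN
  have hpM : p ∣ Nat.card M := hpN.trans (Subgroup.card_subgroup_dvd_card N)
  refine ⟨hp, hpM, P, ?_⟩
  -- the normalizer of the image of `P` contains `M` and is not `⊤`
  set Q : Subgroup G := (P : Subgroup M).map M.subtype with hQ
  have hQM : Q ≤ M := Subgroup.map_subtype_le _
  have hMle : M ≤ Subgroup.normalizer (Q : Set G) := by
    intro m hm
    rw [Subgroup.mem_normalizer_iff]
    have key : ∀ m ∈ M, ∀ x ∈ Q, m * x * m⁻¹ ∈ Q := by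
      intro m hm x hx
      obtain ⟨y, hy, rfl⟩ := Subgroup.mem_map.mp hx
      refine Subgroup.mem_map.mpr ⟨⟨m, hm⟩ * y * ⟨m, hm⟩⁻¹, hPn.conj_mem y hy ⟨m, hm⟩, ?_⟩
      simp
    intro x
    constructor
    · exact key m hm x
    · intro h
      have := key m⁻¹ (M.inv_mem hm) _ h
      simpa [mul_assoc] using this
  rcases hM.le_iff.mp hMle with h | h
  · exfalso
    have hQn : Q.Normal := Subgroup.normalizer_eq_top_iff.mp h
    have := hG.2.1
    rcases hQn.eq_bot_or_eq_top with h0 | h0
    · apply hP1
      rw [← Subgroup.map_eq_bot_iff_of_injective _ M.subtype_injective]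
      exact h0
    · apply hM.1
      exact top_le_iff.mp (h0 ▸ hQM)
  · exact h.le

end Cfsg.Agent.Lib.Helper60.BG151
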