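import Mathlib
import Cfsg.Agent.Lib.Helper11.BG144Defs
import Cfsg.Agent.Lib.Helper81.BG144R
import Cfsg.Agent.Lib.Helper71.BG11a
import Cfsg.Agent.Lib.Helper01.BG134CJ
import Cfsg.Agent.S1378

/-!
# K-144-F (keystone 137408, for helper11): S1433 from `HB`, `HC` (BG Lemma 14.5(a): the cosets `x R(x)` are disjoint)
-/

set_option autoImplicit false
set_option linter.unusedSectionVars false
set_option linter.unusedVariables false

namespace Cfsg.Agent.Lib.Helper60.BG144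

open Cfsg Subgroup Cfsg.Agent.Lib.Helper11.BG144

variable {G : Type*} [Group G] [Finite G]

/-- Bezout: if `m` is prime to the order of `y` then `y` is a power of `y ^ m`. -/
theorem exists_zpow_pow_eq (y : G) (m : ℕ) (h : (orderOf y).Coprime m) : ∃ c : ℤ, (y ^ m) ^ c = y := by
  refine ⟨Nat.gcdB (orderOf y) m, ?_⟩
  have hb := Nat.gcd_eq_gcd_ab (orderOf y) m
  rw [Nat.Coprime.gcd_eq_one h, Nat.cast_one] at hb
  have h1 : (y ^ m) ^ (Nat.gcdB (orderOf y) m) = y ^ ((m : ℤ) * Nat.gcdB (orderOf y) m) := by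
    rw [zpow_mul, zpow_natCast]
  have h2 : ((m : ℤ) * Nat.gcdB (orderOf y) m) = 1 - (orderOf y : ℤ) * Nat.gcdA (orderOf y) m := by
    linarith
  rw [h1, h2, zpow_sub, zpow_one, zpow_mul, zpow_natCast, pow_orderOf_eq_one, one_zpow, inv_one,
    mul_one]

/-- commuting elements of coprime orders are powers of their product -/
theorem exists_zpow_mul_eq_left {x r : G} (hc : Commute x r) (hcop : (orderOf x).Coprime (orderOf r)) :
    ∃ k : ℤ, (x * r) ^ k = x := by
  obtain ⟨c, hc'⟩ := exists_zpow_pow_eq x (orderOf r) hcop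
  refine ⟨(orderOf r : ℤ) * c, ?_⟩
  rw [zpow_mul, zpow_natCast, hc.mul_pow, pow_orderOf_eq_one, mul_one, hc']

theorem exists_zpow_mul_eq_right {x r : G} (hc : Commute x r) (hcop : (orderOf x).Coprime (orderOf r)) :
    ∃ k : ℤ, (x * r) ^ k = r := by
  obtain ⟨k, hk⟩ := exists_zpow_mul_eq_left hc.symm hcop.symm
  exact ⟨k, by rw [hc.eq]; exact hk⟩

/-- in a cyclic group `⟨x r⟩`, an element of order prime to `o(x)` lies in `⟨r⟩` -/
theorem mem_zpowers_right {x r y : G} (hc : Commute x r) (k : ℤ) (hy : (x * r) ^ k = y)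
    (hcop : (orderOf y).Coprime (orderOf x)) : y ∈ zpowers r := by
  obtain ⟨c, hc'⟩ := exists_zpow_pow_eq y (orderOf x) hcop
  have h1 : y ^ orderOf x = (r ^ k) ^ orderOf x := by
    rw [← hy, hc.mul_zpow, (hc.zpow_zpow k k).mul_pow]
    have : (x ^ k) ^ orderOf x = 1 := by
      rw [← zpow_natCast, ← zpow_mul, mul_comm, zpow_mul, zpow_natCast, pow_orderOf_eq_one, one_zpow]
    rw [this, one_mul]
  rw [← hc', h1]
  exact (zpowers r).zpow_mem ((zpowers r).pow_mem ((zpowers r).zpow_mem (mem_zpowers r) k) _) c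

/-- primes of an element of `M_σ` lie in `σ(M)` -/
theorem prime_mem_sigma (hG : IsMinSimpleOddOrder G) {M : Subgroup G} (hM : IsCoatom M) {x : G}
    (hx : x ∈ sigmaCore M) {p : ℕ} (hp : p.Prime) (hpx : p ∣ orderOf x) : p ∈ sigma M :=
  Cfsg.Agent.Lib.Helper71.BG11.sigmaCore_pi hG hM hp
    (hpx.trans (Subgroup.orderOf_dvd_natCard _ hx))

/-- `σ(L) ∩ σ(M) = ∅` for a supporting subgroup `L` -/
theorem sigma_disjoint_of_supp (hG : IsMinSimpleOddOrder G) {M L : Subgroup G} {x : G}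
    (hM : IsCoatom M) (hL : Supp M x L) {p : ℕ} (h1 : p ∈ sigma M) (h2 : p ∈ sigma L) : False := by
  obtain ⟨g, hg⟩ := (Cfsg.Agent.S1378.result hG).2 M L hM hL.coatom ⟨p, h1, h2⟩
  exact hL.not_conj g hg

/-- the elements of `R(x)` -/
theorem mem_supportR_cases (hB : HB G) (hC : HC G) {M : Subgroup G} (hM : IsCoatom M) {x : G}
    (hx : x ∈ sigmaCore M) (hx1 : x ≠ 1) {r : G} (hr : r ∈ supportR M x) :
    r = 1 ∨ ∃ L : Subgroup G, Supp M x L ∧ r ∈ sigmaCore L ∧ Commute x r := by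
  by_cases hc : centralizer ({x} : Set G) ≤ M
  · left
    rw [Cfsg.Agent.Lib.Helper81.BG144.supportR_eq_bot M x hc] at hr
    exact Subgroup.mem_bot.mp hr
  · right
    obtain ⟨L, hL⟩ := hB M hM x hx hx1 hc
    rw [Cfsg.Agent.Lib.Helper81.BG144.supportR_eq hC hL] at hr
    obtain ⟨h1, h2⟩ := Subgroup.mem_inf.mp hr
    exact ⟨L, hL, h1, Subgroup.mem_centralizer_iff.mp h2 x rfl⟩

theorem commute_of_mem_supportR (hB : HB G) (hC : HC G) {M : Subgroup G} (hM : IsCoatom M) {x : G}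
    (hx : x ∈ sigmaCore M) (hx1 : x ≠ 1) {r : G} (hr : r ∈ supportR M x) : Commute x r := by
  rcases mem_supportR_cases hB hC hM hx hx1 hr with rfl | ⟨L, _, _, h⟩
  · exact Commute.one_right x
  · exact h

theorem coprime_of_mem_supportR (hG : IsMinSimpleOddOrder G) (hB : HB G) (hC : HC G)
    {M : Subgroup G} (hM : IsCoatom M) {x : G}
    (hx : x ∈ sigmaCore M) (hx1 : x ≠ 1) {r : G} (hr : r ∈ supportR M x) :
    (orderOf x).Coprime (orderOf r) := by
  rcases mem_supportR_cases hB hC hM hx hx1 hr with rfl | ⟨L, hL, hrL, _⟩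
  · rw [orderOf_one]; exact Nat.coprime_one_right _
  · by_contra hnc
    obtain ⟨p, hp, hpx, hpr⟩ := Nat.Prime.not_coprime_iff_dvd.mp hnc
    exact sigma_disjoint_of_supp hG hM hL (prime_mem_sigma hG hM hx hp hpx)
      (prime_mem_sigma hG hL.coatom hrL hp hpr)

/-- primes of `r ∈ R(x)` are outside `σ(M)` -/
theorem not_mem_sigma_of_dvd_orderOf (hG : IsMinSimpleOddOrder G) (hB : HB G) (hC : HC G)
    {M : Subgroup G} (hM : IsCoatom M) {x : G}
    (hx : x ∈ sigmaCore M) (hx1 : x ≠ 1) {r : G} (hr : r ∈ supportR M x) {p : ℕ} (hp : p.Prime)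
    (hpr : p ∣ orderOf r) : p ∉ sigma M := by
  intro hpM
  rcases mem_supportR_cases hB hC hM hx hx1 hr with rfl | ⟨L, hL, hrL, _⟩
  · rw [orderOf_one] at hpr
    exact hp.one_lt.ne' (Nat.dvd_one.mp hpr)
  · exact sigma_disjoint_of_supp hG hM hL hpM (prime_mem_sigma hG hL.coatom hrL hp hpr)

/-- a prime dividing the order of a product of commuting elements divides one of the orders -/
theorem prime_dvd_orderOf_mul {a b : G} (hc : Commute a b) {p : ℕ} (hp : p.Prime)
    (h : p ∣ orderOf (a * b)) : p ∣ orderOf a ∨ p ∣ orderOf b := by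
  have h1 : orderOf (a * b) ∣ orderOf a * orderOf b :=
    hc.orderOf_mul_dvd_lcm.trans (Nat.lcm_dvd_mul _ _)
  exact (Nat.Prime.dvd_mul hp).mp (h.trans h1)

/-- if `y ∈ N_σ - 1` lies in `R(x)` and `x ∈ M_σ - 1` lies in `R(y)`: contradiction -/
theorem false_of_cross (hG : IsMinSimpleOddOrder G) (hB : HB G) (hC : HC G)
    {M N : Subgroup G} (hM : IsCoatom M) (hN : IsCoatom N) {x y : G} (hx : x ∈ sigmaCore M)
    (hy : y ∈ sigmaCore N) (hx1 : x ≠ 1) (hy1 : y ≠ 1) (hyR : y ∈ supportR M x)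
    (hxR : x ∈ supportR N y) : False := by
  rcases mem_supportR_cases hB hC hM hx hx1 hyR with rfl | ⟨L, hL, hyL, _⟩
  · exact hy1 rfl
  rcases mem_supportR_cases hB hC hN hy hy1 hxR with rfl | ⟨L', hL', hxL', _⟩
  · exact hx1 rfl
  have hxM : x ∈ M := Cfsg.Agent.Lib.Helper71.BG11.sigmaCore_le M hx
  have hne : L' ≠ L := by
    intro h
    rw [h] at hxL'
    have : x ∈ sigmaCore L ⊓ M := Subgroup.mem_inf.mpr ⟨hxL', hxM⟩
    rw [hL.inf_bot] at this
    exact hx1 (Subgroup.mem_bot.mp this)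
  have hcx : ¬ centralizer ({x} : Set G) ≤ L' := fun h => hne (hL.uniq L' hL'.coatom h)
  obtain ⟨N₃, hN₃⟩ := hB L' hL'.coatom x hxL' hx1 hcx
  have hN₃L : N₃ = L := hL.uniq N₃ hN₃.coatom hN₃.cent_le
  rw [hN₃L] at hN₃
  have hyL' : y ∈ L' := hL'.cent_le (Subgroup.mem_centralizer_iff.mpr (fun h hh => by
    rw [Set.mem_singleton_iff.mp hh]))
  have : y ∈ sigmaCore L ⊓ L' := Subgroup.mem_inf.mpr ⟨hyL, hyL'⟩
  rw [hN₃.inf_bot] at this
  exact hy1 (Subgroup.mem_bot.mp this)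

/-- K-144-F (137408): S1433 -/
theorem s1433_of (hG : IsMinSimpleOddOrder G) (hB : HB G) (hC : HC G) : H1433 G := by
  intro M N hM hN x y hx hy hx1 hy1 hxy r hr s hs hz
  have hcxr := commute_of_mem_supportR hB hC hM hx hx1 hr
  have hcys := commute_of_mem_supportR hB hC hN hy hy1 hs
  have hcopx := coprime_of_mem_supportR hG hB hC hM hx hx1 hr
  have hcopy := coprime_of_mem_supportR hG hB hC hN hy hy1 hs
  obtain ⟨kx, hkx⟩ := exists_zpow_mul_eq_left hcxr hcopx
  obtain ⟨kr, hkr⟩ := exists_zpow_mul_eq_right hcxr hcopx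
  obtain ⟨ky, hky⟩ := exists_zpow_mul_eq_left hcys hcopy
  obtain ⟨ks, hks⟩ := exists_zpow_mul_eq_right hcys hcopy
  rw [← hz] at hky hks
  by_cases hσ : (sigma M ∩ sigma N).Nonempty
  · -- `N` is conjugate to `M`: same `σ`
    obtain ⟨g, hg⟩ := (Cfsg.Agent.S1378.result hG).2 M N hM hN hσ
    have hiff : ∀ p : ℕ, p ∈ sigma N ↔ p ∈ sigma M := by
      intro p
      rw [hg]
      exact Cfsg.Agent.Lib.Helper01.BG134.mem_sigma_cj_iff g
    have key : y⁻¹ * x = s * r⁻¹ := by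
      calc y⁻¹ * x = y⁻¹ * (x * r) * r⁻¹ := by group
        _ = y⁻¹ * (y * s) * r⁻¹ := by rw [hz]
        _ = s * r⁻¹ := by group
    apply hxy
    by_contra hne
    have hg1 : y⁻¹ * x ≠ 1 := fun h => hne (inv_mul_eq_one.mp h).symm
    have ho : orderOf (y⁻¹ * x) ≠ 1 := fun h => hg1 (orderOf_eq_one_iff.mp h)
    obtain ⟨p, hp, hpd⟩ := Nat.exists_prime_and_dvd ho
    -- `p ∈ σ(M)`
    have hcyx : Commute y⁻¹ x := by
      have h1 : Commute ((x * r) ^ ky)⁻¹ ((x * r) ^ kx) :=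
        (Commute.zpow_zpow_self (x * r) ky kx).inv_left
      rwa [hky, hkx] at h1
    have hpM : p ∈ sigma M := by
      rcases prime_dvd_orderOf_mul hcyx hp hpd with h | h
      · rw [orderOf_inv] at h
        exact (hiff p).mp (prime_mem_sigma hG hN hy hp h)
      · exact prime_mem_sigma hG hM hx hp h
    -- `p ∉ σ(M)`
    have hcsr : Commute s r⁻¹ := by
      have h1 : Commute ((x * r) ^ ks) ((x * r) ^ kr)⁻¹ :=
        (Commute.zpow_zpow_self (x * r) ks kr).inv_right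
      rwa [hks, hkr] at h1
    rw [key] at hpd
    rcases prime_dvd_orderOf_mul hcsr hp hpd with h | h
    · exact not_mem_sigma_of_dvd_orderOf hG hB hC hN hy hy1 hs hp h ((hiff p).mpr hpM)
    · rw [orderOf_inv] at h
      exact not_mem_sigma_of_dvd_orderOf hG hB hC hM hx hx1 hr hp h hpM
  · -- `σ(M) ∩ σ(N) = ∅`
    have hcop : (orderOf x).Coprime (orderOf y) := by
      by_contra hnc
      obtain ⟨p, hp, hpx, hpy⟩ := Nat.Prime.not_coprime_iff_dvd.mp hnc
      exact hσ ⟨p, prime_mem_sigma hG hM hx hp hpx, prime_mem_sigma hG hN hy hp hpy⟩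
    have hyr : y ∈ zpowers r := mem_zpowers_right hcxr ky hky hcop.symm
    have hks' : (y * s) ^ kx = x := by rw [← hz]; exact hkx
    have hxs : x ∈ zpowers s := mem_zpowers_right hcys kx hks' hcop
    have hyR : y ∈ supportR M x := (zpowers_le.mpr hr) hyr
    have hxR : x ∈ supportR N y := (zpowers_le.mpr hs) hxs
    exact false_of_cross hG hB hC hM hN hx hy hx1 hy1 hyR hxR

end Cfsg.Agent.Lib.Helper60.BG144
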