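import Mathlib
import Cfsg.Agent.Lib.Helper97.UniqueOrderP

/-!
# Abelian subgroups of index two in generalized quaternion groups

In a nonabelian finite 2-group with a unique involution, every element outside an abelian
subgroup `B` of index two inverts `B` and squares to the involution.
-/

set_option autoImplicit false

namespace Cfsg.Agent.Lib.Helper60

open Cfsg.Agent.Lib.Helper97

variable {G : Type*} [Group G]

theorem mem_or_inv_mul_mem_of_index_two {B : Subgroup G} (hB : B.index = 2) {g : G} (hg : g ∉ B)
    (x : G) : x ∈ B ∨ g⁻¹ * x ∈ B := by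
  by_cases hx : x ∈ B
  · exact Or.inl hx
  · right
    rw [Subgroup.mul_mem_iff_of_index_two hB]
    constructor
    · intro h; exact absurd (by simpa using B.inv_mem h) hg
    · intro h; exact absurd h hx

/-- A group which is the union of two cosets of a commutative subgroup `B`, the second coset being
represented by an element centralizing `B`, is commutative. -/
theorem comm_of_index_two_of_centralizes {B : Subgroup G} (hB : B.index = 2)
    (hBc : ∀ x ∈ B, ∀ y ∈ B, x * y = y * x) {g : G} (hg : g ∉ B)
    (hgc : ∀ x ∈ B, g * x = x * g) : ∀ x y : G, x * y = y * x := by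
  have key : ∀ x : G, ∀ y ∈ B, x * y = y * x := by
    intro x y hy
    rcases mem_or_inv_mul_mem_of_index_two hB hg x with hx | hx
    · exact hBc x hx y hy
    · have h1 := hBc _ hx y hy
      calc x * y = g * (g⁻¹ * x * y) := by group
        _ = g * (y * (g⁻¹ * x)) := by rw [h1]
        _ = (g * y) * (g⁻¹ * x) := by group
        _ = (y * g) * (g⁻¹ * x) := by rw [hgc y hy]
        _ = y * x := by group
  have keyg : ∀ x : G, x * g = g * x := by
    intro x
    rcases mem_or_inv_mul_mem_of_index_two hB hg x with hx | hx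
    · exact (hgc x hx).symm
    · have h1 := hgc _ hx
      calc x * g = g * ((g⁻¹ * x) * g) := by group
        _ = g * (g * (g⁻¹ * x)) := by rw [h1]
        _ = g * x := by group
  intro x y
  rcases mem_or_inv_mul_mem_of_index_two hB hg y with hy | hy
  · exact key x y hy
  · have h1 := key x _ hy
    calc x * y = (x * g) * (g⁻¹ * y) := by group
      _ = (g * x) * (g⁻¹ * y) := by rw [keyg x]
      _ = g * (x * (g⁻¹ * y)) := by group
      _ = g * ((g⁻¹ * y) * x) := by rw [h1]
      _ = y * x := by group

variable [Finite G]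

/-- In a nonabelian finite 2-group with a unique involution, an element outside a commutative
subgroup `B` of index two inverts `B`, and its square has order two. -/
theorem inverts_of_index_two (hG : IsPGroup 2 G) (hU : UniqueOrderP 2 G)
    (hnc : ¬ ∀ x y : G, x * y = y * x) {B : Subgroup G} (hB : B.index = 2)
    (hBc : ∀ x ∈ B, ∀ y ∈ B, x * y = y * x) {g : G} (hg : g ∉ B) :
    (∀ x ∈ B, g⁻¹ * x * g = x⁻¹) ∧ orderOf (g ^ 2) = 2 := by
  have hBcyc : IsCyclic ↥B := by
    apply isCyclic_of_comm_of_uniqueOrderP (hG.to_subgroup B) _ (hU.subgroup B)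
    intro a b
    exact Subtype.ext (hBc a a.2 b b.2)
  obtain ⟨β', hβ'⟩ := IsCyclic.exists_generator (α := ↥B)
  have hBeq : B = Subgroup.zpowers (β' : G) := by
    apply le_antisymm
    · intro x hx
      obtain ⟨k, hk⟩ := Subgroup.mem_zpowers_iff.mp (hβ' ⟨x, hx⟩)
      exact Subgroup.mem_zpowers_iff.mpr ⟨k, by simpa using congrArg Subtype.val hk⟩
    · rw [Subgroup.zpowers_le]; exact β'.2
  have hBn : B.Normal := Subgroup.normal_of_index_eq_two hB
  have hCA : Subgroup.centralizer (B : Set G) ≤ B := by
    intro h hh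
    by_contra hhB
    apply hnc
    apply comm_of_index_two_of_centralizes hB hBc hhB
    intro x hx
    exact ((Subgroup.mem_centralizer_iff.mp hh) x hx).symm
  -- an involution in `B`
  have hBbot : B ≠ ⊥ := by
    intro h
    rw [h, Subgroup.index_bot] at hB
    apply hnc
    have : Fact (Nat.Prime 2) := ⟨Nat.prime_two⟩
    have hc := isCyclic_of_prime_card hB
    intro x y
    exact (IsCyclic.isMulCommutative (α := G)).is_comm.comm x y
  have h2 : 2 ∣ Nat.card ↥B := by
    have : Fact (Nat.Prime 2) := ⟨Nat.prime_two⟩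
    obtain ⟨k, hk⟩ := IsPGroup.iff_card.mp (hG.to_subgroup B)
    rcases Nat.eq_zero_or_pos k with rfl | hkpos
    · exfalso
      apply hBbot
      rw [pow_zero] at hk
      exact Subgroup.card_eq_one.mp hk
    · rw [hk]
      exact dvd_pow_self 2 (by omega)
  have : Fact (Nat.Prime 2) := ⟨Nat.prime_two⟩
  obtain ⟨z', hz'⟩ := exists_prime_orderOf_dvd_card' 2 h2
  have hz₀ : orderOf (z' : G) = 2 := by rw [Subgroup.orderOf_coe]; exact hz'
  have hg2 : g ^ 2 ∈ B := Subgroup.sq_mem_of_index_two hB g
  rw [hBeq] at hBn hCA hg hg2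
  have hz₀B : (z' : G) ∈ Subgroup.zpowers (β' : G) := hBeq ▸ z'.2
  have := inverts_of_sq_mem hG hU (β' : G) hBn hCA (z' : G) hz₀B hz₀ g hg hg2
  rw [hBeq]
  exact this

end Cfsg.Agent.Lib.Helper60
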