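import Mathlib
import Cfsg.Agent.Lib.Helper60.QuatIndexTwo

/-!
# Splitting a 2-group all of whose quotients by a family of central subgroups with trivial
intersection are generalized quaternion
-/

set_option autoImplicit false

namespace Cfsg.Agent.Lib.Helper60

open Cfsg.Agent.Lib.Helper97

section cyclic
variable {G : Type*} [Group G]

/-- elements of square one in a cyclic 2-group -/
theorem eq_one_or_eq_of_sq_eq_one [Finite G] {a : G} {e : ℕ} (ha : orderOf a = 2 ^ (e + 1)) {x : G}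
    (hx : x ∈ Subgroup.zpowers a) (hx2 : x ^ 2 = 1) : x = 1 ∨ x = a ^ (2 ^ e) := by
  obtain ⟨k, hk⟩ := (Submonoid.mem_powers_iff _ _).mp (mem_powers_iff_mem_zpowers.mpr hx)
  rw [← hk, ← pow_mul] at hx2
  have h1 : 2 ^ (e + 1) ∣ k * 2 := ha ▸ orderOf_dvd_of_pow_eq_one hx2
  have h2 : 2 ^ e ∣ k := by
    rw [pow_succ] at h1
    exact Nat.dvd_of_mul_dvd_mul_right (by norm_num) h1
  obtain ⟨t, rfl⟩ := h2
  have hy2 : (a ^ (2 ^ e)) ^ 2 = 1 := by
    rw [← pow_mul, ← pow_succ, ← ha, pow_orderOf_eq_one]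
  rcases Nat.even_or_odd' t with ⟨u, rfl | rfl⟩
  · left
    rw [← hk, pow_mul, show 2 * u = u * 2 by ring, pow_mul, pow_mul] at *
    rw [← pow_mul (a ^ 2 ^ e) u 2, mul_comm u 2, pow_mul, hy2, one_pow]
  · right
    rw [← hk, pow_mul, pow_succ, pow_mul, hy2, one_pow, one_mul]

theorem pow_mem_zpowers_of_ne_one [Finite G] {a : G} {e : ℕ} (ha : orderOf a = 2 ^ (e + 1)) {x : G}
    (hx : x ∈ Subgroup.zpowers a) (hx1 : x ≠ 1) : a ^ (2 ^ e) ∈ Subgroup.zpowers x := by
  have hdvd : orderOf x ∣ 2 ^ (e + 1) := ha ▸ orderOf_dvd_of_mem_zpowers hx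
  obtain ⟨f, -, hf⟩ := (Nat.dvd_prime_pow Nat.prime_two).mp hdvd
  have hf0 : f ≠ 0 := by
    rintro rfl
    rw [pow_zero, orderOf_eq_one_iff] at hf
    exact hx1 hf
  obtain ⟨f', rfl⟩ := Nat.exists_eq_succ_of_ne_zero hf0
  have h1 : (x ^ (2 ^ f')) ^ 2 = 1 := by
    rw [← pow_mul, ← pow_succ, ← hf, pow_orderOf_eq_one]
  have h2 : x ^ (2 ^ f') ≠ 1 := by
    intro h
    have := orderOf_dvd_of_pow_eq_one h
    rw [hf] at this
    have := Nat.le_of_dvd (by positivity) this
    rw [pow_succ] at this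
    have : 0 < 2 ^ f' := by positivity
    omega
  have h3 : x ^ (2 ^ f') ∈ Subgroup.zpowers a := Subgroup.pow_mem _ hx _
  rcases eq_one_or_eq_of_sq_eq_one ha h3 h1 with h | h
  · exact absurd h h2
  · rw [← h]
    exact Subgroup.pow_mem _ (Subgroup.mem_zpowers x) _

end cyclic

section split
variable {S : Type*} [Group S] [Finite S]

theorem quat_split (hS : IsPGroup 2 S) {ι : Type*} (N : ι → Subgroup S)
    [hNn : ∀ j, (N j).Normal] (hNZ : ∀ j, N j ≤ Subgroup.center S) (hint : ⨅ j, N j = ⊥)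
    (hq : ∀ j, ¬ IsMulCommutative (S ⧸ N j) ∧ ∃! x : S ⧸ N j, orderOf x = 2) (i : ι) :
    (∀ z ∈ Subgroup.center S, z ^ 2 = 1) ∧ ∃ Q : Subgroup S, Q ⊓ N i = ⊥ ∧ Q ⊔ N i = ⊤ := by
  classical
  have hf2 : Fact (Nat.Prime 2) := ⟨Nat.prime_two⟩
  have hG : ∀ j, IsPGroup 2 (S ⧸ N j) := fun j => hS.to_quotient (N j)
  have hUq : ∀ j, UniqueOrderP 2 (S ⧸ N j) := by
    intro j x y hx hy
    obtain ⟨u, -, huu⟩ := (hq j).2
    rw [huu y hy, huu x hx]
    exact Subgroup.mem_zpowers u
  have huniq : ∀ j, ∀ x y : S ⧸ N j, orderOf x = 2 → orderOf y = 2 → x = y := by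
    intro j x y hx hy
    obtain ⟨u, -, huu⟩ := (hq j).2
    rw [huu y hy, huu x hx]
  have hncq : ∀ j, ¬ ∀ x y : S ⧸ N j, x * y = y * x := fun j h => (hq j).1 ⟨⟨h⟩⟩
  have hncS : ¬ ∀ x y : S, x * y = y * x := by
    intro h
    apply hncq i
    intro x y
    induction x using QuotientGroup.induction_on with
    | H x =>
      induction y using QuotientGroup.induction_on with
      | H y => rw [← QuotientGroup.mk_mul, ← QuotientGroup.mk_mul, h x y]
  have hall : ∀ x : S, (∀ j, x ∈ N j) → x = 1 := by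
    intro x hx
    have : x ∈ ⨅ j, N j := Subgroup.mem_iInf.mpr hx
    rw [hint] at this
    exact Subgroup.mem_bot.mp this
  have hcen : ∀ z ∈ Subgroup.center S, ∀ x : S, x * z = z * x := fun z hz x =>
    Subgroup.mem_center_iff.mp hz x
  -- the cyclic subgroup of index two of `S ⧸ N i`
  obtain ⟨k, ⟨e⟩⟩ := quaternion_of_uniqueOrderP_two (hG i) (hUq i)
    (fun h => (hq i).1 IsCyclic.isMulCommutative)
  have hidx : (Subgroup.zpowers (e.symm (QuaternionGroup.a 1))).index = 2 := by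
    have h1 : Nat.card (S ⧸ N i) = 4 * 2 ^ k := by
      rw [Nat.card_congr e.toEquiv, Nat.card_eq_fintype_card, QuaternionGroup.card]
    have h2 : Nat.card (Subgroup.zpowers (e.symm (QuaternionGroup.a 1))) = 2 * 2 ^ k := by
      rw [Nat.card_zpowers, MulEquiv.orderOf_eq, QuaternionGroup.orderOf_a_one]
    have h3 := Subgroup.index_mul_card (Subgroup.zpowers (e.symm (QuaternionGroup.a 1)))
    rw [h1, h2] at h3
    have : 0 < 2 ^ k := by positivity
    nlinarith
  obtain ⟨a, ha⟩ := QuotientGroup.mk_surjective (e.symm (QuaternionGroup.a 1))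
  -- `R`
  obtain ⟨R, hRdef⟩ : ∃ R : Subgroup S, R = (Subgroup.zpowers (e.symm (QuaternionGroup.a 1))).comap
      (QuotientGroup.mk' (N i)) := ⟨_, rfl⟩
  have hRidx : R.index = 2 := by
    rw [hRdef, Subgroup.index_comap_of_surjective _ (QuotientGroup.mk'_surjective (N i))]
    exact hidx
  have hRdecomp : ∀ r ∈ R, ∃ m : ℤ, ∃ n ∈ N i, r = a ^ m * n := by
    intro r hr
    rw [hRdef, Subgroup.mem_comap] at hr
    obtain ⟨m, hm⟩ := Subgroup.mem_zpowers_iff.mp hr
    refine ⟨m, (a ^ m)⁻¹ * r, ?_, by group⟩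
    rw [← QuotientGroup.eq, QuotientGroup.mk_zpow, ha]
    exact hm
  have haR : a ∈ R := by
    rw [hRdef, Subgroup.mem_comap, QuotientGroup.mk'_apply, ha]
    exact Subgroup.mem_zpowers _
  have hNiR : N i ≤ R := by
    intro x hx
    rw [hRdef, Subgroup.mem_comap, QuotientGroup.mk'_apply, (QuotientGroup.eq_one_iff x).mpr hx]
    exact Subgroup.one_mem _
  have hRc : ∀ x ∈ R, ∀ y ∈ R, x * y = y * x := by
    intro x hx y hy
    obtain ⟨m, n, hn, rfl⟩ := hRdecomp x hx
    obtain ⟨m', n', hn', rfl⟩ := hRdecomp y hy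
    have c1 := hcen n (hNZ i hn)
    have c2 := hcen n' (hNZ i hn')
    calc a ^ m * n * (a ^ m' * n') = a ^ m * (n * a ^ m') * n' := by group
      _ = a ^ m * (a ^ m' * n) * n' := by rw [c1]
      _ = (a ^ m * a ^ m') * (n * n') := by group
      _ = (a ^ m' * a ^ m) * (n' * n) := by
          rw [← zpow_add, ← zpow_add, add_comm, c2 n]
      _ = a ^ m' * (a ^ m * n') * n := by group
      _ = a ^ m' * (n' * a ^ m) * n := by rw [c2]
      _ = a ^ m' * n' * (a ^ m * n) := by group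
  obtain ⟨b, hbR⟩ : ∃ b : S, b ∉ R := by
    by_contra hcon
    push Not at hcon
    have : R = ⊤ := eq_top_iff.mpr (fun x _ => hcon x)
    rw [this, Subgroup.index_top] at hRidx
    omega
  have hZR : Subgroup.center S ≤ R := by
    intro z hz
    by_contra hzR
    apply hncS
    exact comm_of_index_two_of_centralizes hRidx hRc hzR (fun x _ => (hcen z hz x).symm)
  have hNR : ∀ j, N j ≤ R := fun j => (hNZ j).trans hZR
  -- the images of `R`
  have hBidx : ∀ j, (R.map (QuotientGroup.mk' (N j))).index = 2 := by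
    intro j
    rw [Subgroup.index_map_eq _ (QuotientGroup.mk'_surjective (N j))
      (by rw [QuotientGroup.ker_mk']; exact hNR j)]
    exact hRidx
  have hBc : ∀ j, ∀ x ∈ R.map (QuotientGroup.mk' (N j)), ∀ y ∈ R.map (QuotientGroup.mk' (N j)),
      x * y = y * x := by
    rintro j _ ⟨x, hx, rfl⟩ _ ⟨y, hy, rfl⟩
    rw [← map_mul, ← map_mul, hRc x hx y hy]
  have hbB : ∀ j, (QuotientGroup.mk' (N j)) b ∉ R.map (QuotientGroup.mk' (N j)) := by
    rintro j ⟨r, hr, hrb⟩
    apply hbR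
    have h1 : r⁻¹ * b ∈ N j := by
      rw [← QuotientGroup.eq]; exact hrb
    have := R.mul_mem hr (hNR j h1)
    rwa [mul_inv_cancel_left] at this
  have hQ1 := fun j => inverts_of_index_two (hG j) (hUq j) (hncq j) (hBidx j) (hBc j) (hbB j)
  -- `b` inverts `R`
  have hinv : ∀ r ∈ R, b⁻¹ * r * b = r⁻¹ := by
    intro r hr
    have h1 : b⁻¹ * r * b * r = 1 := by
      apply hall
      intro j
      rw [← QuotientGroup.eq_one_iff]
      have := (hQ1 j).1 _ (Subgroup.mem_map_of_mem (QuotientGroup.mk' (N j)) hr)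
      simp only [QuotientGroup.mk'_apply] at this
      rw [QuotientGroup.mk_mul, QuotientGroup.mk_mul, QuotientGroup.mk_mul, QuotientGroup.mk_inv, this,
        inv_mul_cancel]
    exact eq_inv_of_mul_eq_one_left h1
  -- the centre is elementary abelian
  have hZ2 : ∀ z ∈ Subgroup.center S, z ^ 2 = 1 := by
    intro z hz
    have h1 := hinv z (hZR hz)
    have h2 : b⁻¹ * z * b = z := by
      rw [mul_assoc, ← hcen z hz b, inv_mul_cancel_left]
    rw [h2] at h1
    rw [pow_two]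
    nth_rewrite 1 [h1]
    exact inv_mul_cancel z
  refine ⟨hZ2, ?_⟩
  -- `s = b ^ 2`
  have hsR : b ^ 2 ∈ R := Subgroup.sq_mem_of_index_two hRidx b
  have hsord : ∀ j, orderOf ((QuotientGroup.mk' (N j)) (b ^ 2)) = 2 := by
    intro j
    rw [map_pow]
    exact (hQ1 j).2
  have hsZ : b ^ 2 ∈ Subgroup.center S := by
    rw [Subgroup.mem_center_iff]
    intro x
    rcases mem_or_inv_mul_mem_of_index_two hRidx hbR x with hx | hx
    · exact hRc x hx _ hsR
    · have h1 := hRc _ hx _ hsR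
      calc x * b ^ 2 = b * ((b⁻¹ * x) * b ^ 2) := by group
        _ = b * (b ^ 2 * (b⁻¹ * x)) := by rw [h1]
        _ = b ^ 2 * x := by group
  have hs2 : (b ^ 2) ^ 2 = 1 := hZ2 _ hsZ
  -- involutions are central
  have hinvol : ∀ t : S, t ^ 2 = 1 → t ∈ Subgroup.center S := by
    intro t ht
    by_cases htN : t ∈ N i
    · exact hNZ i htN
    · have h1 : orderOf ((QuotientGroup.mk' (N i)) t) = 2 := by
        apply orderOf_eq_prime
        · rw [← map_pow, ht, map_one]
        · intro h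
          apply htN
          rwa [QuotientGroup.mk'_apply, QuotientGroup.eq_one_iff] at h
      have h2 := huniq i _ _ (hsord i) h1
      have h3 : (b ^ 2)⁻¹ * t ∈ N i := by
        rw [← QuotientGroup.eq]; exact h2
      have := (Subgroup.center S).mul_mem hsZ (hNZ i h3)
      rwa [mul_inv_cancel_left] at this
  -- the order of `a`
  have ha2 : a ^ 2 ≠ 1 := by
    intro h
    have haZ := hinvol a h
    apply hncS
    apply comm_of_index_two_of_centralizes hRidx hRc hbR
    intro r hr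
    obtain ⟨m, n, hn, rfl⟩ := hRdecomp r hr
    have : a ^ m * n ∈ Subgroup.center S :=
      (Subgroup.center S).mul_mem ((Subgroup.center S).zpow_mem haZ m) (hNZ i hn)
    exact hcen _ this b
  obtain ⟨f, hf⟩ := (IsPGroup.iff_orderOf.mp hS) a
  have hf2' : 2 ≤ f := by
    by_contra hlt
    push Not at hlt
    apply ha2
    apply orderOf_dvd_iff_pow_eq_one.mp
    rw [hf]
    interval_cases f
    · simp
    · simp
  obtain ⟨e', rfl⟩ : ∃ e', f = e' + 2 := ⟨f - 2, by omega⟩
  have hford : orderOf a = 2 ^ ((e' + 1) + 1) := hf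
  have hy2 : (a ^ (2 ^ (e' + 1))) ^ 2 = 1 := by
    rw [← pow_mul, ← pow_succ, ← hford, pow_orderOf_eq_one]
  have hy1 : a ^ (2 ^ (e' + 1)) ≠ 1 := by
    intro h
    have := orderOf_dvd_of_pow_eq_one h
    rw [hford] at this
    have := Nat.le_of_dvd (by positivity) this
    rw [pow_succ (2) (e' + 1)] at this
    have : 0 < 2 ^ (e' + 1) := by positivity
    omega
  have hwy : (a ^ (2 ^ e')) ^ 2 = a ^ (2 ^ (e' + 1)) := by
    rw [← pow_mul, ← pow_succ]
  have hyZ : a ^ (2 ^ (e' + 1)) ∈ Subgroup.center S := hinvol _ hy2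
  -- `s = y * n`
  obtain ⟨m, n, hn, hsn⟩ := hRdecomp _ hsR
  have hnZ := hNZ i hn
  have hn2 : n ^ 2 = 1 := hZ2 n hnZ
  have ham2 : (a ^ m) ^ 2 = 1 := by
    have h1 : a ^ m = b ^ 2 * n⁻¹ := by rw [hsn]; group
    have h2 : (b ^ 2 * n⁻¹) ^ 2 = (b ^ 2) ^ 2 * (n ^ 2)⁻¹ := by
      have c := hcen n⁻¹ ((Subgroup.center S).inv_mem hnZ) (b ^ 2)
      calc (b ^ 2 * n⁻¹) ^ 2 = (b ^ 2 * n⁻¹) * (b ^ 2 * n⁻¹) := pow_two _
        _ = b ^ 2 * (n⁻¹ * b ^ 2) * n⁻¹ := by simp only [mul_assoc]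
        _ = b ^ 2 * (b ^ 2 * n⁻¹) * n⁻¹ := by rw [← c]
        _ = (b ^ 2) ^ 2 * (n ^ 2)⁻¹ := by
            rw [pow_two (b ^ 2), pow_two n, mul_inv_rev]; simp only [mul_assoc]
    rw [h1, h2, hs2, hn2, inv_one, mul_one]
  have hsN : b ^ 2 ∉ N i := by
    intro h
    have := hsord i
    rw [QuotientGroup.mk'_apply, (QuotientGroup.eq_one_iff _).mpr h, orderOf_one] at this
    omega
  have hamy : a ^ m = a ^ (2 ^ (e' + 1)) := by
    rcases eq_one_or_eq_of_sq_eq_one hford (Subgroup.zpow_mem_zpowers a m) ham2 with h | h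
    · exfalso
      apply hsN
      rw [hsn, h, one_mul]
      exact hn
    · exact h
  have hyN : a ^ (2 ^ (e' + 1)) ∉ N i := by
    intro h
    apply hsN
    rw [hsn, hamy]
    exact (N i).mul_mem h hn
  have hAN : Subgroup.zpowers a ⊓ N i = ⊥ := by
    rw [eq_bot_iff]
    rintro x ⟨hxA, hxN⟩
    rw [Subgroup.mem_bot]
    by_contra hx1
    have := pow_mem_zpowers_of_ne_one hford hxA hx1
    exact hyN ((Subgroup.zpowers_le.mpr hxN) this)
  -- `n = 1`
  have hn1 : n = 1 := by
    by_contra hne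
    obtain ⟨j, hj⟩ : ∃ j, n ∉ N j := by
      by_contra hcon
      push Not at hcon
      exact hne (hall n hcon)
    have h1 : orderOf ((QuotientGroup.mk' (N j)) n) = 2 := by
      apply orderOf_eq_prime
      · rw [← map_pow, hn2, map_one]
      · intro h
        apply hj
        rwa [QuotientGroup.mk'_apply, QuotientGroup.eq_one_iff] at h
    have h2 := huniq j _ _ h1 (hsord j)
    have h3 : n⁻¹ * b ^ 2 ∈ N j := by
      rw [← QuotientGroup.eq]; exact h2
    have hyNj : a ^ (2 ^ (e' + 1)) ∈ N j := by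
      have h4 : n⁻¹ * b ^ 2 = a ^ (2 ^ (e' + 1)) := by
        rw [hsn, hamy, hcen n hnZ (a ^ (2 ^ (e' + 1)))]
        group
      rwa [h4] at h3
    -- `w`
    have hwZ : a ^ (2 ^ e') ∈ Subgroup.center S := by
      by_cases hwN : a ^ (2 ^ e') ∈ N j
      · exact hNZ j hwN
      · have h5 : orderOf ((QuotientGroup.mk' (N j)) (a ^ (2 ^ e'))) = 2 := by
          apply orderOf_eq_prime
          · rw [← map_pow, hwy, QuotientGroup.mk'_apply, (QuotientGroup.eq_one_iff _).mpr hyNj]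
          · intro h
            apply hwN
            rwa [QuotientGroup.mk'_apply, QuotientGroup.eq_one_iff] at h
        have h6 := huniq j _ _ (hsord j) h5
        have h7 : (b ^ 2)⁻¹ * a ^ (2 ^ e') ∈ N j := by
          rw [← QuotientGroup.eq]; exact h6
        have := (Subgroup.center S).mul_mem hsZ (hNZ j h7)
        rwa [mul_inv_cancel_left] at this
    have := hZ2 _ hwZ
    rw [hwy] at this
    exact hy1 this
  have hsy : b ^ 2 = a ^ (2 ^ (e' + 1)) := by
    rw [hsn, hn1, mul_one, hamy]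
  -- `zpowers a` is normal
  have hAR : Subgroup.zpowers a ≤ R := Subgroup.zpowers_le.mpr haR
  have hAn : (Subgroup.zpowers a).Normal := by
    constructor
    intro x hx g
    have hxR := hAR hx
    have hbx : b * x * b⁻¹ = x⁻¹ := by
      have h1 := hinv x⁻¹ (R.inv_mem hxR)
      rw [inv_inv] at h1
      calc b * x * b⁻¹ = b * (b⁻¹ * x⁻¹ * b) * b⁻¹ := by rw [h1]
        _ = x⁻¹ := by group
    rcases mem_or_inv_mul_mem_of_index_two hRidx hbR g with hg | hg
    · have := hRc g hg x hxR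
      rw [this, mul_inv_cancel_right]
      exact hx
    · have h1 := hRc _ hg x hxR
      have h2 : g * x * g⁻¹ = b * x * b⁻¹ := by
        calc g * x * g⁻¹ = b * ((b⁻¹ * g) * x) * (b⁻¹ * g)⁻¹ * b⁻¹ := by group
          _ = b * (x * (b⁻¹ * g)) * (b⁻¹ * g)⁻¹ * b⁻¹ := by rw [h1]
          _ = b * x * b⁻¹ := by group
      rw [h2, hbx]
      exact Subgroup.inv_mem _ hx
  refine ⟨Subgroup.zpowers a ⊔ Subgroup.zpowers b, ?_, ?_⟩
  · -- trivial intersection
    rw [eq_bot_iff]
    rintro x ⟨hxQ, hxN⟩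
    obtain ⟨α, hα, β, hβ, rfl⟩ := Subgroup.mem_sup_of_normal_left.mp hxQ
    have hβR : β ∈ R := by
      have := R.mul_mem (R.inv_mem (hAR hα)) (hNiR hxN)
      rwa [inv_mul_cancel_left] at this
    have hβA : β ∈ Subgroup.zpowers a := by
      obtain ⟨l, rfl⟩ := Subgroup.mem_zpowers_iff.mp hβ
      rcases Int.even_or_odd' l with ⟨t, rfl | rfl⟩
      · rw [zpow_mul, zpow_two, ← pow_two, hsy]
        exact Subgroup.zpow_mem _ (Subgroup.pow_mem _ (Subgroup.mem_zpowers a) _) _
      · exfalso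
        apply hbR
        have h1 : b ^ (2 * t + 1) = (b ^ 2) ^ t * b := by
          rw [zpow_add, zpow_mul, zpow_one, zpow_two, ← pow_two]
        rw [h1] at hβR
        have := R.mul_mem (R.inv_mem (R.zpow_mem hsR t)) hβR
        rwa [inv_mul_cancel_left] at this
    have : α * β ∈ Subgroup.zpowers a ⊓ N i :=
      ⟨(Subgroup.zpowers a).mul_mem hα hβA, hxN⟩
    rw [hAN] at this
    exact this
  · -- generation
    rw [eq_top_iff]
    intro x _
    have hR' : ∀ r ∈ R, r ∈ (Subgroup.zpowers a ⊔ Subgroup.zpowers b) ⊔ N i := by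
      intro r hr
      obtain ⟨m', n', hn', rfl⟩ := hRdecomp r hr
      exact Subgroup.mul_mem _
        (Subgroup.mem_sup_left (Subgroup.mem_sup_left (Subgroup.zpow_mem_zpowers a m')))
        (Subgroup.mem_sup_right hn')
    rcases mem_or_inv_mul_mem_of_index_two hRidx hbR x with hx | hx
    · exact hR' x hx
    · have h1 := hR' _ hx
      have h2 : b ∈ (Subgroup.zpowers a ⊔ Subgroup.zpowers b) ⊔ N i :=
        Subgroup.mem_sup_left (Subgroup.mem_sup_right (Subgroup.mem_zpowers b))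
      have := Subgroup.mul_mem _ h2 h1
      rwa [mul_inv_cancel_left] at this

end split

end Cfsg.Agent.Lib.Helper60
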