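import Mathlib
import Cfsg.Agent.S1350
import Cfsg.Agent.S1365
import Cfsg.Agent.S1430
import Cfsg.Agent.Lib.Helper14.BG151G
import Cfsg.Agent.Lib.Helper32.CoprimeHall
import Cfsg.Agent.Lib.Helper32.Supplement
import Cfsg.Agent.Lib.Helper76.Fitting
import Cfsg.Agent.Lib.Helper28.BG152P0
import Cfsg.Agent.Lib.Helper02.BG152P1

set_option autoImplicit false
set_option linter.unusedVariables false

/-! K-152-L1b (pack K-152 of helper12, BG 15.1(b), keystone 135604): `M'' ≤ F(M)` for a maximal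
subgroup `M = M_σ ⋊ K` of type P1 with `M_σ = Q ⋊ D`, in hypothesis form over the pure leaves
P0 (`exists_coprime_compl`) and P1 (`derived_le_centralizer`). -/

namespace Cfsg.Agent.Lib.Helper60.BG152

open Cfsg
open scoped Pointwise commutatorElement

variable {G : Type*} [Group G]

/-- the join of two elementwise commuting nilpotent subgroups is nilpotent -/
theorem isNilpotent_sup_of_commute {A B : Subgroup G} (hA : Group.IsNilpotent A)
    (hB : Group.IsNilpotent B) (hc : ∀ a ∈ A, ∀ b ∈ B, a * b = b * a) :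
    Group.IsNilpotent ↥(A ⊔ B) := by
  let f : A × B →* G := MonoidHom.noncommCoprod A.subtype B.subtype
    (fun a b => hc a a.2 b b.2)
  have hr : f.range = A ⊔ B := by
    have := MonoidHom.noncommCoprod_range A.subtype B.subtype (fun a b => hc a a.2 b b.2)
    rw [Subgroup.range_subtype, Subgroup.range_subtype] at this
    exact this
  have h1 : Group.IsNilpotent f.range :=
    Group.nilpotent_of_surjective f.rangeRestrict f.rangeRestrict_surjective
  rw [hr] at h1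
  exact h1

/-- `(QD)' ≤ Q D'` when `D` normalizes `Q` -/
theorem commutator_sup_le_of_le_normalizer {Q D : Subgroup G}
    (hn : D ≤ Subgroup.normalizer (Q : Set G)) : ⁅Q ⊔ D, Q ⊔ D⁆ ≤ Q ⊔ ⁅D, D⁆ := by
  have hmem : ∀ g ∈ Q ⊔ D, ∃ a ∈ Q, ∃ d ∈ D, g = a * d := by
    intro g hg
    have h1 : ((Q ⊔ D : Subgroup G) : Set G) = (Q : Set G) * (D : Set G) :=
      Subgroup.coe_mul_of_right_le_normalizer_left Q D hn
    have hg' : g ∈ ((Q ⊔ D : Subgroup G) : Set G) := hg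
    rw [h1] at hg'
    obtain ⟨a, ha, d, hd, rfl⟩ := Set.mem_mul.mp hg'
    exact ⟨a, ha, d, hd, rfl⟩
  have hconj : ∀ d ∈ D, ∀ a ∈ Q, d * a * d⁻¹ ∈ Q := by
    intro d hd a ha
    exact ((Subgroup.mem_normalizer_iff.mp (hn hd)) a).mp ha
  rw [Subgroup.commutator_le]
  intro g₁ hg₁ g₂ hg₂
  obtain ⟨a₁, ha₁, d₁, hd₁, rfl⟩ := hmem g₁ hg₁
  obtain ⟨a₂, ha₂, d₂, hd₂, rfl⟩ := hmem g₂ hg₂
  have hc : ⁅d₁, d₂⁆ ∈ ⁅D, D⁆ := Subgroup.commutator_mem_commutator hd₁ hd₂
  have hcD : ⁅d₁, d₂⁆ ∈ D := by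
    rw [commutatorElement_def]
    exact D.mul_mem (D.mul_mem (D.mul_mem hd₁ hd₂) (D.inv_mem hd₁)) (D.inv_mem hd₂)
  have e : ⁅a₁ * d₁, a₂ * d₂⁆ =
      (a₁ * (d₁ * a₂ * d₁⁻¹) * ((d₁ * d₂ * d₁⁻¹) * a₁⁻¹ * (d₁ * d₂ * d₁⁻¹)⁻¹) *
        (⁅d₁, d₂⁆ * a₂⁻¹ * ⁅d₁, d₂⁆⁻¹)) * ⁅d₁, d₂⁆ := by
    simp only [commutatorElement_def]
    group
  rw [e]
  refine Subgroup.mul_mem_sup (Q.mul_mem (Q.mul_mem (Q.mul_mem ha₁ (hconj d₁ hd₁ a₂ ha₂)) ?_) ?_) hc
  · exact hconj _ (D.mul_mem (D.mul_mem hd₁ hd₂) (D.inv_mem hd₁)) _ (Q.inv_mem ha₁)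
  · exact hconj _ hcD _ (Q.inv_mem ha₂)

/-- a conjugate of a nilpotent subgroup is nilpotent -/
theorem isNilpotent_conj_smul {D : Subgroup G} (hD : Group.IsNilpotent D) (g : G) :
    Group.IsNilpotent ↥(MulAut.conj g • D) :=
  (Group.isNilpotent_congr (Subgroup.equivSMul (MulAut.conj g) D)).mp hD

/-- subgroups of nilpotent subgroups are nilpotent -/
theorem isNilpotent_of_le' {H K : Subgroup G} (hHK : H ≤ K) (hK : Group.IsNilpotent K) :
    Group.IsNilpotent H := by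
  have h1 : Group.IsNilpotent (H.subgroupOf K) := Subgroup.isNilpotent _
  exact (Group.isNilpotent_congr (Subgroup.subgroupOfEquivOfLe hHK)).mp h1

/-- a nilpotent subgroup of `M` normalized by `M` lies in `F(M)` -/
theorem le_fittingOf_of_normal_nilpotent {M L : Subgroup G} (hLM : L ≤ M)
    (hn : M ≤ Subgroup.normalizer (L : Set G)) (hL : Group.IsNilpotent L) : L ≤ fittingOf M := by
  have h1 : (L.subgroupOf M).Normal := (Subgroup.normal_subgroupOf_iff_le_normalizer hLM).mpr hn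
  have h2 : Group.IsNilpotent (L.subgroupOf M) :=
    (Group.isNilpotent_congr (Subgroup.subgroupOfEquivOfLe hLM)).mpr hL
  have h3 := Cfsg.Agent.Lib.Helper76.le_fittingSubgroup h1 h2
  have h4 := Subgroup.map_mono (f := M.subtype) h3
  rw [Subgroup.map_subgroupOf_eq_of_le hLM] at h4
  exact h4

theorem sigmaCore_le'' (M : Subgroup G) : sigmaCore M ≤ M := by
  rintro _ ⟨y, _, rfl⟩
  exact y.2

theorem le_normalizer_sigmaCore'' (M : Subgroup G) :
    M ≤ Subgroup.normalizer (sigmaCore M : Set G) := by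
  rw [Subgroup.le_normalizer_iff]
  intro m hm k hk
  obtain ⟨k', hk', rfl⟩ := hk
  exact ⟨(⟨m, hm⟩ : M) * k' * (⟨m, hm⟩ : M)⁻¹,
    (piCore_normal (sigma M) M).conj_mem k' hk' _, rfl⟩

/-- **K-152-L1b** with the pure leaves P0 and P1 as hypotheses. -/
theorem second_derived_le_of_structure_of [Finite G]
    (hG : IsMinSimpleOddOrder G) {M : Subgroup G} (hM : IsCoatom M) {K Q D : Subgroup G}
    (hKU : IsSigmaDecomposition M K ⊥) (hK1 : K ≠ ⊥) (q : ℕ) (hq : q.Prime)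
    (hQn : M ≤ Subgroup.normalizer (Q : Set G)) (hQq : IsPGroup q Q)
    (hcop : (Nat.card Q).Coprime (Q.relIndex M))
    (hKQ : sigmaCore M ⊓ Subgroup.centralizer (K : Set G) ≤ Q) (hQD : Q ⊔ D = sigmaCore M)
    (hD : Group.IsNilpotent D)
    (hcyc : IsCyclic ↥(sigmaCore M ⊓ Subgroup.centralizer (K : Set G)))
    (hP0 : ∀ (q : ℕ) [Fact q.Prime] (H Q D : Subgroup G), IsPGroup q Q →
      H ≤ Subgroup.normalizer (Q : Set G) → ¬ q ∣ Q.relIndex H → Q ⊔ D = H →
      Group.IsNilpotent D → ∃ D₀ : Subgroup G, D₀ ≤ D ∧ Group.IsNilpotent D₀ ∧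
        (Nat.card D₀).Coprime q ∧ Q ⊔ D₀ = H ∧ Q ⊓ D₀ = ⊥)
    (hP1 : ∀ [Group.IsSolvable ↥M], Odd (Nat.card ↥M) → ∀ (q : ℕ) [Fact q.Prime]
      (Q D K : Subgroup ↥M) [Q.Normal], IsPGroup q Q → Group.IsNilpotent D →
      (Nat.card D).Coprime q → K ≠ ⊥ → K ≤ Subgroup.normalizer (D : Set ↥M) →
      (Nat.card K).Coprime (q * Nat.card D) →
      (∀ k ∈ K, k ≠ 1 → D ⊓ Subgroup.centralizer ({k} : Set ↥M) = ⊥) →
      (∀ k ∈ K, k ≠ 1 →
        Q ⊓ Subgroup.centralizer ({k} : Set ↥M) = Q ⊓ Subgroup.centralizer (K : Set ↥M)) →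
      IsCyclic ↥(Q ⊓ Subgroup.centralizer (K : Set ↥M)) →
      ⁅D, D⁆ ≤ Subgroup.centralizer (Q : Set ↥M)) :
    ⁅⁅M, M⁆, ⁅M, M⁆⁆ ≤ fittingOf M := by
  classical
  have hinj : Function.Injective M.subtype := M.subtype_injective
  have hKM : K ≤ M := hKU.hall.1
  have hσM : sigmaCore M ≤ M := sigmaCore_le'' M
  have hMσn : M ≤ Subgroup.normalizer (sigmaCore M : Set G) := le_normalizer_sigmaCore'' M
  have hsolv : Group.IsSolvable ↥M := Cfsg.Agent.Lib.Helper55.ms_solvable hG hM.1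
  have hodd : Odd (Nat.card ↥M) := Cfsg.Agent.Lib.Helper55.ms_odd hG M
  have hHall := (Cfsg.Agent.S1350.result hG M hM).1
  have hder : ⁅M, M⁆ = sigmaCore M := by
    have h := (Cfsg.Agent.S1365.result hG M hM K ⊥ hKU hK1).1
    rw [h, bot_sup_eq]
  rw [hder]
  -- it is enough to show that `(M_σ)'` is nilpotent
  suffices hL : Group.IsNilpotent ↥⁅sigmaCore M, sigmaCore M⁆ by
    refine le_fittingOf_of_normal_nilpotent ?_ ?_ hL
    · exact (Subgroup.commutator_le.mpr (fun a ha b hb => by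
        rw [commutatorElement_def]
        exact (sigmaCore M).mul_mem ((sigmaCore M).mul_mem ((sigmaCore M).mul_mem ha hb)
          ((sigmaCore M).inv_mem ha)) ((sigmaCore M).inv_mem hb))).trans hσM
    · intro m hm
      have hm' := hMσn hm
      rw [Subgroup.mem_normalizer_iff] at hm' ⊢
      have key : ∀ n : G, (∀ h, h ∈ sigmaCore M → n * h * n⁻¹ ∈ sigmaCore M) →
          ∀ x ∈ ⁅sigmaCore M, sigmaCore M⁆, n * x * n⁻¹ ∈ ⁅sigmaCore M, sigmaCore M⁆ := by
        intro n hn x hx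
        have h1 : (⁅sigmaCore M, sigmaCore M⁆).map (MulAut.conj n).toMonoidHom ≤
            ⁅sigmaCore M, sigmaCore M⁆ := by
          rw [Subgroup.map_commutator]
          apply Subgroup.commutator_mono <;>
          · rintro _ ⟨y, hy, rfl⟩
            exact hn y hy
        exact h1 ⟨x, hx, rfl⟩
      intro x
      constructor
      · exact key m (fun h hh => (hm' h).mp hh) x
      · intro hx
        have h2 := key m⁻¹ (fun h hh => by
          have := (hm' (m⁻¹ * h * m⁻¹⁻¹)).mpr (by simpa [mul_assoc] using hh)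
          exact this) _ hx
        simpa [mul_assoc] using h2
  have hcσ : ⁅sigmaCore M, sigmaCore M⁆ ≤ sigmaCore M :=
    Subgroup.commutator_le.mpr (fun a ha b hb => by
      rw [commutatorElement_def]
      exact (sigmaCore M).mul_mem ((sigmaCore M).mul_mem ((sigmaCore M).mul_mem ha hb)
        ((sigmaCore M).inv_mem ha)) ((sigmaCore M).inv_mem hb))
  by_cases hQ1 : Q = ⊥
  · -- then `M_σ = D` is nilpotent
    rw [hQ1, bot_sup_eq] at hQD
    exact isNilpotent_of_le' (hcσ.trans hQD.ge) hD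
  have hqF : Fact q.Prime := ⟨hq⟩
  obtain ⟨n, hn⟩ := hQq.exists_card_eq
  have hn0 : n ≠ 0 := by
    rintro rfl
    rw [pow_zero] at hn
    exact hQ1 (Subgroup.eq_bot_of_card_eq Q hn)
  have hqQ : q ∣ Nat.card Q := by rw [hn]; exact dvd_pow_self q hn0
  have hndM : ¬ q ∣ Q.relIndex M := by
    intro h
    have : q ∣ Nat.gcd (Nat.card Q) (Q.relIndex M) := Nat.dvd_gcd hqQ h
    rw [hcop] at this
    exact hq.one_lt.ne' (Nat.dvd_one.mp this)
  have hQσ : Q ≤ sigmaCore M := hQD ▸ le_sup_left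
  have hQM : Q ≤ M := hQσ.trans hσM
  have hnd : ¬ q ∣ Q.relIndex (sigmaCore M) := by
    intro h
    apply hndM
    rw [← Subgroup.relIndex_mul_relIndex Q (sigmaCore M) M hQσ hσM]
    exact h.mul_right _
  obtain ⟨D₀, hD₀D, hD₀n, hD₀q, hQD₀, hQD₀i⟩ :=
    hP0 q (sigmaCore M) Q D hQq (hσM.trans hQn) hnd hQD hD
  have hD₀σ : D₀ ≤ sigmaCore M := hQD₀ ▸ le_sup_right
  have hD₀N : D₀ ≤ Subgroup.normalizer (Q : Set G) := (hD₀σ.trans hσM).trans hQn
  have hcardσ : Nat.card (sigmaCore M) = Nat.card D₀ * Nat.card Q := by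
    rw [← hQD₀, sup_comm, Cfsg.Agent.Lib.Helper32.card_sup_of_le_normalizer D₀ Q hD₀N hQD₀i,
      mul_comm]
  have hmk : (Nat.card D₀).Coprime (Nat.card Q) := by
    rw [hn]; exact hD₀q.pow_right n
  have hsσ : Group.IsSolvable (sigmaCore M) :=
    Cfsg.Agent.Lib.Helper55.ms_solvable hG (fun h => hM.1 (top_le_iff.mp (h ▸ hσM)))
  have hKσn : K ≤ Subgroup.normalizer (sigmaCore M : Set G) := hKM.trans hMσn
  have hcopKσ : (Nat.card K).Coprime (Nat.card (sigmaCore M)) := by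
    apply Nat.coprime_of_dvd
    intro r hr h1 h2
    have hσ := hHall.2.1 r hr h2
    have hκ := hKU.hall.2.1 r hr h1
    exact hκ.2.2.1 hσ
  obtain ⟨D₁, hD₁σ, hD₁c, hKD₁⟩ := Cfsg.Agent.Lib.Helper32.exists_invariant_hall hKσn hcopKσ hsσ
    (Nat.card D₀) (Nat.card Q) hcardσ hmk
  obtain ⟨g, hgσ, hgD⟩ := Cfsg.Agent.Lib.Helper32.hall_conj_in (sigmaCore M) hsσ _ _ hcardσ hmk
    hD₀σ hD₁σ rfl hD₁c
  have hD₁n : Group.IsNilpotent D₁ := hgD ▸ isNilpotent_conj_smul hD₀n g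
  have hQD₁i : Q ⊓ D₁ = ⊥ :=
    disjoint_iff.mp (Subgroup.disjoint_of_coprime_natCard (by rw [hD₁c]; exact hmk.symm))
  have hD₁M : D₁ ≤ M := hD₁σ.trans hσM
  have hD₁N : D₁ ≤ Subgroup.normalizer (Q : Set G) := hD₁M.trans hQn
  have hQD₁ : Q ⊔ D₁ = sigmaCore M := by
    apply Subgroup.eq_of_le_of_card_ge (sup_le hQσ hD₁σ)
    rw [sup_comm, Cfsg.Agent.Lib.Helper32.card_sup_of_le_normalizer D₁ Q hD₁N hQD₁i, hcardσ,
      hD₁c, mul_comm]
  -- the key: `D₁'` centralizes `Q`, from P1 in `↥M`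
  have h30 := (Cfsg.Agent.S1430.result hG M hM K hKU.hall hK1).1
  have hkey : ⁅D₁, D₁⁆ ≤ Subgroup.centralizer (Q : Set G) := by
    have hQ'n : (Q.subgroupOf M).Normal :=
      (Subgroup.normal_subgroupOf_iff_le_normalizer hQM).mpr hQn
    have hQ'q : IsPGroup q (Q.subgroupOf M) := hQq.comap_subtype
    have hD'n : Group.IsNilpotent (D₁.subgroupOf M) :=
      (Group.isNilpotent_congr (Subgroup.subgroupOfEquivOfLe hD₁M)).mpr hD₁n
    have hD'c : Nat.card (D₁.subgroupOf M) = Nat.card D₁ :=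
      Nat.card_congr (Subgroup.subgroupOfEquivOfLe hD₁M).toEquiv
    have hK'c : Nat.card (K.subgroupOf M) = Nat.card K :=
      Nat.card_congr (Subgroup.subgroupOfEquivOfLe hKM).toEquiv
    have hK1' : K.subgroupOf M ≠ ⊥ := by
      intro h
      rw [Subgroup.subgroupOf_eq_bot, disjoint_iff, inf_eq_left.mpr hKM] at h
      exact hK1 h
    have hKD' : K.subgroupOf M ≤ Subgroup.normalizer ((D₁.subgroupOf M : Subgroup M) : Set M) := by
      intro k hk
      have hk' : (k : G) ∈ Subgroup.normalizer (D₁ : Set G) := hKD₁ (Subgroup.mem_subgroupOf.mp hk)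
      rw [Subgroup.mem_normalizer_iff] at hk' ⊢
      intro h
      rw [Subgroup.mem_subgroupOf, Subgroup.mem_subgroupOf]
      have := hk' (h : G)
      simpa using this
    have hcop' : (Nat.card (K.subgroupOf M)).Coprime (q * Nat.card (D₁.subgroupOf M)) := by
      rw [hK'c, hD'c, hD₁c]
      apply Nat.Coprime.mul_right
      · exact Nat.Coprime.coprime_dvd_right (hqQ.trans (Dvd.intro_left _ hcardσ.symm)) hcopKσ
      · exact Nat.Coprime.coprime_dvd_right (Dvd.intro _ hcardσ.symm) hcopKσ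
    have hfpf : ∀ k ∈ K.subgroupOf M, k ≠ 1 →
        D₁.subgroupOf M ⊓ Subgroup.centralizer ({k} : Set M) = ⊥ := by
      intro k hk hk1
      have hkK : (k : G) ∈ K := Subgroup.mem_subgroupOf.mp hk
      have hk1' : (k : G) ≠ 1 := fun h => hk1 (Subtype.ext h)
      have h := h30 (k : G) hkK hk1'
      rw [eq_bot_iff]
      rintro x ⟨hx1, hx2⟩
      have hxD : (x : G) ∈ D₁ := Subgroup.mem_subgroupOf.mp hx1
      have hxc : (x : G) ∈ sigmaCore M ⊓ Subgroup.centralizer ({(k : G)} : Set G) :=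
        ⟨hD₁σ hxD, (Cfsg.Agent.Lib.Helper14.BG151.coe_mem_centralizer_singleton_iff k x).mpr hx2⟩
      rw [h] at hxc
      have hxQ : (x : G) ∈ Q ⊓ D₁ := ⟨hKQ hxc, hxD⟩
      rw [hQD₁i, Subgroup.mem_bot] at hxQ
      rw [Subgroup.mem_bot]
      exact Subtype.ext hxQ
    have hprime : ∀ k ∈ K.subgroupOf M, k ≠ 1 →
        Q.subgroupOf M ⊓ Subgroup.centralizer ({k} : Set M) =
          Q.subgroupOf M ⊓ Subgroup.centralizer ((K.subgroupOf M : Subgroup M) : Set M) := by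
      intro k hk hk1
      have hkK : (k : G) ∈ K := Subgroup.mem_subgroupOf.mp hk
      have hk1' : (k : G) ≠ 1 := fun h => hk1 (Subtype.ext h)
      have h := h30 (k : G) hkK hk1'
      ext y
      constructor
      · rintro ⟨hy1, hy2⟩
        have hyQ : (y : G) ∈ Q := Subgroup.mem_subgroupOf.mp hy1
        have : (y : G) ∈ sigmaCore M ⊓ Subgroup.centralizer ({(k : G)} : Set G) :=
          ⟨hQσ hyQ, (Cfsg.Agent.Lib.Helper14.BG151.coe_mem_centralizer_singleton_iff k y).mpr hy2⟩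
        rw [h] at this
        exact ⟨hy1, (Cfsg.Agent.Lib.Helper14.BG151.coe_mem_centralizer_iff hKM y).mp this.2⟩
      · rintro ⟨hy1, hy2⟩
        have hyQ : (y : G) ∈ Q := Subgroup.mem_subgroupOf.mp hy1
        have : (y : G) ∈ sigmaCore M ⊓ Subgroup.centralizer (K : Set G) :=
          ⟨hQσ hyQ, (Cfsg.Agent.Lib.Helper14.BG151.coe_mem_centralizer_iff hKM y).mpr hy2⟩
        rw [← h] at this
        exact ⟨hy1, (Cfsg.Agent.Lib.Helper14.BG151.coe_mem_centralizer_singleton_iff k y).mp this.2⟩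
    have hcyc' : IsCyclic ↥(Q.subgroupOf M ⊓
        Subgroup.centralizer ((K.subgroupOf M : Subgroup M) : Set M)) := by
      let f : ↥(Q.subgroupOf M ⊓ Subgroup.centralizer ((K.subgroupOf M : Subgroup M) : Set M)) →*
          ↥(sigmaCore M ⊓ Subgroup.centralizer (K : Set G)) :=
        (M.subtype.comp (Subgroup.subtype _)).codRestrict _ (by
          intro y
          exact ⟨hQσ (Subgroup.mem_subgroupOf.mp y.2.1),
            (Cfsg.Agent.Lib.Helper14.BG151.coe_mem_centralizer_iff hKM y.1).mpr y.2.2⟩)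
      have hf : Function.Injective f := by
        intro a b hab
        have h1 : ((a : M) : G) = ((b : M) : G) := by
          have := congrArg Subtype.val hab
          exact this
        exact Subtype.ext (Subtype.ext h1)
      exact isCyclic_of_injective f hf
    have hres := hP1 hodd q (Q.subgroupOf M) (D₁.subgroupOf M) (K.subgroupOf M) hQ'q hD'n
      (by rw [hD'c, hD₁c]; exact hD₀q) hK1' hKD' hcop' hfpf hprime hcyc'
    rw [Subgroup.commutator_le]
    intro d₁ hd₁ d₂ hd₂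
    rw [Subgroup.mem_centralizer_iff]
    intro a ha
    have h1 : ⁅(⟨d₁, hD₁M hd₁⟩ : M), (⟨d₂, hD₁M hd₂⟩ : M)⁆ ∈
        ⁅D₁.subgroupOf M, D₁.subgroupOf M⁆ :=
      Subgroup.commutator_mem_commutator (Subgroup.mem_subgroupOf.mpr hd₁)
        (Subgroup.mem_subgroupOf.mpr hd₂)
    have h2 := hres h1
    rw [Subgroup.mem_centralizer_iff] at h2
    have h3 := h2 (⟨a, hQM ha⟩ : M) (Subgroup.mem_subgroupOf.mpr ha)
    have h4 := congrArg Subtype.val h3
    simpa [commutatorElement_def] using h4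
  -- assembly
  have h1 : ⁅sigmaCore M, sigmaCore M⁆ ≤ Q ⊔ ⁅D₁, D₁⁆ := by
    have := commutator_sup_le_of_le_normalizer hD₁N
    rwa [hQD₁] at this
  have hcD₁ : ⁅D₁, D₁⁆ ≤ D₁ :=
    Subgroup.commutator_le.mpr (fun a ha b hb => by
      rw [commutatorElement_def]
      exact D₁.mul_mem (D₁.mul_mem (D₁.mul_mem ha hb) (D₁.inv_mem ha)) (D₁.inv_mem hb))
  have h2 : Group.IsNilpotent ↥(Q ⊔ ⁅D₁, D₁⁆) := by
    apply isNilpotent_sup_of_commute hQq.isNilpotent (isNilpotent_of_le' hcD₁ hD₁n)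
    intro a ha b hb
    have := hkey hb
    rw [Subgroup.mem_centralizer_iff] at this
    exact this a ha
  exact isNilpotent_of_le' h1 h2

/-- **K-152-L1b** (exact spec signature). -/
theorem second_derived_le_of_structure {G : Type*} [Group G] [Finite G]
    (hG : IsMinSimpleOddOrder G) {M : Subgroup G} (hM : IsCoatom M) {K Q D : Subgroup G}
    (hKU : IsSigmaDecomposition M K ⊥) (hK1 : K ≠ ⊥) (q : ℕ) (hq : q.Prime)
    (hQn : M ≤ Subgroup.normalizer (Q : Set G)) (hQq : IsPGroup q Q)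
    (hcop : (Nat.card Q).Coprime (Q.relIndex M))
    (hKQ : sigmaCore M ⊓ Subgroup.centralizer (K : Set G) ≤ Q) (hQD : Q ⊔ D = sigmaCore M)
    (hD : Group.IsNilpotent D)
    (hcyc : IsCyclic ↥(sigmaCore M ⊓ Subgroup.centralizer (K : Set G))) :
    ⁅⁅M, M⁆, ⁅M, M⁆⁆ ≤ fittingOf M :=
  second_derived_le_of_structure_of hG hM hKU hK1 q hq hQn hQq hcop hKQ hQD hD hcyc
    (fun q _ H Q D h1 h2 h3 h4 h5 =>
      Cfsg.Agent.Lib.Helper28.BG152.exists_coprime_compl q H Q D h1 h2 h3 h4 h5)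
    (fun hodd q _ Q D K _ h1 h2 h3 h4 h5 h6 h7 h8 h9 =>
      Cfsg.Agent.Lib.Helper02.BG152.derived_le_centralizer hodd q Q D K h1 h2 h3 h4 h5 h6 h7 h8 h9)

end Cfsg.Agent.Lib.Helper60.BG152
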