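import Mathlib
import Cfsg.Prelude.Def_GeometricClasses
import Cfsg.Agent.Lib.Helper61.AschDefs
import Cfsg.Agent.Lib.Helper61.AschUDefs
import Cfsg.Agent.Lib.Helper04.AschUB6eDefs

/-!
# K-B6e-3 (keystone 26903, architect helper4): the image of `R₁ × R₂` under `tensPair` spans the matrix algebra
-/

set_option autoImplicit false

namespace Cfsg.Agent.Lib.Helper60.AschU

open Cfsg Cfsg.Geo Cfsg.Agent.Lib.Helper61.Asch Cfsg.Agent.Lib.Helper61.AschU Cfsg.Agent.Lib.Helper04.AschU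
open scoped Matrix Kronecker MatrixGroups

section Pure

variable {K : Type*} [Field K]

theorem kron_mem_span {a b : ℕ} (S₁ : Set (Matrix (Fin a) (Fin a) K)) (S₂ : Set (Matrix (Fin b) (Fin b) K))
    (h₁ : Submodule.span K S₁ = ⊤) (h₂ : Submodule.span K S₂ = ⊤)
    (A : Matrix (Fin a) (Fin a) K) (B : Matrix (Fin b) (Fin b) K) :
    A ⊗ₖ B ∈ Submodule.span K (Set.image2 (fun A B => A ⊗ₖ B) S₁ S₂) := by
  have hA : A ∈ Submodule.span K S₁ := by rw [h₁]; trivial
  have hB : B ∈ Submodule.span K S₂ := by rw [h₂]; trivial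
  have step1 : ∀ A₀ ∈ S₁, A₀ ⊗ₖ B ∈ Submodule.span K (Set.image2 (fun A B => A ⊗ₖ B) S₁ S₂) := by
    intro A₀ hA₀
    induction hB using Submodule.span_induction with
    | mem x hx => exact Submodule.subset_span ⟨A₀, hA₀, x, hx, rfl⟩
    | zero => rw [Matrix.kronecker_zero]; exact zero_mem _
    | add x y _ _ hx hy => rw [Matrix.kronecker_add]; exact add_mem hx hy
    | smul c x _ hx => rw [Matrix.kronecker_smul]; exact Submodule.smul_mem _ c hx
  induction hA using Submodule.span_induction with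
  | mem x hx => exact step1 x hx
  | zero => rw [Matrix.zero_kronecker]; exact zero_mem _
  | add x y _ _ hx hy => rw [Matrix.add_kronecker]; exact add_mem hx hy
  | smul c x _ hx => rw [Matrix.smul_kronecker]; exact Submodule.smul_mem _ c hx

theorem span_kron_eq_top {a b : ℕ} (S₁ : Set (Matrix (Fin a) (Fin a) K)) (S₂ : Set (Matrix (Fin b) (Fin b) K))
    (h₁ : Submodule.span K S₁ = ⊤) (h₂ : Submodule.span K S₂ = ⊤) :
    Submodule.span K (Set.image2 (fun A B => A ⊗ₖ B) S₁ S₂) = ⊤ := by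
  rw [eq_top_iff]
  intro X _
  rw [Matrix.matrix_eq_sum_single X]
  refine Submodule.sum_mem _ (fun p _ => Submodule.sum_mem _ (fun q _ => ?_))
  obtain ⟨i, k⟩ := p
  obtain ⟨j, l⟩ := q
  have h : Matrix.single (i, k) (j, l) (X (i, k) (j, l)) =
      (Matrix.single i j (X (i, k) (j, l))) ⊗ₖ (Matrix.single k l (1 : K)) := by
    rw [Matrix.single_kronecker_single, mul_one]
  rw [h]
  exact kron_mem_span S₁ S₂ h₁ h₂ _ _

end Pure

variable {F : Type*} [Field F] [Fintype F]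

variable {ι : Type} [Fintype ι] [DecidableEq ι] {a b : ℕ}

/-- K-B6e-3. -/
theorem spanAlg_map_tensPair (e : ι ≃ Fin a × Fin b) (P : GL ι F)
    (R₁ : Subgroup (GL (Fin a) F)) (R₂ : Subgroup (GL (Fin b) F))
    (h₁ : Submodule.span F (matrixSet R₁) = ⊤) (h₂ : Submodule.span F (matrixSet R₂) = ⊤) :
    spanAlg ((R₁.prod R₂).map (tensPair e P)) = ⊤ := by
  rw [eq_top_iff]
  intro Y _
  let Φ : Matrix (Fin a × Fin b) (Fin a × Fin b) F →ₗ[F] Matrix ι ι F :=
    { toFun := fun X => (P : Matrix ι ι F) * X.submatrix e e * ((P⁻¹ : GL ι F) : Matrix ι ι F)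
      map_add' := by
        intro X X'
        have h0 : (X + X').submatrix e e = X.submatrix e e + X'.submatrix e e := rfl
        rw [h0, Matrix.mul_add, Matrix.add_mul]
      map_smul' := by
        intro c X
        have h0 : (c • X).submatrix e e = c • X.submatrix e e := rfl
        rw [h0, Matrix.mul_smul, Matrix.smul_mul, RingHom.id_apply] }
  have hΦ : ∀ X, Φ X = (P : Matrix ι ι F) * X.submatrix e e * ((P⁻¹ : GL ι F) : Matrix ι ι F) :=
    fun X => rfl
  obtain ⟨X, hX⟩ : ∃ X, Φ X = Y := by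
    refine ⟨(((P⁻¹ : GL ι F) : Matrix ι ι F) * Y * (P : Matrix ι ι F)).submatrix e.symm e.symm, ?_⟩
    rw [hΦ]
    have h1 : ((((P⁻¹ : GL ι F) : Matrix ι ι F) * Y * (P : Matrix ι ι F)).submatrix e.symm e.symm).submatrix e e
        = ((P⁻¹ : GL ι F) : Matrix ι ι F) * Y * (P : Matrix ι ι F) := by
      ext i j; simp
    rw [h1]
    calc (P : Matrix ι ι F) * (((P⁻¹ : GL ι F) : Matrix ι ι F) * Y * (P : Matrix ι ι F)) *
          ((P⁻¹ : GL ι F) : Matrix ι ι F)
        = ((P : Matrix ι ι F) * ((P⁻¹ : GL ι F) : Matrix ι ι F)) * Y *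
          ((P : Matrix ι ι F) * ((P⁻¹ : GL ι F) : Matrix ι ι F)) := by simp only [Matrix.mul_assoc]
      _ = Y := by rw [Units.mul_inv, Matrix.one_mul, Matrix.mul_one]
  have hXmem : X ∈ Submodule.span F (Set.image2 (fun A B => A ⊗ₖ B) (matrixSet R₁) (matrixSet R₂)) := by
    rw [span_kron_eq_top _ _ h₁ h₂]; trivial
  have hYmem : Φ X ∈ Submodule.span F (Φ '' (Set.image2 (fun A B => A ⊗ₖ B) (matrixSet R₁) (matrixSet R₂))) := by
    rw [← Submodule.map_span]; exact Submodule.mem_map_of_mem hXmem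
  have hsub : Φ '' (Set.image2 (fun A B => A ⊗ₖ B) (matrixSet R₁) (matrixSet R₂)) ⊆
      matrixSet ((R₁.prod R₂).map (tensPair e P)) := by
    rintro _ ⟨_, ⟨A', ⟨A, hA, rfl⟩, B', ⟨B, hB, rfl⟩, rfl⟩, rfl⟩
    refine ⟨tensPair e P (A, B), Subgroup.mem_map.mpr ⟨(A, B), Subgroup.mem_prod.mpr ⟨hA, hB⟩, rfl⟩, ?_⟩
    show ((tensPair e P (A, B) : GL ι F) : Matrix ι ι F) = _
    rw [tensPair_val, hΦ]
  rw [← hX]
  have h3 := Algebra.span_le_adjoin F _ (Submodule.span_mono hsub hYmem)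
  exact h3

end Cfsg.Agent.Lib.Helper60.AschU
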