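import Mathlib

set_option autoImplicit false

namespace Cfsg.Agent.Lib.Helper60

/-- membership in a conjugate Sylow subgroup -/
theorem mem_smul_sylow_iff {G : Type*} [Group G] {p : ℕ} (P : Sylow p G) (g a : G) :
    a ∈ ((g • P : Sylow p G) : Subgroup G) ↔ g⁻¹ * a * g ∈ (P : Subgroup G) := by
  rw [Sylow.coe_subgroup_smul]
  constructor
  · rintro ⟨b, hb, rfl⟩
    have hb' : b ∈ (P : Subgroup G) := hb
    simpa [MulAut.smul_def, mul_assoc] using hb'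
  · intro hb
    exact ⟨_, hb, by simp [MulAut.smul_def, mul_assoc]⟩

/-- Sylow's theorem inside a subgroup `N`: a `p`-subgroup `Q ≤ N` is `N`-conjugate into any given
Sylow `p`-subgroup of `N`. -/
theorem exists_conj_mem_sylow_of_le {G : Type*} [Group G] [Finite G] {p : ℕ} [Fact p.Prime]
    (N : Subgroup G) (P' : Sylow p ↥N) (Q : Subgroup G) (hQN : Q ≤ N) (hQ : IsPGroup p ↥Q) :
    ∃ h ∈ N, ∀ q ∈ Q, h * q * h⁻¹ ∈ (P' : Subgroup ↥N).map N.subtype := by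
  have hQ' : IsPGroup p ↥(Q.subgroupOf N) := hQ.comap_subtype
  obtain ⟨Q', hQ'le⟩ := hQ'.exists_le_sylow
  obtain ⟨h, hh⟩ := MulAction.exists_smul_eq ↥N Q' P'
  refine ⟨(h : G), h.2, ?_⟩
  intro q hq
  have hq' : (⟨q, hQN hq⟩ : ↥N) ∈ (Q' : Subgroup ↥N) :=
    hQ'le (by simpa [Subgroup.mem_subgroupOf] using hq)
  have h4 : h * ⟨q, hQN hq⟩ * h⁻¹ ∈ (P' : Subgroup ↥N) := by
    rw [← hh, mem_smul_sylow_iff]
    simpa [mul_assoc] using hq'
  exact ⟨_, h4, by simp⟩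

/-- Sylow's theorem inside a subgroup `N` containing a Sylow `p`-subgroup `P` of `G`. -/
theorem exists_conj_mem_of_sylow_le {G : Type*} [Group G] [Finite G] {p : ℕ} [Fact p.Prime]
    (P : Sylow p G) (N : Subgroup G) (hPN : (P : Subgroup G) ≤ N) (Q : Subgroup G) (hQN : Q ≤ N)
    (hQ : IsPGroup p ↥Q) :
    ∃ h ∈ N, ∀ q ∈ Q, h * q * h⁻¹ ∈ (P : Subgroup G) := by
  obtain ⟨h, hhN, hh⟩ := exists_conj_mem_sylow_of_le N (P.subtype hPN) Q hQN hQ
  refine ⟨h, hhN, ?_⟩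
  intro q hq
  obtain ⟨y, hy, hyq⟩ := hh q hq
  rw [SetLike.mem_coe, Sylow.coe_subtype, Subgroup.mem_subgroupOf] at hy
  rw [← hyq]
  exact hy

end Cfsg.Agent.Lib.Helper60
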