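import Mathlib
import Cfsg.Prelude.Def_CaseTheorems
import Cfsg.Agent.Lib.Helper97.UniqueOrderP
import Cfsg.Agent.Lib.Helper12.FourGroup
import Cfsg.Agent.Lib.Helper40.Cores
import Cfsg.Agent.Lib.Helper20.SylowNormal

/-!
# Groups of 2-rank one

A finite group of even order without Klein four-subgroups has a Sylow 2-subgroup which is
cyclic or generalized quaternion.  In the cyclic case the group has a normal 2-complement
(Burnside); in the quaternion case the Brauer--Suzuki theorem (taken as a hypothesis `BS`)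
applies to `G / O(G)`.  In both cases some involution is central modulo `O(G)`.
-/

set_option autoImplicit false

namespace Cfsg.Agent.Lib.Helper60.TwoRankOne

open Cfsg

variable {G : Type*} [Group G] [Finite G]

/-- without Klein four-subgroups two commuting involutions are equal -/
theorem eq_of_commuting_involutions (hrank : ∀ E : Subgroup G, ¬ IsKleinFour E) {a b : G}
    (ha : orderOf a = 2) (hb : orderOf b = 2) (hab : a * b = b * a) : a = b := by
  by_contra hne
  have haa : a * a = 1 := by rw [← pow_two, ← ha]; exact pow_orderOf_eq_one a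
  have hbb : b * b = 1 := by rw [← pow_two, ← hb]; exact pow_orderOf_eq_one b
  have ha1 : a ≠ 1 := by rintro rfl; simp at ha
  have hb1 : b ≠ 1 := by rintro rfl; simp at hb
  exact hrank _ (Cfsg.Agent.Lib.Helper12.isKleinFour_fourSub haa hbb hab ha1 hb1 hne)

/-- in a nontrivial `2`-subgroup without Klein four-subgroups all involutions coincide -/
theorem involution_unique (hrank : ∀ E : Subgroup G, ¬ IsKleinFour E) (S : Subgroup G)
    (hS : IsPGroup 2 S) {a b : G} (haS : a ∈ S) (hbS : b ∈ S)
    (ha : orderOf a = 2) (hb : orderOf b = 2) : a = b := by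
  haveI : Fact (Nat.Prime 2) := ⟨Nat.prime_two⟩
  haveI : Nontrivial S := by
    refine ⟨⟨⟨a, haS⟩, 1, ?_⟩⟩
    intro h
    have : a = 1 := congrArg Subtype.val h
    rw [this] at ha; simp at ha
  haveI : Nontrivial (Subgroup.center S) := hS.center_nontrivial
  have h2 : 2 ∣ Nat.card (Subgroup.center S) := by
    obtain ⟨n, hn⟩ := (hS.to_subgroup (Subgroup.center S)).exists_card_eq
    rw [hn]
    have : n ≠ 0 := by
      rintro rfl
      have h1 : Nat.card (Subgroup.center S) = 1 := by simpa using hn
      have := Finite.one_lt_card (α := Subgroup.center S)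
      omega
    exact dvd_pow_self 2 this
  obtain ⟨w, hw⟩ := exists_prime_orderOf_dvd_card' 2 h2
  have hwc : ∀ s : S, s * (w : S) = (w : S) * s := fun s =>
    (Subgroup.mem_center_iff.mp w.2 s)
  have hwG : orderOf (((w : S) : G)) = 2 := by
    rw [Subgroup.orderOf_coe, Subgroup.orderOf_coe]; exact hw
  have h1 : a = ((w : S) : G) := by
    apply eq_of_commuting_involutions hrank ha hwG
    have := congrArg Subtype.val (hwc ⟨a, haS⟩)
    simpa using this
  have h2 : b = ((w : S) : G) := by
    apply eq_of_commuting_involutions hrank hb hwG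
    have := congrArg Subtype.val (hwc ⟨b, hbS⟩)
    simpa using this
  rw [h1, h2]

/-- a `2`-subgroup of a group without Klein four-subgroups is cyclic or generalized quaternion -/
theorem cyclic_or_quaternion (hrank : ∀ E : Subgroup G, ¬ IsKleinFour E) (S : Subgroup G)
    (hS : IsPGroup 2 S) : IsCyclic S ∨ ∃ n : ℕ, Nonempty (S ≃* QuaternionGroup (2 ^ n)) := by
  by_cases hc : IsCyclic S
  · exact Or.inl hc
  · right
    apply Cfsg.Agent.Lib.Helper97.quaternion_of_uniqueOrderP_two hS _ hc
    intro x y hx hy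
    have hxG : orderOf (x : G) = 2 := by rw [Subgroup.orderOf_coe]; exact hx
    have hyG : orderOf (y : G) = 2 := by rw [Subgroup.orderOf_coe]; exact hy
    have : (y : G) = (x : G) := involution_unique hrank S hS y.2 x.2 hyG hxG
    have hyx : y = x := Subtype.ext this
    rw [hyx]
    exact Subgroup.mem_zpowers x


theorem odd_card_oddCore' : Odd (Nat.card (oddCore G)) := by
  rw [← Nat.not_even_iff_odd, even_iff_two_dvd]
  intro h
  have h1 : (Nat.card (oddCore G)).Coprime 2 := Cfsg.Agent.Lib.Helper40.pPrimeCore_card_coprime' 2 G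
  have h2 := Nat.Coprime.eq_one_of_dvd h1.symm h
  omega

/-- an involution of `G / O(G)` lifts to an involution of `G` -/
theorem exists_lift_involution {q : G ⧸ oddCore G} (hq : orderOf q = 2) :
    ∃ z : G, orderOf z = 2 ∧ QuotientGroup.mk' (oddCore G) z = q := by
  obtain ⟨g, rfl⟩ := QuotientGroup.mk'_surjective (oddCore G) q
  have hodd : Odd (Nat.card (oddCore G)) := odd_card_oddCore'
  obtain ⟨k, hk⟩ := hodd
  have hq2 : (QuotientGroup.mk' (oddCore G) g) ^ 2 = 1 := by
    have := pow_orderOf_eq_one (QuotientGroup.mk' (oddCore G) g)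
    rwa [hq] at this
  have hq1 : QuotientGroup.mk' (oddCore G) g ≠ 1 := by
    intro h; rw [h] at hq; simp at hq
  have hg2 : g ^ 2 ∈ oddCore G := by
    rw [← QuotientGroup.eq_one_iff, ← QuotientGroup.mk'_apply, map_pow]; exact hq2
  have hmk : QuotientGroup.mk' (oddCore G) (g ^ Nat.card (oddCore G)) =
      QuotientGroup.mk' (oddCore G) g := by
    rw [map_pow, hk, pow_succ, pow_mul, hq2, one_pow, one_mul]
  refine ⟨g ^ Nat.card (oddCore G), ?_, hmk⟩
  have h1 : (g ^ Nat.card (oddCore G)) ^ 2 = 1 := by
    rw [← pow_mul, mul_comm, pow_mul]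
    have h3 : ((⟨g ^ 2, hg2⟩ : oddCore G) ^ Nat.card (oddCore G)) = 1 := pow_card_eq_one'
    have h4 := congrArg Subtype.val h3
    rw [Subgroup.coe_pow, Subgroup.coe_one] at h4
    exact h4
  have h2 : g ^ Nat.card (oddCore G) ≠ 1 := by
    intro h
    rw [h, map_one] at hmk
    exact hq1 hmk.symm
  exact orderOf_eq_prime h1 h2

/-- **2-rank one, modulo Brauer--Suzuki.**  Let `G` have even order and no Klein four-subgroup.
If the Brauer--Suzuki theorem holds for `G / O(G)` (hypothesis `BS`), some involution of `G` is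
central modulo a normal subgroup of odd order. -/
theorem main
    (BS : ∀ (T : Sylow 2 (G ⧸ oddCore G)) (n : ℕ),
      ((T : Subgroup (G ⧸ oddCore G)) ≃* QuaternionGroup (2 ^ (n + 1))) →
      (∀ N : Subgroup (G ⧸ oddCore G), N.Normal → Odd (Nat.card N) → N = ⊥) →
      Nat.card (Subgroup.center (G ⧸ oddCore G)) = 2)
    (heven : Even (Nat.card G)) (hrank : ∀ E : Subgroup G, ¬ IsKleinFour E) :
    ∃ z : G, orderOf z = 2 ∧ ∃ N : Subgroup G, N.Normal ∧ Odd (Nat.card N) ∧
      ∀ g : G, z * g * z⁻¹ * g⁻¹ ∈ N := by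
  haveI : Fact (Nat.Prime 2) := ⟨Nat.prime_two⟩
  have h2 : 2 ∣ Nat.card G := even_iff_two_dvd.mp heven
  let S : Sylow 2 G := default
  -- the cyclic case
  have hcyc : IsCyclic (S : Subgroup G) → ∃ z : G, orderOf z = 2 ∧ ∃ N : Subgroup G,
      N.Normal ∧ Odd (Nat.card N) ∧ ∀ g : G, z * g * z⁻¹ * g⁻¹ ∈ N := by
    intro hc
    obtain ⟨K, hKn, hKodd, hKS, -⟩ :=
      Cfsg.Agent.Lib.Helper20.exists_normal_two_complement (S : Subgroup G) hc S.isPGroup'
        S.not_dvd_index h2
    obtain ⟨z, hz⟩ := exists_prime_orderOf_dvd_card' 2 h2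
    refine ⟨z, hz, K, hKn, hKodd, ?_⟩
    haveI : IsMulCommutative (S : Subgroup G) := by
      obtain ⟨g, hg⟩ := hc
      refine ⟨⟨fun a b => ?_⟩⟩
      obtain ⟨i, rfl⟩ := hg a
      obtain ⟨j, rfl⟩ := hg b
      exact (Commute.zpow_zpow_self g i j).eq
    have hle : commutator G ≤ K :=
      Subgroup.Normal.commutator_le_of_self_sup_commutative_eq_top hKS inferInstance
    intro g
    apply hle
    rw [commutator_def]
    exact Subgroup.commutator_mem_commutator (Subgroup.mem_top z) (Subgroup.mem_top g)
  rcases cyclic_or_quaternion hrank (S : Subgroup G) S.isPGroup' with hc | ⟨n, ⟨e⟩⟩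
  · exact hcyc hc
  · rcases n with _ | n
    · -- the quaternion group of order four is cyclic
      apply hcyc
      have : IsCyclic (QuaternionGroup (2 ^ 0)) := by
        rw [pow_zero]; exact QuaternionGroup.quaternionGroup_one_isCyclic
      exact isCyclic_of_surjective e.symm e.symm.surjective
    · -- the Brauer--Suzuki case
      let T : Sylow 2 (G ⧸ oddCore G) := S.mapSurjective (QuotientGroup.mk'_surjective (oddCore G))
      let f : (S : Subgroup G) →* G ⧸ oddCore G :=
        (QuotientGroup.mk' (oddCore G)).comp (S : Subgroup G).subtype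
      have hf : Function.Injective f := by
        rw [injective_iff_map_eq_one]
        intro x hx
        have hxO : (x : G) ∈ oddCore G := by
          rw [← QuotientGroup.eq_one_iff]; exact hx
        have h3 : (x : G) ∈ (S : Subgroup G) ⊓ pPrimeCore 2 G := ⟨x.2, hxO⟩
        rw [Cfsg.Agent.Lib.Helper40.sylow_inf_pPrimeCore S, Subgroup.mem_bot] at h3
        exact Subtype.ext h3
      have hrange : f.range = (T : Subgroup (G ⧸ oddCore G)) := by
        rw [Sylow.coe_mapSurjective]
        ext y
        constructor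
        · rintro ⟨x, rfl⟩
          exact ⟨x, x.2, rfl⟩
        · rintro ⟨x, hx, rfl⟩
          exact ⟨⟨x, hx⟩, rfl⟩
      let e' : (T : Subgroup (G ⧸ oddCore G)) ≃* QuaternionGroup (2 ^ (n + 1)) :=
        ((MulEquiv.subgroupCongr hrange).symm.trans (MonoidHom.ofInjective hf).symm).trans e
      have hcore : ∀ N : Subgroup (G ⧸ oddCore G), N.Normal → Odd (Nat.card N) → N = ⊥ := by
        intro N hN hodd
        have hcop : (Nat.card N).Coprime 2 := Nat.Coprime.symm (Nat.coprime_two_left.mpr hodd)
        have h3 := Cfsg.Agent.Lib.Helper40.le_pPrimeCore' N hN hcop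
        have h4 : pPrimeCore 2 (G ⧸ oddCore G) = ⊥ :=
          Cfsg.Agent.Lib.Helper40.pPrimeCore_quotient_eq_bot 2 G
        exact le_bot_iff.mp (h3.trans_eq h4)
      have hcen := BS T n e' hcore
      have h2c : 2 ∣ Nat.card (Subgroup.center (G ⧸ oddCore G)) := by rw [hcen]
      obtain ⟨w, hw⟩ := exists_prime_orderOf_dvd_card' 2 h2c
      have hwQ : orderOf ((w : G ⧸ oddCore G)) = 2 := by rw [Subgroup.orderOf_coe]; exact hw
      obtain ⟨z, hz, hzw⟩ := exists_lift_involution hwQ
      refine ⟨z, hz, oddCore G, inferInstance, odd_card_oddCore', ?_⟩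
      intro g
      rw [← QuotientGroup.eq_one_iff, ← QuotientGroup.mk'_apply]
      simp only [map_mul, map_inv]
      rw [hzw]
      have := Subgroup.mem_center_iff.mp w.2 (QuotientGroup.mk' (oddCore G) g)
      rw [← this]
      group

end Cfsg.Agent.Lib.Helper60.TwoRankOne
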