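import Mathlib

set_option autoImplicit false

namespace Cfsg.Agent.Lib.Helper60

open MulAction

/-- The homomorphism to `ℤˣ` with kernel a given subgroup of index two. -/
noncomputable def signHom {H : Type*} [Group H] (K : Subgroup H) (hK : K.index = 2) : H →* ℤˣ where
  toFun h := by classical exact if h ∈ K then 1 else -1
  map_one' := by simp [K.one_mem]
  map_mul' a b := by
    classical
    have := Subgroup.mul_mem_iff_of_index_two hK (a := a) (b := b)
    by_cases ha : a ∈ K <;> by_cases hb : b ∈ K <;> simp [ha, hb, this]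

theorem signHom_apply_of_mem {H : Type*} [Group H] (K : Subgroup H) (hK : K.index = 2) (h : H)
    (hh : h ∈ K) : signHom K hK h = 1 := by
  classical
  simp [signHom, hh]

theorem signHom_apply_of_not_mem {H : Type*} [Group H] (K : Subgroup H) (hK : K.index = 2) (h : H)
    (hh : h ∉ K) : signHom K hK h = -1 := by
  classical
  simp [signHom, hh]

/-- **Thompson's transfer lemma**, generalized to elements of order `2 ^ n`: let `S` be a Sylow
`2`-subgroup of the finite group `G`, `M` a subgroup of index two in `S` such that all elements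
of `S` outside `M` have order bigger than `2 ^ (n - 1)`. If `x ∈ S` has order `2 ^ n` and no
conjugate of `x` lies in `M`, then `G` has a normal subgroup of index two not containing `x`. -/
theorem thompson_transfer_general {G : Type*} [Group G] [Finite G] (S : Sylow 2 G)
    (M : Subgroup G) (hM : M.relIndex (S : Subgroup G) = 2)
    (n : ℕ) (hn : 1 ≤ n) (hord : ∀ y ∈ (S : Subgroup G), y ∉ M → 2 ^ (n - 1) < orderOf y)
    (x : G) (hxn : orderOf x = 2 ^ n)
    (hnc : ∀ g : G, g * x * g⁻¹ ∉ M) :
    ∃ N : Subgroup G, N.Normal ∧ N.index = 2 ∧ x ∉ N := by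
  classical
  have hM' : (M.subgroupOf (S : Subgroup G)).index = 2 := hM
  set ϕ : ↥(S : Subgroup G) →* ℤˣ := signHom (M.subgroupOf (S : Subgroup G)) hM' with hϕ
  have hϕ1 : ∀ s : ↥(S : Subgroup G), (s : G) ∈ M → ϕ s = 1 := by
    intro s hs
    exact signHom_apply_of_mem _ _ _ (by rw [Subgroup.mem_subgroupOf]; exact hs)
  have hϕ2 : ∀ s : ↥(S : Subgroup G), (s : G) ∉ M → ϕ s = -1 := by
    intro s hs
    exact signHom_apply_of_not_mem _ _ _ (by rw [Subgroup.mem_subgroupOf]; exact hs)
  let _ : Fintype (Quotient (orbitRel (Subgroup.zpowers x) (G ⧸ (S : Subgroup G)))) :=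
    Fintype.ofFinite _
  have key : MonoidHom.transfer ϕ x = -1 := by
    rw [MonoidHom.transfer_eq_prod_quotient_orbitRel_zpowers_quot]
    have hgen : ∀ (r : ℕ) (g₀ : G) (hmem : g₀⁻¹ * x ^ r * g₀ ∈ (S : Subgroup G)), r ∣ 2 ^ n →
        ϕ ⟨g₀⁻¹ * x ^ r * g₀, hmem⟩ = (-1 : ℤˣ) ^ r := by
      intro r g₀ hmem hdvd
      obtain ⟨j, hjn, hj⟩ := (Nat.dvd_prime_pow Nat.prime_two).mp hdvd
      rcases Nat.eq_zero_or_pos j with hj0 | hjpos
      · -- r = 1
        have hr1 : r = 1 := by rw [hj, hj0, pow_zero]
        subst hr1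
        have h := hϕ2 ⟨g₀⁻¹ * x ^ 1 * g₀, hmem⟩ (by simpa using hnc g₀⁻¹)
        rw [h]
        exact (pow_one _).symm
      · -- r even
        have hev : Even r := by
          rw [hj]; exact (Nat.even_pow' hjpos.ne').mpr even_two
        rw [hev.neg_one_pow]
        apply hϕ1
        by_contra hnot
        have hlt := hord _ hmem hnot
        have hconj : orderOf (g₀⁻¹ * x ^ r * g₀) = orderOf (x ^ r) := by
          have : g₀⁻¹ * x ^ r * g₀ = MulAut.conj (g₀⁻¹) (x ^ r) := by
            simp
          rw [this, MulEquiv.orderOf_eq]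
        rw [hconj, orderOf_pow, hxn, hj, Nat.gcd_eq_right (pow_dvd_pow 2 hjn),
          Nat.pow_div hjn (by norm_num)] at hlt
        have : n - j ≤ n - 1 := by omega
        have := Nat.pow_le_pow_right (show 0 < 2 by norm_num) this
        omega
    have hterm : ∀ q : Quotient (orbitRel (Subgroup.zpowers x) (G ⧸ (S : Subgroup G))),
        ϕ ⟨q.out.out⁻¹ * x ^ Function.minimalPeriod (x • ·) q.out * q.out.out,
            QuotientGroup.out_conj_pow_minimalPeriod_mem (S : Subgroup G) x q.out⟩ =
          (-1 : ℤˣ) ^ Function.minimalPeriod (x • ·) q.out := by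
      intro q
      apply hgen
      have hper : Function.IsPeriodicPt (x • ·) (2 ^ n) q.out := by
        have h1 : ((x • ·) : G ⧸ (S : Subgroup G) → G ⧸ (S : Subgroup G))^[2 ^ n] q.out =
            x ^ (2 ^ n) • q.out := by
          rw [smul_iterate]
        show ((x • ·) : G ⧸ (S : Subgroup G) → G ⧸ (S : Subgroup G))^[2 ^ n] q.out = q.out
        rw [h1, ← hxn, pow_orderOf_eq_one, one_smul]
      exact hper.minimalPeriod_dvd
    rw [Finset.prod_congr rfl (fun q _ => hterm q), Finset.prod_pow_eq_pow_sum,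
      ← Subgroup.index_eq_sum_minimalPeriod]
    have hodd : Odd (S : Subgroup G).index := by
      rw [← Nat.not_even_iff_odd, even_iff_two_dvd]
      exact S.not_dvd_index
    exact hodd.neg_one_pow
  refine ⟨(MonoidHom.transfer ϕ).ker, inferInstance, ?_, ?_⟩
  · rw [Subgroup.index_ker]
    have htop : (MonoidHom.transfer ϕ).range = ⊤ := by
      rw [eq_top_iff]
      intro u _
      rcases Int.units_eq_one_or u with h | h
      · rw [h]; exact Subgroup.one_mem _
      · rw [h, ← key]; exact ⟨x, rfl⟩
    rw [htop, Subgroup.card_top, Nat.card_eq_fintype_card, Fintype.card_units_int]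
  · rw [MonoidHom.mem_ker, key]
    decide

end Cfsg.Agent.Lib.Helper60
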