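import Mathlib
import Cfsg.Agent.Lib.Helper60.SL2
import Cfsg.Agent.Lib.Helper07.SLCard

set_option autoImplicit false

namespace Cfsg.Agent.Lib.Helper60

open Matrix

/-- A second element of order four in `SL₂`, not commuting with `sl2w`. -/
def sl2v (F : Type*) [Field F] : Matrix.SpecialLinearGroup (Fin 2) F :=
  ⟨!![1, -2; 1, -1], by simp [Matrix.det_fin_two]; ring⟩

theorem sl2v_sq (F : Type*) [Field F] : sl2v F ^ 2 = -1 := by
  apply Subtype.ext
  rw [sl2_sq_entries]
  ext i j
  fin_cases i <;> fin_cases j <;> simp [sl2v] <;> ring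

theorem sl2_mul_entries {F : Type*} [Field F] (A B : Matrix.SpecialLinearGroup (Fin 2) F) :
    ((A * B : Matrix.SpecialLinearGroup (Fin 2) F) : Matrix (Fin 2) (Fin 2) F) =
      !![A.1 0 0 * B.1 0 0 + A.1 0 1 * B.1 1 0, A.1 0 0 * B.1 0 1 + A.1 0 1 * B.1 1 1;
         A.1 1 0 * B.1 0 0 + A.1 1 1 * B.1 1 0, A.1 1 0 * B.1 0 1 + A.1 1 1 * B.1 1 1] := by
  ext i j
  fin_cases i <;> fin_cases j <;>
    simp [Matrix.mul_apply, Fin.sum_univ_two]

theorem sl2w_sl2v_not_comm (F : Type*) [Field F] : sl2w F * sl2v F ≠ sl2v F * sl2w F := by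
  intro h
  have h1 := congrArg (fun M : Matrix.SpecialLinearGroup (Fin 2) F => M.1 0 0) h
  simp only [sl2_mul_entries] at h1
  simp [sl2w, sl2v] at h1
  have : (1 : F) = 0 := by linear_combination (-1) * h1
  exact one_ne_zero this

/-- An element of `SL₂(F)` commuting with `sl2w` and `sl2v` is `±1`. -/
theorem sl2_comm_w_v {F : Type*} [Field F] (g : Matrix.SpecialLinearGroup (Fin 2) F)
    (hw : g * sl2w F = sl2w F * g) (hv : g * sl2v F = sl2v F * g) : g = 1 ∨ g = -1 := by
  have hdet := sl2_det g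
  have hw' := congrArg (fun M : Matrix.SpecialLinearGroup (Fin 2) F => M.1) hw
  have hv' := congrArg (fun M : Matrix.SpecialLinearGroup (Fin 2) F => M.1) hv
  simp only [sl2_mul_entries] at hw' hv'
  set a := g.1 0 0 with ha
  set b := g.1 0 1 with hb
  set c := g.1 1 0 with hc
  set d := g.1 1 1 with hd
  have w00 := congrFun (congrFun hw' 0) 0
  have w01 := congrFun (congrFun hw' 0) 1
  have v00 := congrFun (congrFun hv' 0) 0
  simp [sl2w, sl2v] at w00 w01 v00
  -- w00 : b = -c ; w01 : -a = -d ; v00 : a + b = a - 2 c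
  have hbc : b = -c := by linear_combination w00
  have had : a = d := by linear_combination w01
  have hc0 : c = 0 := by linear_combination v00 - w00
  have hb0 : b = 0 := by rw [hbc, hc0, neg_zero]
  have haa : a * a = 1 := by rw [← had, hb0] at hdet; simpa using hdet
  rcases mul_self_eq_one_iff.mp haa with h1 | h1
  · left
    ext i j
    fin_cases i <;> fin_cases j <;> simp [← ha, ← hb, ← hc, ← hd, hb0, hc0, ← had, h1]
  · right
    ext i j
    fin_cases i <;> fin_cases j <;> simp [← ha, ← hb, ← hc, ← hd, hb0, hc0, ← had, h1]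

/-- `|SL₂(q)| = q³ - q` in the form `q * (q * q - 1)`. -/
theorem card_sl2 {F : Type*} [Field F] [Fintype F] :
    Nat.card (Matrix.SpecialLinearGroup (Fin 2) F) =
      Fintype.card F * (Fintype.card F * Fintype.card F - 1) := by
  have h := Cfsg.Agent.Lib.Helper07.card_sl_mul (F := F) 2 (by norm_num)
  rw [Fin.prod_univ_two] at h
  simp only [Fin.val_zero, Fin.val_one, pow_zero, pow_one] at h
  have hq : 2 ≤ Fintype.card F := Fintype.one_lt_card
  set q := Fintype.card F with hqdef
  obtain ⟨k, hk⟩ : ∃ k, q = k + 2 := ⟨q - 2, by omega⟩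
  have h1 : q - 1 = k + 1 := by omega
  have h2 : q ^ 2 - 1 = (k + 1) * (k + 3) := by
    rw [hk]
    have : (k + 2) ^ 2 = (k + 1) * (k + 3) + 1 := by ring
    rw [this]; omega
  have h3 : q ^ 2 - q = (k + 1) * (k + 2) := by
    rw [hk]
    have : (k + 2) ^ 2 = (k + 1) * (k + 2) + (k + 2) := by ring
    rw [this]; omega
  have h4 : q * q - 1 = (k + 1) * (k + 3) := by
    rw [← pow_two]; exact h2
  rw [h1, h2, h3] at h
  rw [h4, hk]
  have hpos : 0 < k + 1 := by omega
  apply Nat.eq_of_mul_eq_mul_left hpos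
  rw [h]; ring

theorem card_sl2_inj {F₁ : Type*} [Field F₁] [Fintype F₁] {F₂ : Type*} [Field F₂] [Fintype F₂]
    (h : Nat.card (Matrix.SpecialLinearGroup (Fin 2) F₁) =
      Nat.card (Matrix.SpecialLinearGroup (Fin 2) F₂)) :
    Fintype.card F₁ = Fintype.card F₂ := by
  rw [card_sl2, card_sl2] at h
  have h1 : 2 ≤ Fintype.card F₁ := Fintype.one_lt_card
  have h2 : 2 ≤ Fintype.card F₂ := Fintype.one_lt_card
  set q₁ := Fintype.card F₁
  set q₂ := Fintype.card F₂
  have mono : ∀ a b : ℕ, 2 ≤ a → a < b → a * (a * a - 1) < b * (b * b - 1) := by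
    intro a b ha hab
    have h3 : a * a < b * b := Nat.mul_self_lt_mul_self hab
    have h4 : a * a - 1 < b * b - 1 := by
      have : 1 ≤ a * a := by nlinarith
      omega
    have h5 : 0 < a * a - 1 := by
      have : 4 ≤ a * a := by nlinarith
      omega
    calc a * (a * a - 1) < b * (a * a - 1) := Nat.mul_lt_mul_of_pos_right hab h5
      _ ≤ b * (b * b - 1) := Nat.mul_le_mul_left b h4.le
  rcases lt_trichotomy q₁ q₂ with hlt | heq | hgt
  · exact absurd h (mono q₁ q₂ h1 hlt).ne
  · exact heq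
  · exact absurd h.symm (mono q₂ q₁ h2 hgt).ne

/-- Abstract properties of a subgroup `L ≅ SL₂(F)` (`F` finite of odd order) with respect to its
central involution `j`. -/
structure SL2Like {G : Type*} [Group G] (L : Subgroup G) (j : G) : Prop where
  j_mem : j ∈ L
  inv : ∀ a ∈ L, a ^ 2 = 1 → a = 1 ∨ a = j
  exists_nc : ∃ u ∈ L, ∃ v ∈ L, u ^ 2 = j ∧ v ^ 2 = j ∧ u * v ≠ v * u
  cent : ∀ g ∈ L, (∀ u ∈ L, u ^ 2 = j → g * u = u * g) → g = 1 ∨ g = j

theorem sl2Like_of_equiv {G : Type*} [Group G] {F : Type*} [Field F] [Fintype F]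
    (hF : Odd (Fintype.card F)) (L : Subgroup G)
    (e : ↥L ≃* Matrix.SpecialLinearGroup (Fin 2) F) (j : G) (hj : orderOf j = 2) (hjL : j ∈ L) :
    SL2Like L j := by
  have h2 : (2 : F) ≠ 0 := two_ne_zero_of_odd_card hF
  have hj1 : j ≠ 1 := by
    intro h; rw [h, orderOf_one] at hj; omega
  have hjsq : j ^ 2 = 1 := by rw [← hj]; exact pow_orderOf_eq_one j
  have hej : e ⟨j, hjL⟩ = -1 := by
    have h1 : (e ⟨j, hjL⟩) ^ 2 = 1 := by
      rw [← map_pow]
      have : (⟨j, hjL⟩ : ↥L) ^ 2 = 1 := by ext; simpa using hjsq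
      rw [this, map_one]
    rcases sl2_sq_eq_one h2 _ h1 with h | h
    · exfalso
      apply hj1
      have : (⟨j, hjL⟩ : ↥L) = 1 := by
        apply e.injective; rw [h, map_one]
      simpa using congrArg (fun y : ↥L => (y : G)) this
    · exact h
  have hsymm : e.symm (-1) = ⟨j, hjL⟩ := by rw [← hej, e.symm_apply_apply]
  refine ⟨hjL, ?_, ?_, ?_⟩
  · intro a ha hasq
    have h1 : (e ⟨a, ha⟩) ^ 2 = 1 := by
      rw [← map_pow]
      have : (⟨a, ha⟩ : ↥L) ^ 2 = 1 := by ext; simpa using hasq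
      rw [this, map_one]
    rcases sl2_sq_eq_one h2 _ h1 with h | h
    · left
      have : (⟨a, ha⟩ : ↥L) = 1 := by
        apply e.injective; rw [h, map_one]
      simpa using congrArg (fun y : ↥L => (y : G)) this
    · right
      have : (⟨a, ha⟩ : ↥L) = ⟨j, hjL⟩ := by
        apply e.injective; rw [h, hej]
      simpa using congrArg (fun y : ↥L => (y : G)) this
  · refine ⟨(e.symm (sl2w F) : ↥L), (e.symm (sl2w F)).2, (e.symm (sl2v F) : ↥L),
      (e.symm (sl2v F)).2, ?_, ?_, ?_⟩
    · have : (e.symm (sl2w F)) ^ 2 = (⟨j, hjL⟩ : ↥L) := by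
        rw [← map_pow, sl2w_sq, hsymm]
      simpa using congrArg (fun y : ↥L => (y : G)) this
    · have : (e.symm (sl2v F)) ^ 2 = (⟨j, hjL⟩ : ↥L) := by
        rw [← map_pow, sl2v_sq, hsymm]
      simpa using congrArg (fun y : ↥L => (y : G)) this
    · intro h
      apply sl2w_sl2v_not_comm F
      have h' : e.symm (sl2w F) * e.symm (sl2v F) = e.symm (sl2v F) * e.symm (sl2w F) := by
        ext; simpa using h
      rw [← map_mul, ← map_mul] at h'
      exact e.symm.injective h'
  · intro g hg hcomm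
    have key : ∀ M : Matrix.SpecialLinearGroup (Fin 2) F, M ^ 2 = -1 →
        e ⟨g, hg⟩ * M = M * e ⟨g, hg⟩ := by
      intro M hM
      have h1 : ((e.symm M : ↥L) : G) ^ 2 = j := by
        have : (e.symm M) ^ 2 = (⟨j, hjL⟩ : ↥L) := by
          rw [← map_pow, hM, hsymm]
        simpa using congrArg (fun y : ↥L => (y : G)) this
      have h3 := hcomm _ (e.symm M).2 h1
      have h4 : (⟨g, hg⟩ : ↥L) * e.symm M = e.symm M * ⟨g, hg⟩ := by
        ext; simpa using h3
      have h5 := congrArg e h4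
      rwa [map_mul, map_mul, e.apply_symm_apply] at h5
    rcases sl2_comm_w_v _ (key _ (sl2w_sq F)) (key _ (sl2v_sq F)) with h | h
    · left
      have : (⟨g, hg⟩ : ↥L) = 1 := by
        apply e.injective; rw [h, map_one]
      simpa using congrArg (fun y : ↥L => (y : G)) this
    · right
      have : (⟨g, hg⟩ : ↥L) = ⟨j, hjL⟩ := by
        apply e.injective; rw [h, hej]
      simpa using congrArg (fun y : ↥L => (y : G)) this

end Cfsg.Agent.Lib.Helper60
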