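import Mathlib
import Cfsg.Agent.Lib.Helper06.SylAlt.Defs

/-!
# Keystone 292902  K-SylAlt-P1  `altOn_orbit_le`  (helper60, for helper6's S2929 pack)

A subgroup `M ≤ Sym(α)` generated by the 3-cycles it contains contains the alternating group on each
of its orbits.  `altOn_orbit_le_of` takes K-SylAlt-P1a (for the orbit) as a hypothesis.
-/

set_option autoImplicit false

namespace Cfsg.Agent.Lib.Helper60.SylAlt

open Equiv Equiv.Perm
open Cfsg.Agent.Lib.Helper06.SylAlt

variable {α : Type*}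

/-- elements of `M` preserve the orbit -/
theorem p1_apply_mem_orbit (M : Subgroup (Perm α)) (a : α) {m : Perm α} (hm : m ∈ M) {x : α}
    (hx : x ∈ MulAction.orbit ↥M a) : m x ∈ MulAction.orbit ↥M a :=
  MulAction.mem_orbit_of_mem_orbit (⟨m, hm⟩ : ↥M) hx

theorem p1_apply_mem_orbit_iff (M : Subgroup (Perm α)) (a : α) {m : Perm α} (hm : m ∈ M) (x : α) :
    m x ∈ MulAction.orbit ↥M a ↔ x ∈ MulAction.orbit ↥M a := by
  constructor
  · intro h
    have := p1_apply_mem_orbit M a (M.inv_mem hm) h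
    simpa using this
  · exact p1_apply_mem_orbit M a hm

/-- the support of a cycle of `M` moving a point of the orbit lies in the orbit -/
theorem p1_support_subset_orbit (M : Subgroup (Perm α)) (a : α) {t : Perm α} (ht : t ∈ M)
    (hc : t.IsCycle) {x : α} (hx : x ∈ MulAction.orbit ↥M a) (hmv : t x ≠ x) :
    ∀ y, t y ≠ y → y ∈ MulAction.orbit ↥M a := by
  intro y hy
  obtain ⟨i, hi⟩ := hc.sameCycle hmv hy
  rw [← hi]
  exact p1_apply_mem_orbit M a (M.zpow_mem ht i) hx

variable [Fintype α] [DecidableEq α]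

theorem altOn_orbit_le_of (M : Subgroup (Perm α))
    (hM : M = Subgroup.closure {t : Perm α | t ∈ M ∧ t.IsThreeCycle}) (a : α)
    (h1a : ∀ [Fintype ↥(MulAction.orbit ↥M a)] [DecidableEq ↥(MulAction.orbit ↥M a)]
      (S : Set (Perm ↥(MulAction.orbit ↥M a))), (∀ t ∈ S, t.IsThreeCycle) →
      MulAction.IsPretransitive ↥(Subgroup.closure S) ↥(MulAction.orbit ↥M a) →
      alternatingGroup ↥(MulAction.orbit ↥M a) ≤ Subgroup.closure S) :
    altOn (MulAction.orbit ↥M a) ≤ M := by
  classical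
  set Δ : Set α := MulAction.orbit ↥M a with hΔ
  -- the 3-cycles of `Sym(Δ)` whose extension lies in `M`
  set S' : Set (Perm ↥Δ) := {s | s.IsThreeCycle ∧ ofSubtype s ∈ M} with hS'
  have hS'3 : ∀ t ∈ S', t.IsThreeCycle := fun t ht => ht.1
  have hle : Subgroup.closure S' ≤ M.comap (ofSubtype : Perm ↥Δ →* Perm α) := by
    rw [Subgroup.closure_le]
    intro s hs
    exact hs.2
  -- key: every `m ∈ M` is matched on `Δ` by an element of `closure S'`
  have key : ∀ m ∈ Subgroup.closure {t : Perm α | t ∈ M ∧ t.IsThreeCycle},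
      ∀ x : ↥Δ, ∃ g ∈ Subgroup.closure S', ((g x : ↥Δ) : α) = m x := by
    intro m hm
    induction hm using Subgroup.closure_induction with
    | mem t ht =>
      obtain ⟨htM, ht3⟩ := ht
      intro x
      by_cases hmv : t x = x
      · exact ⟨1, Subgroup.one_mem _, by simp [hmv]⟩
      · have h₁ : ∀ y, t y ∈ Δ ↔ y ∈ Δ := p1_apply_mem_orbit_iff M a htM
        have h₂ : ∀ y, t y ≠ y → y ∈ Δ :=
          p1_support_subset_orbit M a htM ht3.isCycle x.2 hmv
        have hof : ofSubtype (subtypePerm t h₁) = t := ofSubtype_subtypePerm h₁ h₂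
        have hs3 : (subtypePerm t h₁).IsThreeCycle := by
          have h3 : (ofSubtype (subtypePerm t h₁)).cycleType = (subtypePerm t h₁).cycleType :=
            cycleType_ofSubtype
          rw [hof] at h3
          unfold IsThreeCycle
          rw [← h3]
          exact ht3
        refine ⟨subtypePerm t h₁, Subgroup.subset_closure ⟨hs3, ?_⟩, ?_⟩
        · rw [hof]; exact htM
        · rw [subtypePerm_apply]
    | one =>
      intro x
      exact ⟨1, Subgroup.one_mem _, by simp⟩
    | mul m₁ m₂ _ _ ih₁ ih₂ =>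
      intro x
      obtain ⟨g₂, hg₂, e₂⟩ := ih₂ x
      obtain ⟨g₁, hg₁, e₁⟩ := ih₁ (g₂ x)
      refine ⟨g₁ * g₂, Subgroup.mul_mem _ hg₁ hg₂, ?_⟩
      rw [Perm.mul_apply, e₁, e₂, Perm.mul_apply]
    | inv m _ ih =>
      intro x
      have hmM : m ∈ M := by rw [hM]; assumption
      have hy : m⁻¹ (x : α) ∈ Δ := p1_apply_mem_orbit M a (M.inv_mem hmM) x.2
      obtain ⟨g, hg, e⟩ := ih ⟨m⁻¹ (x : α), hy⟩
      refine ⟨g⁻¹, Subgroup.inv_mem _ hg, ?_⟩
      have e' : g ⟨m⁻¹ (x : α), hy⟩ = x := by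
        apply Subtype.ext
        rw [e]
        simp
      have e'' : g⁻¹ x = ⟨m⁻¹ (x : α), hy⟩ := by
        rw [Perm.inv_eq_iff_eq]; exact e'.symm
      rw [e'']
  have htr : MulAction.IsPretransitive ↥(Subgroup.closure S') ↥Δ := by
    refine ⟨fun x y => ?_⟩
    have hxy : (y : α) ∈ MulAction.orbit ↥M (x : α) := by
      rw [MulAction.orbit_eq_iff.mpr x.2]
      exact y.2
    obtain ⟨m, hm⟩ := hxy
    have hmem : (m : Perm α) ∈ Subgroup.closure {t : Perm α | t ∈ M ∧ t.IsThreeCycle} := by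
      rw [← hM]; exact m.2
    obtain ⟨g, hg, e⟩ := key (m : Perm α) hmem x
    refine ⟨⟨g, hg⟩, ?_⟩
    apply Subtype.ext
    show ((g x : ↥Δ) : α) = y
    rw [e]
    exact hm
  have hAlt := h1a S' hS'3 htr
  -- now the conclusion
  intro σ hσ
  obtain ⟨hσA, hσfix⟩ := hσ
  have h₂ : ∀ x, σ x ≠ x → x ∈ Δ := by
    intro x hx
    by_contra hxΔ
    exact hx (hσfix x hxΔ)
  have h₁ : ∀ x, σ x ∈ Δ ↔ x ∈ Δ := by
    intro x
    constructor
    · intro h
      by_contra hxΔ
      rw [hσfix x hxΔ] at h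
      exact hxΔ h
    · intro h
      by_contra hσx
      have h3 : σ (σ x) = σ x := hσfix _ hσx
      have h4 : σ x = x := σ.injective h3
      rw [h4] at hσx
      exact hσx h
  have hsA : subtypePerm σ h₁ ∈ alternatingGroup ↥Δ := by
    rw [Perm.mem_alternatingGroup, sign_subtypePerm σ h₁ h₂]
    exact Perm.mem_alternatingGroup.mp hσA
  have := hle (hAlt hsA)
  rw [Subgroup.mem_comap, ofSubtype_subtypePerm h₁ h₂] at this
  exact this

end Cfsg.Agent.Lib.Helper60.SylAlt
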