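import Mathlib
import Cfsg.Prelude.Def_Involutions
import Cfsg.Agent.Lib.Helper60.AICDefs
import Cfsg.Agent.Lib.Helper28.StronglyEmbedded
import Cfsg.Agent.Lib.Helper20.UniqueInvolution
import Cfsg.Agent.Lib.Helper73.Ito

/-!
# Groups in which every involution has an abelian centralizer: basic structure (Part A of S2202)

`S` a Sylow 2-subgroup, `H = N_G(S)`, `C = C_G(S)`.
-/

set_option autoImplicit false
set_option linter.unusedSectionVars false

namespace Cfsg.Agent.Lib.Helper60.AIC

open Subgroup Cfsg Cfsg.Agent.Lib.Helper41 Cfsg.Agent.Lib.Helper28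

universe u

variable {G : Type u} [Group G] [Finite G]

/-- a `2`-element normalizing a Sylow `2`-subgroup lies in it -/
theorem mem_sylow_of_two_elt (S : Sylow 2 G) {t : G}
    (ht : t ∈ normalizer ((S : Subgroup G) : Set G)) (h2 : IsPGroup 2 (zpowers t)) :
    t ∈ (S : Subgroup G) := by
  have h1 : IsPGroup 2 ↥(zpowers t ⊔ (S : Subgroup G)) :=
    IsPGroup.to_sup_of_normal_right' h2 S.isPGroup' (by
      rw [zpowers_le]; exact ht)
  have h3 := S.is_maximal' h1 le_sup_right
  have : t ∈ zpowers t ⊔ (S : Subgroup G) := mem_sup_left (mem_zpowers t)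
  rw [h3] at this
  exact this

theorem isPGroup_zpowers_of_invol {t : G} (ht : orderOf t = 2) : IsPGroup 2 (zpowers t) := by
  apply IsPGroup.of_card (n := 1)
  rw [Nat.card_zpowers, ht, pow_one]

/-- A6. involutions of `N_G(S)` lie in `S`. -/
theorem invol_mem (S : Sylow 2 G) {t : G} (ht : orderOf t = 2)
    (htH : t ∈ normalizer ((S : Subgroup G) : Set G)) : t ∈ (S : Subgroup G) :=
  mem_sylow_of_two_elt S htH (isPGroup_zpowers_of_invol ht)

/-- a central involution of `S` -/
theorem exists_central_invol (S : Sylow 2 G) (hS : (S : Subgroup G) ≠ ⊥) :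
    ∃ z : G, orderOf z = 2 ∧ z ∈ (S : Subgroup G) ∧ ∀ x ∈ (S : Subgroup G), x * z = z * x := by
  have hSnt : Nontrivial (S : Subgroup G) := (Subgroup.nontrivial_iff_ne_bot _).2 hS
  have hcen : ⊥ < center (S : Subgroup G) := IsPGroup.bot_lt_center S.isPGroup'
  have hcard2 : 2 ∣ Nat.card (center (S : Subgroup G)) := by
    have hpc : IsPGroup 2 (center (S : Subgroup G)) := S.isPGroup'.to_subgroup _
    obtain ⟨n, hn⟩ := IsPGroup.iff_card.1 hpc
    have hn0 : n ≠ 0 := by
      rintro rfl
      rw [pow_zero, Subgroup.card_eq_one] at hn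
      exact hcen.ne' hn
    rw [hn]
    exact dvd_pow_self 2 hn0
  obtain ⟨z, hz⟩ := exists_prime_orderOf_dvd_card' 2 hcard2
  refine ⟨((z : (S : Subgroup G)) : G), ?_, (z : (S : Subgroup G)).2, ?_⟩
  · rw [Subgroup.orderOf_coe, Subgroup.orderOf_coe]; exact hz
  · intro x hx
    have := Subgroup.mem_center_iff.1 z.2 ⟨x, hx⟩
    exact congrArg Subtype.val this

/-- A1. `S` is abelian. -/
theorem sylow_comm (hG : Hyp G) (S : Sylow 2 G) (hS : (S : Subgroup G) ≠ ⊥) :
    ∀ x ∈ (S : Subgroup G), ∀ y ∈ (S : Subgroup G), x * y = y * x := by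
  obtain ⟨z, hz, _, hzc⟩ := exists_central_invol S hS
  intro x hx y hy
  apply hG z hz
  · rw [mem_centralizer_iff]
    intro w hw
    rw [Set.mem_singleton_iff] at hw
    subst hw
    exact (hzc x hx).symm
  · rw [mem_centralizer_iff]
    intro w hw
    rw [Set.mem_singleton_iff] at hw
    subst hw
    exact (hzc y hy).symm

omit [Finite G] in
theorem mem_centralizer_singleton {t x : G} :
    x ∈ centralizer ({t} : Set G) ↔ t * x = x * t := by
  rw [mem_centralizer_iff]
  constructor
  · intro h; exact h t rfl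
  · intro h w hw
    rw [Set.mem_singleton_iff] at hw
    subst hw
    exact h

/-- A2. `C_G(t) = C_G(S)` for every involution `t ∈ S`. -/
theorem centralizer_eq (hG : Hyp G) (S : Sylow 2 G) {t : G} (ht : orderOf t = 2)
    (htS : t ∈ (S : Subgroup G)) :
    centralizer ({t} : Set G) = centralizer ((S : Subgroup G) : Set G) := by
  have hS : (S : Subgroup G) ≠ ⊥ := by
    intro h
    rw [h, mem_bot] at htS
    rw [htS, orderOf_one] at ht
    omega
  have hcomm := sylow_comm hG S hS
  apply le_antisymm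
  · intro x hx
    rw [mem_centralizer_iff]
    intro s hs
    have hsC : s ∈ centralizer ({t} : Set G) := by
      rw [mem_centralizer_singleton]
      exact hcomm t htS s hs
    exact hG t ht s hsC x hx
  · intro x hx
    rw [mem_centralizer_singleton]
    exact (mem_centralizer_iff.1 hx) t htS

/-- `S ≤ C_G(S)` -/
theorem sylow_le_centralizer (hG : Hyp G) (S : Sylow 2 G) (hS : (S : Subgroup G) ≠ ⊥) :
    (S : Subgroup G) ≤ centralizer ((S : Subgroup G) : Set G) := by
  intro x hx
  rw [mem_centralizer_iff]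
  intro s hs
  exact sylow_comm hG S hS s hs x hx

/-- `C_G(S)` is abelian -/
theorem centralizer_comm (hG : Hyp G) (S : Sylow 2 G) (hS : (S : Subgroup G) ≠ ⊥) :
    ∀ x ∈ centralizer ((S : Subgroup G) : Set G), ∀ y ∈ centralizer ((S : Subgroup G) : Set G),
      x * y = y * x := by
  obtain ⟨z, hz, hzS, _⟩ := exists_central_invol S hS
  rw [← centralizer_eq hG S hz hzS]
  exact hG z hz

/-- a `2`-element of `C_G(S)` lies in `S` -/
theorem mem_sylow_of_mem_centralizer (S : Sylow 2 G) {x : G}
    (hx : x ∈ centralizer ((S : Subgroup G) : Set G)) (h2 : IsPGroup 2 (zpowers x)) :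
    x ∈ (S : Subgroup G) :=
  mem_sylow_of_two_elt S (centralizer_le_normalizer _ hx) h2

/-- A3. `N_G(C_G(S)) = N_G(S)`. -/
theorem normalizer_centralizer_eq (hG : Hyp G) (S : Sylow 2 G) (hS : (S : Subgroup G) ≠ ⊥) :
    normalizer ((centralizer ((S : Subgroup G) : Set G) : Subgroup G) : Set G) =
      normalizer ((S : Subgroup G) : Set G) := by
  apply le_antisymm
  · intro h hh
    -- `h` normalizes `C`, and `S` is the set of `2`-elements of `C`
    have key : ∀ g : G, g ∈ normalizer ((centralizer ((S : Subgroup G) : Set G) : Subgroup G) : Set G) →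
        ∀ s ∈ (S : Subgroup G), g * s * g⁻¹ ∈ (S : Subgroup G) := by
      intro g hg s hs
      have h1 : g * s * g⁻¹ ∈ centralizer ((S : Subgroup G) : Set G) :=
        (mem_normalizer_iff.1 hg s).1 (sylow_le_centralizer hG S hS hs)
      apply mem_sylow_of_mem_centralizer S h1
      have h3 : IsPGroup 2 (zpowers s) := S.isPGroup'.to_le (by rw [zpowers_le]; exact hs)
      have h4 : zpowers (g * s * g⁻¹) = (zpowers s).map (MulAut.conj g).toMonoidHom := by
        rw [MonoidHom.map_zpowers]
        rfl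
      rw [h4]
      exact h3.map _
    rw [mem_normalizer_iff]
    intro s
    constructor
    · exact key h hh s
    · intro hs
      have := key h⁻¹ (inv_mem hh) _ hs
      simpa [mul_assoc] using this
  · intro h hh
    rw [mem_normalizer_iff]
    have key : ∀ g : G, g ∈ normalizer ((S : Subgroup G) : Set G) →
        ∀ x ∈ centralizer ((S : Subgroup G) : Set G),
          g * x * g⁻¹ ∈ centralizer ((S : Subgroup G) : Set G) := by
      intro g hg x hx
      rw [mem_centralizer_iff]
      intro s hs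
      have h1 : g⁻¹ * s * g ∈ (S : Subgroup G) := by
        have := (mem_normalizer_iff.1 (inv_mem hg) s).1 hs
        simpa using this
      have h2 := (mem_centralizer_iff.1 hx) _ h1
      calc s * (g * x * g⁻¹) = g * ((g⁻¹ * s * g) * x) * g⁻¹ := by group
        _ = g * (x * (g⁻¹ * s * g)) * g⁻¹ := by rw [h2]
        _ = g * x * g⁻¹ * s := by group
    intro x
    constructor
    · exact key h hh x
    · intro hx
      have := key h⁻¹ (inv_mem hh) _ hx
      simpa [mul_assoc] using this

/-- a nonidentity element of `S` has an involution among its powers -/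
theorem exists_invol_pow (S : Sylow 2 G) {x : G} (hx : x ∈ (S : Subgroup G)) (hx1 : x ≠ 1) :
    ∃ n : ℕ, orderOf (x ^ n) = 2 := by
  obtain ⟨k, hk⟩ := S.isPGroup' ⟨x, hx⟩
  have hk' : x ^ 2 ^ k = 1 := by
    have := congrArg Subtype.val hk
    simpa using this
  have hdvd : orderOf x ∣ 2 ^ k := orderOf_dvd_of_pow_eq_one hk'
  obtain ⟨j, _, hj⟩ := (Nat.dvd_prime_pow Nat.prime_two).1 hdvd
  have hj0 : j ≠ 0 := by
    rintro rfl
    rw [pow_zero, orderOf_eq_one_iff] at hj
    exact hx1 hj
  refine ⟨2 ^ (j - 1), ?_⟩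
  rw [orderOf_pow_of_dvd (by positivity) (by rw [hj]; exact pow_dvd_pow 2 (by omega)), hj]
  obtain ⟨i, rfl⟩ : ∃ i, j = i + 1 := ⟨j - 1, by omega⟩
  rw [Nat.add_sub_cancel, pow_succ, Nat.mul_div_cancel_left _ (by positivity)]

/-- A4. `S` is a TI subgroup. -/
theorem mem_normalizer_of_conj_mem (hG : Hyp G) (S : Sylow 2 G) {g x : G}
    (hx : x ∈ (S : Subgroup G)) (hx1 : x ≠ 1) (hg : g * x * g⁻¹ ∈ (S : Subgroup G)) :
    g ∈ normalizer ((S : Subgroup G) : Set G) := by
  have hS : (S : Subgroup G) ≠ ⊥ := by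
    intro h
    rw [h, mem_bot] at hx
    exact hx1 hx
  obtain ⟨n, hn⟩ := exists_invol_pow S hx hx1
  set t := x ^ n with ht
  have htS : t ∈ (S : Subgroup G) := pow_mem hx n
  have ht'S : g * t * g⁻¹ ∈ (S : Subgroup G) := by
    have : g * t * g⁻¹ = (g * x * g⁻¹) ^ n := by rw [ht, conj_pow]
    rw [this]
    exact pow_mem hg n
  have ht' : orderOf (g * t * g⁻¹) = 2 := by rw [orderOf_conj_eq, hn]
  have h1 := centralizer_eq hG S hn htS
  have h2 := centralizer_eq hG S ht' ht'S
  rw [← normalizer_centralizer_eq hG S hS, mem_normalizer_iff]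
  intro y
  have e1 : y ∈ centralizer ((S : Subgroup G) : Set G) ↔ y ∈ centralizer ({t} : Set G) := by
    rw [h1]
  have e2 : g * y * g⁻¹ ∈ centralizer ((S : Subgroup G) : Set G) ↔
      g * y * g⁻¹ ∈ centralizer ({g * t * g⁻¹} : Set G) := by rw [h2]
  rw [e1, e2, mem_centralizer_singleton, mem_centralizer_singleton]
  constructor
  · intro h
    calc g * t * g⁻¹ * (g * y * g⁻¹) = g * (t * y) * g⁻¹ := by group
      _ = g * (y * t) * g⁻¹ := by rw [h]
      _ = g * y * g⁻¹ * (g * t * g⁻¹) := by group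
  · intro h
    calc t * y = g⁻¹ * (g * t * g⁻¹ * (g * y * g⁻¹)) * g := by group
      _ = g⁻¹ * (g * y * g⁻¹ * (g * t * g⁻¹)) * g := by rw [h]
      _ = y * t := by group

/-- A5. `N_G(S)` is strongly embedded. -/
theorem isStronglyEmbedded (hG : Hyp G) (S : Sylow 2 G) (hS : (S : Subgroup G) ≠ ⊥)
    (hnn : ¬ (S : Subgroup G).Normal) :
    IsStronglyEmbedded (normalizer ((S : Subgroup G) : Set G)) := by
  refine ⟨?_, ?_, ?_⟩
  · intro h
    exact hnn (normalizer_eq_top_iff.1 h)
  · obtain ⟨z, hz, hzS, _⟩ := exists_central_invol S hS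
    have h1 : orderOf z ∣ Nat.card (normalizer ((S : Subgroup G) : Set G)) := by
      have := orderOf_dvd_natCard (⟨z, le_normalizer hzS⟩ : normalizer ((S : Subgroup G) : Set G))
      rwa [Subgroup.orderOf_mk] at this
    rw [hz] at h1
    exact even_iff_two_dvd.2 h1
  · intro g hg
    rw [← Nat.not_even_iff_odd]
    intro heven
    have h2 : 2 ∣ Nat.card ↥(normalizer ((S : Subgroup G) : Set G) ⊓
        (normalizer ((S : Subgroup G) : Set G)).map (MulAut.conj g).toMonoidHom) :=
      even_iff_two_dvd.1 heven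
    obtain ⟨t, ht⟩ := exists_prime_orderOf_dvd_card' 2 h2
    have htord : orderOf (t : G) = 2 := by rw [Subgroup.orderOf_coe]; exact ht
    obtain ⟨ht1, ht2⟩ := mem_inf.1 t.2
    have ht2' : g⁻¹ * (t : G) * g ∈ normalizer ((S : Subgroup G) : Set G) := mem_lc.1 ht2
    have htS : (t : G) ∈ (S : Subgroup G) := invol_mem S htord ht1
    have hsord : orderOf (g⁻¹ * (t : G) * g) = 2 := by
      have := orderOf_conj_eq g⁻¹ (t : G)
      rw [inv_inv] at this
      rw [this, htord]
    have hsS : g⁻¹ * (t : G) * g ∈ (S : Subgroup G) := invol_mem S hsord ht2'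
    apply hg
    apply mem_normalizer_of_conj_mem hG S hsS
    · intro h
      rw [h, orderOf_one] at hsord
      omega
    · have : g * (g⁻¹ * (t : G) * g) * g⁻¹ = (t : G) := by group
      rw [this]
      exact htS

/-- A8. elements of `H ∩ gHg⁻¹`, `g ∉ H`, have odd order. -/
theorem odd_orderOf_of_mem_inf (hG : Hyp G) (S : Sylow 2 G) (hS : (S : Subgroup G) ≠ ⊥)
    (hnn : ¬ (S : Subgroup G).Normal) {g : G} (hg : g ∉ normalizer ((S : Subgroup G) : Set G))
    {d : G} (hd : d ∈ normalizer ((S : Subgroup G) : Set G) ⊓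
      lc g (normalizer ((S : Subgroup G) : Set G))) : Odd (orderOf d) := by
  have hodd := (isStronglyEmbedded hG S hS hnn).2.2 g hg
  have h1 := orderOf_dvd_natCard (⟨d, hd⟩ : ↥(normalizer ((S : Subgroup G) : Set G) ⊓
      lc g (normalizer ((S : Subgroup G) : Set G))))
  rw [Subgroup.orderOf_mk] at h1
  exact Odd.of_dvd_nat hodd h1

/-- A7. `S` noncyclic abelian has at least three involutions. -/
theorem three_le_card_invIn (hG : Hyp G) (S : Sylow 2 G) (hnc : ¬ IsCyclic (S : Subgroup G)) :
    3 ≤ Nat.card (InvIn (normalizer ((S : Subgroup G) : Set G))) := by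
  have hS : (S : Subgroup G) ≠ ⊥ := by
    intro h
    apply hnc
    rw [h]
    infer_instance
  have hcomm : ∀ x y : (S : Subgroup G), x * y = y * x := by
    intro x y
    apply Subtype.ext
    exact sylow_comm hG S hS x x.2 y y.2
  have hex : ∃ s t : (S : Subgroup G), orderOf s = 2 ∧ orderOf t = 2 ∧ s ≠ t := by
    by_contra hcon
    push Not at hcon
    apply hnc
    exact Cfsg.Agent.Lib.Helper20.isCyclic_of_unique_involution' hcomm
      S.isPGroup' (fun g h hg hh => hcon g h hg hh)
  obtain ⟨s, t, hs, ht, hst⟩ := hex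
  have hs2 : s * s = 1 := by
    have := pow_orderOf_eq_one s
    rwa [hs, sq] at this
  have ht2 : t * t = 1 := by
    have := pow_orderOf_eq_one t
    rwa [ht, sq] at this
  have hs1 : s ≠ 1 := by
    intro h; rw [h, orderOf_one] at hs; omega
  have ht1 : t ≠ 1 := by
    intro h; rw [h, orderOf_one] at ht; omega
  have hst1 : s * t ≠ 1 := by
    intro h
    apply hst
    calc s = s * (t * t) := by rw [ht2, mul_one]
      _ = (s * t) * t := by rw [mul_assoc]
      _ = t := by rw [h, one_mul]
  have hstord : orderOf (s * t) = 2 := by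
    apply orderOf_eq_prime
    · rw [sq]
      calc s * t * (s * t) = s * (t * s) * t := by group
        _ = s * (s * t) * t := by rw [hcomm t s]
        _ = (s * s) * (t * t) := by group
        _ = 1 := by rw [hs2, ht2, one_mul]
    · exact hst1
  let f : Fin 3 → InvIn (normalizer ((S : Subgroup G) : Set G)) := fun i =>
    match i with
    | 0 => ⟨(s : G), by rw [Subgroup.orderOf_coe]; exact hs, le_normalizer s.2⟩
    | 1 => ⟨(t : G), by rw [Subgroup.orderOf_coe]; exact ht, le_normalizer t.2⟩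
    | 2 => ⟨((s * t : (S : Subgroup G)) : G), by rw [Subgroup.orderOf_coe]; exact hstord,
        le_normalizer (s * t).2⟩
  have hf : Function.Injective f := by
    intro i j hij
    have hval : (f i).1 = (f j).1 := congrArg Subtype.val hij
    have hsst : s ≠ s * t := by
      intro h
      apply ht1
      have : s * 1 = s * t := by rw [mul_one]; exact h
      exact (mul_left_cancel this).symm
    have htst : t ≠ s * t := by
      intro h
      apply hs1
      have : 1 * t = s * t := by rw [one_mul]; exact h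
      exact (mul_right_cancel this).symm
    fin_cases i <;> fin_cases j <;> first
      | rfl
      | (exfalso; simp only [f] at hval; first
          | exact hst (Subtype.ext hval)
          | exact hst (Subtype.ext hval).symm
          | exact hsst (Subtype.ext hval)
          | exact hsst (Subtype.ext hval).symm
          | exact htst (Subtype.ext hval)
          | exact htst (Subtype.ext hval).symm)
  have := Nat.card_le_card_of_injective f hf
  simpa using this

/-- A9. `H = K_u C`: every `h ∈ H` is `d * c` with `c ∈ C` and `d ∈ D = H ∩ uHu⁻¹` inverted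
by `u`. -/
theorem exists_mul_of_mem_normalizer (hG : Hyp G) (S : Sylow 2 G) (hS : (S : Subgroup G) ≠ ⊥)
    (hnn : ¬ (S : Subgroup G).Normal) {u : G} (hu : orderOf u = 2)
    (huH : u ∉ normalizer ((S : Subgroup G) : Set G)) {h : G}
    (hh : h ∈ normalizer ((S : Subgroup G) : Set G)) :
    ∃ c ∈ centralizer ((S : Subgroup G) : Set G),
      ∃ d ∈ normalizer ((S : Subgroup G) : Set G) ⊓ lc u (normalizer ((S : Subgroup G) : Set G)),
        u * d * u⁻¹ = d⁻¹ ∧ h = d * c := by
  have hse := isStronglyEmbedded hG S hS hnn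
  obtain ⟨z, hz, hzS, _⟩ := exists_central_invol S hS
  have hz' : orderOf (h * z * h⁻¹) = 2 := by rw [orderOf_conj_eq, hz]
  have hz'H : h * z * h⁻¹ ∈ normalizer ((S : Subgroup G) : Set G) :=
    mul_mem (mul_mem hh (le_normalizer hzS)) (inv_mem hh)
  obtain ⟨d, hd, hdz, hdinv⟩ := se_exists_conj_in_D hse hu huH hz (le_normalizer hzS) hz' hz'H
  refine ⟨d⁻¹ * h, ?_, d, hd, hdinv, by group⟩
  rw [← centralizer_eq hG S hz hzS, mem_centralizer_singleton]
  calc z * (d⁻¹ * h) = d⁻¹ * (d * z * d⁻¹) * h := by group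
    _ = d⁻¹ * (h * z * h⁻¹) * h := by rw [hdz]
    _ = d⁻¹ * h * z := by group

/-- there is an element outside `N_G(S)` -/
theorem exists_not_mem_normalizer (S : Sylow 2 G) (hnn : ¬ (S : Subgroup G).Normal) :
    ∃ g : G, g ∉ normalizer ((S : Subgroup G) : Set G) := by
  by_contra h
  push Not at h
  apply hnn
  rw [← normalizer_eq_top_iff]
  exact (eq_top_iff' _).2 h

/-- A12. every coset `gH ≠ H` contains an involution. -/
theorem exists_invol_coset (hG : Hyp G) (S : Sylow 2 G) (hS : (S : Subgroup G) ≠ ⊥)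
    (hnn : ¬ (S : Subgroup G).Normal) {g : G} (hg : g ∉ normalizer ((S : Subgroup G) : Set G)) :
    ∃ u : G, orderOf u = 2 ∧ u ∉ normalizer ((S : Subgroup G) : Set G) ∧
      g⁻¹ * u ∈ normalizer ((S : Subgroup G) : Set G) := by
  have hse := isStronglyEmbedded hG S hS hnn
  obtain ⟨z, hz, hzS, _⟩ := exists_central_invol S hS
  have h1 := card_invCoset hse (QuotientGroup.mk g)
  have h2 : 0 < Nat.card (InvIn (normalizer ((S : Subgroup G) : Set G))) :=
    Nat.card_pos_iff.2 ⟨⟨⟨z, hz, le_normalizer hzS⟩⟩, inferInstance⟩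
  rw [← h1] at h2
  obtain ⟨⟨u, hu, huq⟩⟩ := (Nat.card_pos_iff.1 h2).1
  have hgu : g⁻¹ * u ∈ normalizer ((S : Subgroup G) : Set G) := QuotientGroup.eq.1 huq.symm
  refine ⟨u, hu, ?_, hgu⟩
  intro huH
  apply hg
  have := mul_mem huH (inv_mem hgu)
  simpa using this

/-- A11. exactly `m` elements of `D` are inverted by `u`. -/
theorem card_inverted (hG : Hyp G) (S : Sylow 2 G) (hS : (S : Subgroup G) ≠ ⊥)
    (hnn : ¬ (S : Subgroup G).Normal) {u : G} (hu : orderOf u = 2)
    (huH : u ∉ normalizer ((S : Subgroup G) : Set G)) :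
    Nat.card {d : G // d ∈ normalizer ((S : Subgroup G) : Set G) ⊓
        lc u (normalizer ((S : Subgroup G) : Set G)) ∧ u * d * u⁻¹ = d⁻¹} =
      Nat.card (InvIn (normalizer ((S : Subgroup G) : Set G))) := by
  have hse := isStronglyEmbedded hG S hS hnn
  rw [← card_invCoset hse (QuotientGroup.mk u)]
  have hui := inv_eq_self_of_orderOf_two hu
  have huu := mul_self_of_orderOf_two hu
  symm
  refine Nat.card_congr ⟨fun i => ⟨u⁻¹ * i.1, ?_, ?_⟩, fun d => ⟨u * d.1, ?_, ?_⟩, ?_, ?_⟩
  · have hdH : u⁻¹ * i.1 ∈ normalizer ((S : Subgroup G) : Set G) := QuotientGroup.eq.1 i.2.2.symm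
    have hii := inv_eq_self_of_orderOf_two i.2.1
    refine mem_inf.2 ⟨hdH, ?_⟩
    rw [mem_lc]
    have : u⁻¹ * (u⁻¹ * i.1) * u = (u⁻¹ * i.1)⁻¹ := by
      rw [mul_inv_rev, inv_inv, hii, hui]
      calc u * (u * i.1) * u = (u * u) * i.1 * u := by simp [mul_assoc]
        _ = i.1 * u := by rw [huu, one_mul]
    rw [this]
    exact inv_mem hdH
  · have hii := inv_eq_self_of_orderOf_two i.2.1
    rw [mul_inv_rev, inv_inv, hii, hui]
    calc u * (u * i.1) * u = (u * u) * i.1 * u := by simp [mul_assoc]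
      _ = i.1 * u := by rw [huu, one_mul]
  · -- `u * d` is an involution
    obtain ⟨hdD, hdinv⟩ := d.2
    have hdH := (mem_inf.1 hdD).1
    apply orderOf_eq_prime
    · rw [sq]
      calc u * d.1 * (u * d.1) = (u * d.1 * u⁻¹) * (u * u) * d.1 := by group
        _ = 1 := by rw [hdinv, huu, mul_one, inv_mul_cancel]
    · intro h1
      apply huH
      have : u = d.1⁻¹ := eq_inv_of_mul_eq_one_left h1
      rw [this]
      exact inv_mem hdH
  · rw [QuotientGroup.eq]
    have : (u * d.1)⁻¹ * u = d.1⁻¹ := by group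
    rw [this]
    exact inv_mem (mem_inf.1 d.2.1).1
  · intro i
    apply Subtype.ext
    show u * (u⁻¹ * i.1) = i.1
    group
  · intro d
    apply Subtype.ext
    show u⁻¹ * (u * d.1) = d.1
    group

/-- A10. `|H| = m |C|`. -/
theorem card_normalizer (hG : Hyp G) (S : Sylow 2 G) (hS : (S : Subgroup G) ≠ ⊥)
    (hnn : ¬ (S : Subgroup G).Normal) :
    Nat.card (normalizer ((S : Subgroup G) : Set G)) =
      Nat.card (InvIn (normalizer ((S : Subgroup G) : Set G))) *
        Nat.card (centralizer ((S : Subgroup G) : Set G)) := by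
  obtain ⟨g, hg⟩ := exists_not_mem_normalizer S hnn
  obtain ⟨u, hu, huH, _⟩ := exists_invol_coset hG S hS hnn hg
  have hse := isStronglyEmbedded hG S hS hnn
  obtain ⟨z, hz, hzS, _⟩ := exists_central_invol S hS
  have hCz := centralizer_eq hG S hz hzS
  -- a conjugating element for every involution of `H`
  have hk : ∀ t : InvIn (normalizer ((S : Subgroup G) : Set G)),
      ∃ k ∈ normalizer ((S : Subgroup G) : Set G), k * z * k⁻¹ = t.1 := by
    intro t
    obtain ⟨d, hd, hdz, _⟩ := se_exists_conj_in_D hse hu huH hz (le_normalizer hzS) t.2.1 t.2.2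
    exact ⟨d, (mem_inf.1 hd).1, hdz⟩
  choose k hkH hkz using hk
  rw [← Nat.card_prod]
  symm
  let F : InvIn (normalizer ((S : Subgroup G) : Set G)) × centralizer ((S : Subgroup G) : Set G) →
      normalizer ((S : Subgroup G) : Set G) := fun p =>
    ⟨k p.1 * p.2.1, mul_mem (hkH p.1) (centralizer_le_normalizer _ p.2.2)⟩
  have hconj : ∀ p : InvIn (normalizer ((S : Subgroup G) : Set G)) ×
      centralizer ((S : Subgroup G) : Set G),
      (k p.1 * p.2.1) * z * (k p.1 * p.2.1)⁻¹ = p.1.1 := by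
    intro p
    have hc : z * p.2.1 = p.2.1 * z := (mem_centralizer_iff.1 p.2.2) z hzS
    calc (k p.1 * p.2.1) * z * (k p.1 * p.2.1)⁻¹ = k p.1 * (p.2.1 * z) * p.2.1⁻¹ * (k p.1)⁻¹ := by
          group
      _ = k p.1 * (z * p.2.1) * p.2.1⁻¹ * (k p.1)⁻¹ := by rw [hc]
      _ = k p.1 * z * (k p.1)⁻¹ := by group
      _ = p.1.1 := hkz p.1
  apply Nat.card_congr (Equiv.ofBijective F ⟨?_, ?_⟩)
  · intro p q hpq
    have hval : k p.1 * p.2.1 = k q.1 * q.2.1 := congrArg Subtype.val hpq
    have h1 : p.1 = q.1 := by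
      apply Subtype.ext
      rw [← hconj p, ← hconj q, hval]
    have h2 : p.2 = q.2 := by
      apply Subtype.ext
      rw [h1] at hval
      exact mul_left_cancel hval
    exact Prod.ext h1 h2
  · intro h
    have ht : orderOf ((h : G) * z * (h : G)⁻¹) = 2 := by rw [orderOf_conj_eq, hz]
    have htH : (h : G) * z * (h : G)⁻¹ ∈ normalizer ((S : Subgroup G) : Set G) :=
      mul_mem (mul_mem h.2 (le_normalizer hzS)) (inv_mem h.2)
    set t : InvIn (normalizer ((S : Subgroup G) : Set G)) := ⟨_, ht, htH⟩ with htdef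
    have hc : (k t)⁻¹ * (h : G) ∈ centralizer ((S : Subgroup G) : Set G) := by
      rw [← hCz, mem_centralizer_singleton]
      have h1 : k t * z * (k t)⁻¹ = (h : G) * z * (h : G)⁻¹ := hkz t
      calc z * ((k t)⁻¹ * (h : G)) = (k t)⁻¹ * (k t * z * (k t)⁻¹) * (h : G) := by group
        _ = (k t)⁻¹ * ((h : G) * z * (h : G)⁻¹) * (h : G) := by rw [h1]
        _ = (k t)⁻¹ * (h : G) * z := by group
    refine ⟨(t, ⟨_, hc⟩), ?_⟩
    apply Subtype.ext
    show k t * ((k t)⁻¹ * (h : G)) = (h : G)
    group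

/-- A13. an element of `C` is the product of its 2-part (in `S`) and its odd part. -/
theorem exists_two_odd_parts (hG : Hyp G) (S : Sylow 2 G) {c : G}
    (hc : c ∈ centralizer ((S : Subgroup G) : Set G)) :
    ∃ s ∈ (S : Subgroup G), ∃ a ∈ centralizer ((S : Subgroup G) : Set G), Odd (orderOf a) ∧
      c = s * a ∧ s ∈ zpowers c ∧ a ∈ zpowers c := by
  obtain ⟨s, a, hsa, hs, ha, ⟨j, hj⟩, hcop⟩ := Cfsg.Agent.Lib.Helper73.dec' c 2 Nat.prime_two
  have hzc : zpowers c ≤ centralizer ((S : Subgroup G) : Set G) := by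
    rw [zpowers_le]; exact hc
  refine ⟨s, ?_, a, hzc ha, Nat.Coprime.odd_of_right hcop, hsa.symm, hs, ha⟩
  apply mem_sylow_of_mem_centralizer S (hzc hs)
  apply IsPGroup.of_card (n := j)
  rw [Nat.card_zpowers, hj]

omit [Finite G] in
/-- the centralizer of a conjugate element -/
theorem centralizer_conj (g t : G) :
    centralizer ({g * t * g⁻¹} : Set G) = lc g (centralizer ({t} : Set G)) := by
  ext x
  rw [mem_lc, mem_centralizer_singleton, mem_centralizer_singleton]
  constructor
  · intro h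
    calc t * (g⁻¹ * x * g) = g⁻¹ * (g * t * g⁻¹ * x) * g := by group
      _ = g⁻¹ * (x * (g * t * g⁻¹)) * g := by rw [h]
      _ = g⁻¹ * x * g * t := by group
  · intro h
    calc g * t * g⁻¹ * x = g * (t * (g⁻¹ * x * g)) * g⁻¹ := by group
      _ = g * (g⁻¹ * x * g * t) * g⁻¹ := by rw [h]
      _ = x * (g * t * g⁻¹) := by group

/-- A14. the local condition at the conjugate `gSg⁻¹`. -/
theorem loc_conj (hG : Hyp G) (hloc : Loc G) (S : Sylow 2 G) (hS : (S : Subgroup G) ≠ ⊥) (g : G)
    {a : G} (ha : a ∈ lc g (centralizer ((S : Subgroup G) : Set G))) (hodd : Odd (orderOf a))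
    (ha1 : a ≠ 1) :
    centralizer ({a} : Set G) ≤ lc g (normalizer ((S : Subgroup G) : Set G)) := by
  obtain ⟨z, hz, hzS, _⟩ := exists_central_invol S hS
  have hCz := centralizer_eq hG S hz hzS
  have hz' : orderOf (g * z * g⁻¹) = 2 := by rw [orderOf_conj_eq, hz]
  have h1 : centralizer ({g * z * g⁻¹} : Set G) = lc g (centralizer ((S : Subgroup G) : Set G)) := by
    rw [centralizer_conj, hCz]
  have h2 := hloc (g * z * g⁻¹) hz' a (by rw [h1]; exact ha) hodd ha1
  rw [h1, normalizer_lc, normalizer_centralizer_eq hG S hS] at h2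
  exact h2

/-- A15. the local condition follows from its version at one Sylow 2-subgroup. -/
theorem loc_of_sylow (hG : Hyp G) (S : Sylow 2 G) (hS : (S : Subgroup G) ≠ ⊥)
    (h : ∀ a ∈ centralizer ((S : Subgroup G) : Set G), Odd (orderOf a) → a ≠ 1 →
      centralizer ({a} : Set G) ≤ normalizer ((S : Subgroup G) : Set G)) : Loc G := by
  intro t ht a ha hodd ha1
  -- `t` lies in a conjugate of `S`
  obtain ⟨P, hP⟩ := IsPGroup.exists_le_sylow (isPGroup_zpowers_of_invol ht)
  obtain ⟨g, hg⟩ := MulAction.exists_smul_eq G S P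
  have htP : t ∈ lc g (S : Subgroup G) := by
    have h1 : t ∈ (P : Subgroup G) := hP (mem_zpowers t)
    rw [← hg] at h1
    exact h1
  have hzS : g⁻¹ * t * g ∈ (S : Subgroup G) := mem_lc.1 htP
  have hz : orderOf (g⁻¹ * t * g) = 2 := by
    have := orderOf_conj_eq g⁻¹ t
    rw [inv_inv] at this
    rw [this, ht]
  have hCz := centralizer_eq hG S hz hzS
  have htz : t = g * (g⁻¹ * t * g) * g⁻¹ := by group
  have hCt : centralizer ({t} : Set G) = lc g (centralizer ((S : Subgroup G) : Set G)) := by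
    rw [htz, centralizer_conj, hCz]
  rw [hCt, normalizer_lc, normalizer_centralizer_eq hG S hS]
  rw [hCt] at ha
  have ha' : g⁻¹ * a * g ∈ centralizer ((S : Subgroup G) : Set G) := mem_lc.1 ha
  have hodd' : Odd (orderOf (g⁻¹ * a * g)) := by
    have := orderOf_conj_eq g⁻¹ a
    rw [inv_inv] at this
    rw [this]
    exact hodd
  have ha1' : g⁻¹ * a * g ≠ 1 := by
    intro h1
    apply ha1
    calc a = g * (g⁻¹ * a * g) * g⁻¹ := by group
      _ = 1 := by rw [h1]; group
  have h3 := h _ ha' hodd' ha1'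
  intro x hx
  rw [mem_lc]
  apply h3
  rw [mem_centralizer_singleton] at hx ⊢
  calc g⁻¹ * a * g * (g⁻¹ * x * g) = g⁻¹ * (a * x) * g := by group
    _ = g⁻¹ * (x * a) * g := by rw [hx]
    _ = g⁻¹ * x * g * (g⁻¹ * a * g) := by group

end Cfsg.Agent.Lib.Helper60.AIC
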