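import Mathlib
import Cfsg.Prelude.Def_GeometricClasses
import Cfsg.Agent.Lib.Helper61.AschDefs
import Cfsg.Agent.Lib.Helper42.AschA1
import Cfsg.Agent.Lib.Helper22.AschA3
import Cfsg.Agent.Lib.Helper29.AschB1
import Cfsg.Agent.Lib.Helper29.AschB3

/-!
# K-S5630-E5 (keystone 221, architect helper61): the tensor-induced case of Aschbacher's theorem, assembly.

`geom_of_nonsimple_perfect_of` is the assembly with the statements of E1, E2, E3, E4 as explicit hypotheses
(A1, A3, B1, B3 are imported).  The function `pureAt` of the spec is written out as a lambda, so the hypotheses are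
definitionally the statements of the spec.
-/

set_option autoImplicit false

namespace Cfsg.Agent.Lib.Helper60.Asch

open Cfsg Cfsg.Geo Cfsg.Agent.Lib.Helper61.Asch
open scoped Matrix Kronecker MatrixGroups

variable {F : Type*} [Field F] {n : ℕ}

local notation "V" => (Fin n → F)
local notation "Mat" => Matrix (Fin n) (Fin n) F
local notation "Z" => scalars (Fin n) F

/-- The invertible matrices lying, together with their inverse, in the subalgebra `B`. -/
def unitsIn (B : Subalgebra F Mat) : Subgroup (GL (Fin n) F) where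
  carrier := {g | (g : Mat) ∈ B ∧ ((g⁻¹ : GL (Fin n) F) : Mat) ∈ B}
  mul_mem' := by
    rintro a b ⟨ha, ha'⟩ ⟨hb, hb'⟩
    refine ⟨?_, ?_⟩
    · rw [Units.val_mul]; exact B.mul_mem ha hb
    · rw [mul_inv_rev, Units.val_mul]; exact B.mul_mem hb' ha'
  one_mem' := by
    refine ⟨?_, ?_⟩
    · rw [Units.val_one]; exact B.one_mem
    · rw [inv_one, Units.val_one]; exact B.one_mem
  inv_mem' := by
    rintro a ⟨ha, ha'⟩
    exact ⟨ha', by rwa [inv_inv]⟩

theorem mem_unitsIn (B : Subalgebra F Mat) (g : GL (Fin n) F) :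
    g ∈ unitsIn B ↔ (g : Mat) ∈ B ∧ ((g⁻¹ : GL (Fin n) F) : Mat) ∈ B := Iff.rfl

theorem scalars_le_unitsIn (B : Subalgebra F Mat) : Z ≤ unitsIn B := by
  intro g hg
  have hg' : g⁻¹ ∈ Z := inv_mem hg
  rw [mem_scalars_iff] at hg hg'
  obtain ⟨c, hc⟩ := hg
  obtain ⟨d, hd⟩ := hg'
  refine ⟨?_, ?_⟩
  · rw [hc]; exact B.smul_mem B.one_mem _
  · rw [hd]; exact B.smul_mem B.one_mem _

theorem le_unitsIn_of_matrixSet_subset (Q : Subgroup (GL (Fin n) F)) (B : Subalgebra F Mat)
    (h : matrixSet Q ⊆ B) : Q ≤ unitsIn B := by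
  intro g hg
  exact ⟨h ⟨g, hg, rfl⟩, h ⟨g⁻¹, inv_mem hg, rfl⟩⟩

theorem matrixSet_subset_of_le_unitsIn (Q : Subgroup (GL (Fin n) F)) (B : Subalgebra F Mat)
    (h : Q ≤ unitsIn B) : matrixSet Q ⊆ B := by
  rintro _ ⟨g, hg, rfl⟩
  exact (h hg).1

/-- Elements of two subalgebras generated by elementwise commuting sets commute. -/
theorem commute_adjoin {S T : Set Mat} (h : ∀ x ∈ S, ∀ y ∈ T, x * y = y * x) :
    ∀ x ∈ Algebra.adjoin F S, ∀ y ∈ Algebra.adjoin F T, x * y = y * x := by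
  have h1 : Algebra.adjoin F S ≤ Subalgebra.centralizer F T := by
    apply Algebra.adjoin_le
    intro x hx
    rw [SetLike.mem_coe, Subalgebra.mem_centralizer_iff]
    intro y hy
    exact (h x hx y hy).symm
  intro x hx
  have h2 : Algebra.adjoin F T ≤ Subalgebra.centralizer F {x} := by
    apply Algebra.adjoin_le
    intro y hy
    rw [SetLike.mem_coe, Subalgebra.mem_centralizer_iff]
    intro z hz
    rw [Set.mem_singleton_iff] at hz
    subst hz
    have h3 := h1 hx
    rw [Subalgebra.mem_centralizer_iff] at h3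
    exact (h3 y hy).symm
  intro y hy
  have h3 := h2 hy
  rw [Subalgebra.mem_centralizer_iff] at h3
  exact h3 x rfl

/-- Conjugation by `k` maps `adjoin S` into `B` as soon as it maps `S` into `B`. -/
theorem conj_mem_of_adjoin {S : Set Mat} (B : Subalgebra F Mat) (k : GL (Fin n) F)
    (h : ∀ x ∈ S, (k : Mat) * x * ((k⁻¹ : GL (Fin n) F) : Mat) ∈ B) :
    ∀ x ∈ Algebra.adjoin F S, (k : Mat) * x * ((k⁻¹ : GL (Fin n) F) : Mat) ∈ B := by
  intro x hx
  induction hx using Algebra.adjoin_induction with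
  | mem x hx => exact h x hx
  | algebraMap r =>
    have h1 : (k : Mat) * algebraMap F Mat r * ((k⁻¹ : GL (Fin n) F) : Mat) = algebraMap F Mat r := by
      rw [← Algebra.commutes r (k : Mat), mul_assoc, ← Units.val_mul, mul_inv_cancel, Units.val_one,
        mul_one]
    rw [h1]; exact B.algebraMap_mem r
  | add x y _ _ hx hy =>
    rw [mul_add, add_mul]; exact B.add_mem hx hy
  | mul x y _ _ hx hy =>
    have h1 : (k : Mat) * (x * y) * ((k⁻¹ : GL (Fin n) F) : Mat) =
        ((k : Mat) * x * ((k⁻¹ : GL (Fin n) F) : Mat)) *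
          ((k : Mat) * y * ((k⁻¹ : GL (Fin n) F) : Mat)) := by
      simp only [mul_assoc, Units.inv_mul_cancel_left]
    rw [h1]; exact B.mul_mem hx hy

/-- A group of matrices spanning the whole matrix algebra acts irreducibly. -/
theorem actsIrreducibly_of_spanAlg_eq_top (N : Subgroup (GL (Fin n) F)) (h : spanAlg N = ⊤) :
    ActsIrreducibly (matrixSet N) := by
  intro W hW
  have hall : ∀ M : Mat, ∀ w ∈ W, M *ᵥ w ∈ W := by
    intro M
    have hM : M ∈ Algebra.adjoin F (matrixSet N) := by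
      have h1 : M ∈ spanAlg N := by rw [h]; exact Algebra.mem_top
      exact h1
    induction hM using Algebra.adjoin_induction with
    | mem x hx =>
      intro w hw
      exact hW x hx ⟨w, hw, by rw [Matrix.toLin'_apply]⟩
    | algebraMap r =>
      intro w hw
      rw [Algebra.algebraMap_eq_smul_one, Matrix.smul_mulVec, Matrix.one_mulVec]
      exact W.smul_mem r hw
    | add x y _ _ hx hy =>
      intro w hw
      rw [Matrix.add_mulVec]; exact W.add_mem (hx w hw) (hy w hw)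
    | mul x y _ _ hx hy =>
      intro w hw
      rw [← Matrix.mulVec_mulVec]; exact hx _ (hy w hw)
  by_cases hbot : W = ⊥
  · exact Or.inl hbot
  right
  obtain ⟨w, hw, hw0⟩ := (Submodule.ne_bot_iff W).1 hbot
  obtain ⟨i, hi⟩ : ∃ i, w i ≠ 0 := by
    by_contra hcon
    push Not at hcon
    exact hw0 (funext hcon)
  rw [eq_top_iff]
  intro v _
  have h1 : (Matrix.vecMulVec v (Pi.single i (w i)⁻¹)) *ᵥ w = v := by
    ext j
    simp [Matrix.mulVec, Matrix.vecMulVec, dotProduct, Pi.single_apply, mul_assoc, hi]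
  rw [← h1]; exact hall _ w hw

/-- A matrix commuting with a group of matrices spanning the matrix algebra is a scalar matrix. -/
theorem eq_smul_one_of_commute (N : Subgroup (GL (Fin n) F)) (h : spanAlg N = ⊤) (c : Mat)
    (hc : ∀ s ∈ matrixSet N, s * c = c * s) : ∃ r : F, c = r • (1 : Mat) := by
  have h1 : Algebra.adjoin F (matrixSet N) ≤ Subalgebra.centralizer F {c} := by
    apply Algebra.adjoin_le
    intro y hy
    rw [SetLike.mem_coe, Subalgebra.mem_centralizer_iff]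
    intro z hz
    rw [Set.mem_singleton_iff] at hz
    subst hz
    exact (hc y hy).symm
  have h2 : ∀ M : Mat, M * c = c * M := by
    intro M
    have h3 : M ∈ Subalgebra.centralizer F {c} := h1 (by
      have h4 : M ∈ spanAlg N := by rw [h]; exact Algebra.mem_top
      exact h4)
    rw [Subalgebra.mem_centralizer_iff] at h3
    exact (h3 c rfl).symm
  obtain ⟨r, hr⟩ := Matrix.mem_range_scalar_iff_commute_single'.2 (fun i j => h2 _)
  refine ⟨r, ?_⟩
  rw [← hr, Matrix.smul_one_eq_diagonal]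
  rfl

/-- Elements lying with their inverse in `A` normalize `A`. -/
theorem unitsIn_le_subalgebraNormalizer (A : Subalgebra F Mat) : unitsIn A ≤ subalgebraNormalizer A := by
  rintro g ⟨hg, hg'⟩
  intro k
  constructor
  · intro hk
    exact A.mul_mem (A.mul_mem hg hk) hg'
  · intro hk
    have h1 : k = ((g⁻¹ : GL (Fin n) F) : Mat) * ((g : Mat) * k * ((g⁻¹ : GL (Fin n) F) : Mat)) * (g : Mat) := by
      simp only [mul_assoc, Units.inv_mul_cancel_left, Units.inv_mul, mul_one]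
    rw [h1]
    exact A.mul_mem (A.mul_mem hg' hk) hg

/-- Elements centralizing `A` (with their inverse) normalize `A`. -/
theorem unitsIn_centralizer_le_subalgebraNormalizer (A : Subalgebra F Mat) :
    unitsIn (Subalgebra.centralizer F (A : Set Mat)) ≤ subalgebraNormalizer A := by
  rintro g ⟨hg, hg'⟩
  rw [Subalgebra.mem_centralizer_iff] at hg hg'
  intro k
  constructor
  · intro hk
    have h1 : (g : Mat) * k * ((g⁻¹ : GL (Fin n) F) : Mat) = k := by
      rw [← hg k hk, mul_assoc, ← Units.val_mul, mul_inv_cancel, Units.val_one, mul_one]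
    rw [h1]; exact hk
  · intro hk
    have h1 : k = ((g⁻¹ : GL (Fin n) F) : Mat) * ((g : Mat) * k * ((g⁻¹ : GL (Fin n) F) : Mat)) * (g : Mat) := by
      simp only [mul_assoc, Units.inv_mul_cancel_left, Units.inv_mul, mul_one]
    have h2 : ((g⁻¹ : GL (Fin n) F) : Mat) * ((g : Mat) * k * ((g⁻¹ : GL (Fin n) F) : Mat)) * (g : Mat) =
        (g : Mat) * k * ((g⁻¹ : GL (Fin n) F) : Mat) := by
      rw [← hg' _ hk, mul_assoc, ← Units.val_mul, inv_mul_cancel, Units.val_one, mul_one]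
    rw [h1, h2]; exact hk

/-- The spec's `pureAt`: the matrix on `Fin t → Fin m` of `1 ⊗ … ⊗ x ⊗ … ⊗ 1` (`x` in position `i`). -/
abbrev pureAtE5 (m t : ℕ) (i : Fin t) (x : Matrix (Fin m) (Fin m) F) :
    Matrix (Fin t → Fin m) (Fin t → Fin m) F :=
  fun u v => if ∀ j, j ≠ i → u j = v j then x (u i) (v i) else 0

/-- K-S5630-E5 with the statements of E1–E4 as hypotheses (E3 with the extra hypothesis `0 < t`). -/
theorem geom_of_nonsimple_perfect_of_pos [Fintype F] (K N : Subgroup (GL (Fin n) F)) (hn : 3 ≤ n)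
    (hspan : spanAlg N = ⊤)
    (hE1 : ∃ (t : ℕ) (Q : Fin t → Subgroup (GL (Fin n) F)), 2 ≤ t ∧ (∀ i, Q i ≤ N) ∧ (∀ i, ¬ Q i ≤ Z) ∧
      (∀ i j, i ≠ j → ∀ x ∈ Q i, ∀ y ∈ Q j, x * y = y * x) ∧
      N ≤ (⨆ i, Q i) ⊔ Z ∧
      (∀ k ∈ K, ∃ σ : Equiv.Perm (Fin t), ∀ i, ∀ x ∈ Q i, k * x * k⁻¹ ∈ Q (σ i)) ∧
      (∀ i j, ∃ k ∈ K, ∀ x ∈ Q i, k * x * k⁻¹ ∈ Q j))
    (hE2 : ∀ (m t : ℕ), 0 < n → 0 < m → ∀ φ : Fin t → (Matrix (Fin m) (Fin m) F →ₐ[F] Mat),
      (∀ i j, i ≠ j → ∀ x y, φ i x * φ j y = φ j y * φ i x) →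
      Algebra.adjoin F (⋃ i, Set.range (φ i)) = ⊤ →
      ∃ (e : Fin n ≃ (Fin t → Fin m)) (P : GL (Fin n) F), ∀ i x,
        φ i x = (P : Mat) * Matrix.reindex e.symm e.symm (pureAtE5 m t i x) *
          ((P⁻¹ : GL (Fin n) F) : Mat))
    (hE3 : ∀ (m t : ℕ), 0 < m → 0 < t → ∀ (e : Fin n ≃ (Fin t → Fin m)) (P k : GL (Fin n) F)
      (σ : Equiv.Perm (Fin t)),
      (∀ i x, ∃ y, (k : Mat) * ((P : Mat) * Matrix.reindex e.symm e.symm (pureAtE5 m t i x) *
          ((P⁻¹ : GL (Fin n) F) : Mat)) * ((k⁻¹ : GL (Fin n) F) : Mat) =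
        (P : Mat) * Matrix.reindex e.symm e.symm (pureAtE5 m t (σ i) y) *
          ((P⁻¹ : GL (Fin n) F) : Mat)) →
      k ∈ tensorWreathSubgroup m t e P)
    (hE4 : ∀ (t : ℕ), 2 ≤ t → ∀ (e : Fin n ≃ (Fin t → Fin 2)) (P : GL (Fin n) F),
      K ≤ tensorWreathSubgroup 2 t e P → Geom K) : Geom K := by
  classical
  obtain ⟨t, Q, ht, hQN, hQZ, hQcomm, hNQ, hperm, htrans⟩ := hE1
  have hn0 : 0 < n := by omega
  set A : Fin t → Subalgebra F Mat := fun i => spanAlg (Q i) with hA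
  have hQA : ∀ i, matrixSet (Q i) ⊆ A i := fun i => Algebra.subset_adjoin
  -- elements of `A i` and `A j` commute
  have hAcomm : ∀ i j, i ≠ j → ∀ x ∈ A i, ∀ y ∈ A j, x * y = y * x := by
    intro i j hij
    apply commute_adjoin
    rintro _ ⟨g, hg, rfl⟩ _ ⟨h, hh, rfl⟩
    have h1 := hQcomm i j hij g hg h hh
    rw [← Units.val_mul, ← Units.val_mul, h1]
  -- `N` lies in `unitsIn B` as soon as all `Q j` do
  have hNB : ∀ B : Subalgebra F Mat, (∀ j, matrixSet (Q j) ⊆ B) → N ≤ unitsIn B := by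
    intro B hB
    exact hNQ.trans (sup_le (iSup_le fun j => le_unitsIn_of_matrixSet_subset _ _ (hB j))
      (scalars_le_unitsIn B))
  have hNirr : ActsIrreducibly (matrixSet N) := actsIrreducibly_of_spanAlg_eq_top N hspan
  -- `N` normalizes every `A i`
  have hNnorm : ∀ i, N ≤ subalgebraNormalizer (A i) := by
    intro i
    refine hNQ.trans (sup_le (iSup_le fun j => ?_) ?_)
    · by_cases hji : j = i
      · subst hji
        exact (le_unitsIn_of_matrixSet_subset _ _ (hQA j)).trans (unitsIn_le_subalgebraNormalizer _)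
      · refine (le_unitsIn_of_matrixSet_subset _ _ ?_).trans
          (unitsIn_centralizer_le_subalgebraNormalizer (A i))
        intro x hx
        rw [SetLike.mem_coe, Subalgebra.mem_centralizer_iff]
        intro y hy
        exact hAcomm i j (Ne.symm hji) y hy x (hQA j hx)
    · exact (scalars_le_unitsIn (A i)).trans (unitsIn_le_subalgebraNormalizer _)
  have hNormAlg : ∀ i, NormAlg N (A i) := fun i k hk x hx => ((hNnorm i hk) x).1 hx
  have hss : ∀ i, IsSemisimpleModule (A i) V := fun i =>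
    Cfsg.Agent.Lib.Helper42.Asch.isSemisimpleModule_of_normAlg N (A i) hNirr (hNormAlg i)
  have hiso : ∀ i, IsIsotypic (A i) V := by
    intro i
    refine Cfsg.Agent.Lib.Helper22.Asch.isIsotypic_of_generated N (A i) hNirr (hss i)
      {g | (∃ j, g ∈ Q j) ∨ g ∈ Z} ?_ ?_
    · refine hNQ.trans (sup_le (iSup_le fun j => ?_) ?_)
      · intro g hg
        exact Subgroup.subset_closure (Or.inl ⟨j, hg⟩)
      · intro g hg
        exact Subgroup.subset_closure (Or.inr hg)
    · rintro g (⟨j, hg⟩ | hg)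
      · by_cases hji : j = i
        · subst hji
          exact Or.inl (hQA j ⟨g, hg, rfl⟩)
        · right
          intro x hx
          exact hAcomm j i hji _ (hQA j ⟨g, hg, rfl⟩) x hx
      · right
        intro x hx
        rw [mem_scalars_iff] at hg
        obtain ⟨c, hc⟩ := hg
        rw [hc, smul_mul_assoc, one_mul, mul_smul_comm, mul_one]
  have hsimple : ∀ i, IsSimpleRing (A i) := fun i =>
    Cfsg.Agent.Lib.Helper29.Asch.isSimpleRing_of_isIsotypic (A i) hn0 (hss i) (hiso i)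
  have hcenter : ∀ i, Subalgebra.center F (A i) = ⊥ := by
    intro i
    rw [eq_bot_iff]
    intro c hc
    rw [Subalgebra.mem_center_iff] at hc
    have h1 : ∀ s ∈ matrixSet N, s * (c : Mat) = (c : Mat) * s := by
      have h2 : N ≤ unitsIn (Subalgebra.centralizer F {(c : Mat)}) := by
        apply hNB
        intro j
        rintro _ ⟨g, hg, rfl⟩
        rw [SetLike.mem_coe, Subalgebra.mem_centralizer_iff]
        intro z hz
        rw [Set.mem_singleton_iff] at hz
        subst hz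
        by_cases hji : j = i
        · subst hji
          have h3 := hc ⟨(g : Mat), hQA j ⟨g, hg, rfl⟩⟩
          exact (congrArg Subtype.val h3).symm
        · exact hAcomm i j (Ne.symm hji) c c.2 g (hQA j ⟨g, hg, rfl⟩)
      intro s hs
      have h3 := matrixSet_subset_of_le_unitsIn N _ h2 hs
      rw [SetLike.mem_coe, Subalgebra.mem_centralizer_iff] at h3
      exact (h3 c rfl).symm
    obtain ⟨r, hr⟩ := eq_smul_one_of_commute N hspan c h1
    rw [Algebra.mem_bot]
    refine ⟨r, Subtype.ext ?_⟩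
    rw [hr]
    simp [Algebra.algebraMap_eq_smul_one]
  have hB3 : ∀ i, ∃ a : ℕ, 0 < a ∧ Nonempty (Matrix (Fin a) (Fin a) F ≃ₐ[F] A i) := fun i => by
    have := hsimple i
    exact Cfsg.Agent.Lib.Helper29.Asch.exists_algEquiv_matrix_of_center_eq_bot (A i) (hcenter i)
  have hfr : ∀ i (a : ℕ), Nonempty (Matrix (Fin a) (Fin a) F ≃ₐ[F] A i) →
      Module.finrank F (A i) = a * a := by
    rintro i a ⟨ψ⟩
    rw [← ψ.toLinearEquiv.finrank_eq, Module.finrank_matrix]
    simp
  -- conjugation by `k ∈ K` carrying `Q i` into `Q j` carries `A i` into `A j`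
  have hconj : ∀ (i j : Fin t) (k : GL (Fin n) F), (∀ x ∈ Q i, k * x * k⁻¹ ∈ Q j) →
      ∀ x ∈ A i, (k : Mat) * x * ((k⁻¹ : GL (Fin n) F) : Mat) ∈ A j := by
    intro i j k hk
    apply conj_mem_of_adjoin
    rintro _ ⟨g, hg, rfl⟩
    exact hQA j ⟨k * g * k⁻¹, hk g hg, by simp [Units.val_mul]⟩
  have hdim : ∀ i j, Module.finrank F (A i) ≤ Module.finrank F (A j) := by
    intro i j
    obtain ⟨k, -, hk⟩ := htrans i j
    have hc := hconj i j k hk
    let f : A i →ₗ[F] A j :=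
      { toFun := fun x => ⟨(k : Mat) * x * ((k⁻¹ : GL (Fin n) F) : Mat), hc x x.2⟩
        map_add' := fun x y => by
          apply Subtype.ext
          simp [mul_add, add_mul]
        map_smul' := fun r x => by
          apply Subtype.ext
          simp }
    refine LinearMap.finrank_le_finrank_of_injective (f := f) ?_
    intro x y hxy
    have h1 : (k : Mat) * x * ((k⁻¹ : GL (Fin n) F) : Mat) = (k : Mat) * y * ((k⁻¹ : GL (Fin n) F) : Mat) :=
      congrArg Subtype.val hxy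
    apply Subtype.ext
    have h2 : ∀ z : Mat, ((k⁻¹ : GL (Fin n) F) : Mat) * ((k : Mat) * z * ((k⁻¹ : GL (Fin n) F) : Mat)) * (k : Mat)
        = z := by
      intro z
      simp only [mul_assoc, Units.inv_mul_cancel_left, Units.inv_mul, mul_one]
    rw [← h2 x, ← h2 y, h1]
  have i0 : Fin t := ⟨0, by omega⟩
  obtain ⟨m, hm, hψ0⟩ := hB3 i0
  have hψ : ∀ i, Nonempty (Matrix (Fin m) (Fin m) F ≃ₐ[F] A i) := by
    intro i
    obtain ⟨a, ha, hψa⟩ := hB3 i
    have h1 : a * a = m * m := by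
      rw [← hfr i a hψa, ← hfr i0 m hψ0]
      exact le_antisymm (hdim i i0) (hdim i0 i)
    have h2 : a = m := Nat.mul_self_inj.1 h1
    subst h2
    exact hψa
  choose ψ _ using fun i => exists_true_iff_nonempty.2 (hψ i)
  -- `m ≥ 2`
  have hm2 : 2 ≤ m := by
    by_contra hlt
    have hm1 : m = 1 := by omega
    subst hm1
    apply hQZ i0
    intro g hg
    have hgA : (g : Mat) ∈ A i0 := hQA i0 ⟨g, hg, rfl⟩
    set y := (ψ i0).symm ⟨(g : Mat), hgA⟩ with hy
    have h1 : y = (y 0 0) • (1 : Matrix (Fin 1) (Fin 1) F) := by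
      ext a b
      have ha : a = 0 := Subsingleton.elim _ _
      have hb : b = 0 := Subsingleton.elim _ _
      subst ha; subst hb
      simp
    have h2 : (g : Mat) = (y 0 0) • (1 : Mat) := by
      have h3 : ψ i0 y = ⟨(g : Mat), hgA⟩ := by rw [hy]; simp
      have h4 : ((ψ i0 y : A i0) : Mat) = (g : Mat) := by rw [h3]
      rw [← h4, h1, map_smul, map_one]
      simp
    have h3 : y 0 0 ≠ 0 := by
      intro h0
      rw [h0, zero_smul] at h2
      have h4 : (g : Mat) * ((g⁻¹ : GL (Fin n) F) : Mat) = 1 := by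
        rw [← Units.val_mul, mul_inv_cancel, Units.val_one]
      rw [h2, zero_mul] at h4
      have : Nonempty (Fin n) := ⟨⟨0, hn0⟩⟩
      exact zero_ne_one h4
    rw [mem_scalars_iff]
    exact ⟨Units.mk0 _ h3, h2⟩
  set φ : Fin t → (Matrix (Fin m) (Fin m) F →ₐ[F] Mat) := fun i => (A i).val.comp (ψ i).toAlgHom with hφdef
  have hφmem : ∀ i x, φ i x ∈ A i := fun i x => (ψ i x).2
  have hφsurj : ∀ i, ∀ z ∈ A i, ∃ x, φ i x = z := by
    intro i z hz
    refine ⟨(ψ i).symm ⟨z, hz⟩, ?_⟩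
    simp [hφdef]
  have hcommφ : ∀ i j, i ≠ j → ∀ x y, φ i x * φ j y = φ j y * φ i x := fun i j hij x y =>
    hAcomm i j hij _ (hφmem i x) _ (hφmem j y)
  have hgenφ : Algebra.adjoin F (⋃ i, Set.range (φ i)) = ⊤ := by
    rw [eq_top_iff, ← hspan]
    apply Algebra.adjoin_le
    apply matrixSet_subset_of_le_unitsIn
    apply hNB
    intro j z hz
    obtain ⟨x, hx⟩ := hφsurj j z (hQA j hz)
    exact Algebra.subset_adjoin (Set.mem_iUnion.2 ⟨j, x, hx⟩)
  obtain ⟨e, P, hφ⟩ := hE2 m t hn0 hm φ hcommφ hgenφ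
  have hKle : K ≤ tensorWreathSubgroup m t e P := by
    intro k hk
    obtain ⟨σ, hσ⟩ := hperm k hk
    apply hE3 m t hm (by omega) e P k σ
    intro i x
    rw [← hφ i x]
    obtain ⟨y, hy⟩ := hφsurj (σ i) _ (hconj i (σ i) k (hσ i) _ (hφmem i x))
    exact ⟨y, by rw [← hφ (σ i) y, hy]⟩
  by_cases hm3 : 3 ≤ m
  · exact ⟨tensorWreathSubgroup m t e P,
      Or.inr (Or.inr (Or.inr (Or.inr (Or.inr (Or.inr (Or.inr (Or.inr (Or.inl
        ⟨m, t, e, P, hm3, ht, rfl⟩)))))))), hKle⟩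
  · have hm2' : m = 2 := by omega
    subst hm2'
    exact hE4 t ht e P hKle

/-- K-S5630-E5 with the statements of E1–E4 (exactly as in the spec) as hypotheses. -/
theorem geom_of_nonsimple_perfect_of [Fintype F] (K N : Subgroup (GL (Fin n) F)) (hn : 3 ≤ n)
    (hspan : spanAlg N = ⊤)
    (hE1 : ∃ (t : ℕ) (Q : Fin t → Subgroup (GL (Fin n) F)), 2 ≤ t ∧ (∀ i, Q i ≤ N) ∧ (∀ i, ¬ Q i ≤ Z) ∧
      (∀ i j, i ≠ j → ∀ x ∈ Q i, ∀ y ∈ Q j, x * y = y * x) ∧
      N ≤ (⨆ i, Q i) ⊔ Z ∧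
      (∀ k ∈ K, ∃ σ : Equiv.Perm (Fin t), ∀ i, ∀ x ∈ Q i, k * x * k⁻¹ ∈ Q (σ i)) ∧
      (∀ i j, ∃ k ∈ K, ∀ x ∈ Q i, k * x * k⁻¹ ∈ Q j))
    (hE2 : ∀ (m t : ℕ), 0 < n → 0 < m → ∀ φ : Fin t → (Matrix (Fin m) (Fin m) F →ₐ[F] Mat),
      (∀ i j, i ≠ j → ∀ x y, φ i x * φ j y = φ j y * φ i x) →
      Algebra.adjoin F (⋃ i, Set.range (φ i)) = ⊤ →
      ∃ (e : Fin n ≃ (Fin t → Fin m)) (P : GL (Fin n) F), ∀ i x,
        φ i x = (P : Mat) * Matrix.reindex e.symm e.symm (pureAtE5 m t i x) *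
          ((P⁻¹ : GL (Fin n) F) : Mat))
    (hE3 : ∀ (m t : ℕ), 0 < m → ∀ (e : Fin n ≃ (Fin t → Fin m)) (P k : GL (Fin n) F)
      (σ : Equiv.Perm (Fin t)),
      (∀ i x, ∃ y, (k : Mat) * ((P : Mat) * Matrix.reindex e.symm e.symm (pureAtE5 m t i x) *
          ((P⁻¹ : GL (Fin n) F) : Mat)) * ((k⁻¹ : GL (Fin n) F) : Mat) =
        (P : Mat) * Matrix.reindex e.symm e.symm (pureAtE5 m t (σ i) y) *
          ((P⁻¹ : GL (Fin n) F) : Mat)) →
      k ∈ tensorWreathSubgroup m t e P)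
    (hE4 : ∀ (t : ℕ), 2 ≤ t → ∀ (e : Fin n ≃ (Fin t → Fin 2)) (P : GL (Fin n) F),
      K ≤ tensorWreathSubgroup 2 t e P → Geom K) : Geom K :=
  geom_of_nonsimple_perfect_of_pos K N hn hspan hE1 hE2
    (fun m t hm _ e P k σ h => hE3 m t hm e P k σ h) hE4

end Cfsg.Agent.Lib.Helper60.Asch
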