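import Cfsg.Agent.Lib.Helper50.NonMaxPlane
import Cfsg.Agent.Lib.Helper50.GeoBridge

set_option autoImplicit false

/-! K-OEvenX-X3: bridge from `Helper50.nonmax_plus_plane` (bundled quadratic forms) to a function
`Q : (Fin n → F) → F` satisfying `Cfsg.Geo.IsNondegenerateQuadraticForm`. -/

namespace Cfsg.Agent.Lib.Helper60.OEvenX

open Cfsg Cfsg.Geo
open scoped Matrix MatrixGroups

variable {F : Type*} [Field F] [Fintype F] {n : ℕ}

/-- K-OEvenX-X3.  Over a field with at most three elements, the stabiliser in `Ω` of a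
non-degenerate plane of plus type is not maximal (dimension at least 5). -/
theorem nonmax_plusPlane_small (hn : 5 ≤ n) (Q : (Fin n → F) → F)
    (hQ : IsNondegenerateQuadraticForm Q)
    (hq : Fintype.card F ≤ 3) (W : Submodule F (Fin n → F)) (hdim : Module.finrank F W = 2)
    (hW : IsNondegenerateOn (QuadraticMap.polar Q) W) (hplus : IsPlusTypeOn Q W) :
    ∃ K : Subgroup (GL (Fin n) F), subspaceStabilizer W ⊓ omegaGL Q < K ∧ K < omegaGL Q := by
  have h := Cfsg.Agent.Lib.Helper50.nonmax_plus_plane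
    (Cfsg.Agent.Lib.Helper50.geoForm Q hQ)
    (Cfsg.Agent.Lib.Helper50.geoForm_nondegenerate Q hQ)
    (by simpa using hn) hq W hdim hW hplus
  exact h

end Cfsg.Agent.Lib.Helper60.OEvenX
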