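import Mathlib

/-!
# K-S3359-10 (keystone 335910, architect helper74): the odd normal complement `M` of `⟨z⟩` in `C`.
-/

set_option autoImplicit false

universe u

namespace Cfsg.Agent.Lib.Helper60.FC

/-- K-S3359-10. -/
theorem exists_odd_complement {G : Type u} [Group G] [Finite G] (C : Subgroup G) [C.Normal] (z : G)
    (hzC : z ∈ C) (hz : z * z = 1) (hz1 : z ≠ 1) (hcent : ∀ c ∈ C, z * c = c * z)
    (h2 : ∀ t ∈ C, t ^ 4 = 1 → t = 1 ∨ t = z) :
    ∃ M : Subgroup G, M.Normal ∧ M ≤ C ∧ Odd (Nat.card M) ∧ z ∉ M ∧ ∀ c ∈ C, c ∈ M ∨ z * c ∈ M := by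
  classical
  -- the element `z` inside `C`
  obtain ⟨z', hz'def⟩ : ∃ z' : C, z' = ⟨z, hzC⟩ := ⟨_, rfl⟩
  have hz'val : (z' : G) = z := by rw [hz'def]
  have hz'2 : z' ^ 2 = 1 := by
    apply Subtype.ext
    rw [Subgroup.coe_pow, hz'val, pow_two, hz, Subgroup.coe_one]
  have hz'1 : z' ≠ 1 := by
    intro h
    apply hz1
    rw [← hz'val, h, Subgroup.coe_one]
  have hord : orderOf z' = 2 := orderOf_eq_prime hz'2 hz'1
  have hz'c : ∀ c : C, Commute c z' := by
    intro c
    apply Subtype.ext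
    rw [Subgroup.coe_mul, Subgroup.coe_mul, hz'val]
    exact (hcent c.1 c.2).symm
  -- 4 does not divide |C|
  have h4 : ¬ 4 ∣ Nat.card C := by
    intro hdvd
    obtain ⟨K, hK⟩ := Sylow.exists_subgroup_card_pow_prime (G := C) 2 (n := 2) (by simpa using hdvd)
    have hsub : (K : Set C) ⊆ {1, z'} := by
      intro t ht
      have ht4 : t ^ 4 = 1 := by
        have h1 : (⟨t, ht⟩ : K) ^ Nat.card K = 1 := pow_card_eq_one'
        rw [hK] at h1
        have h2' := congrArg Subtype.val h1
        simpa using h2'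
      have ht4' : (t : G) ^ 4 = 1 := by
        rw [← Subgroup.coe_pow, ht4, Subgroup.coe_one]
      rcases h2 t.1 t.2 ht4' with h | h
      · left
        apply Subtype.ext
        rw [h, Subgroup.coe_one]
      · right
        rw [Set.mem_singleton_iff]
        apply Subtype.ext
        rw [h, hz'val]
    have hle : Nat.card K ≤ 2 := by
      have h1 : Nat.card K = (K : Set C).ncard := Nat.card_coe_set_eq _
      have h2' : (K : Set C).ncard ≤ ({1, z'} : Set C).ncard :=
        Set.ncard_le_ncard hsub (Set.toFinite _)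
      have h3 : ({1, z'} : Set C).ncard ≤ ({z'} : Set C).ncard + 1 := Set.ncard_insert_le _ _
      rw [Set.ncard_singleton] at h3
      omega
    rw [hK] at hle
    norm_num at hle
  -- the central subgroup `Z = ⟨z⟩` of `C`
  have hZn : (Subgroup.zpowers z').Normal := by
    refine ⟨fun n hn g => ?_⟩
    obtain ⟨k, rfl⟩ := Subgroup.mem_zpowers_iff.mp hn
    have hc : Commute g (z' ^ k) := (hz'c g).zpow_right k
    have : g * z' ^ k * g⁻¹ = z' ^ k := by
      rw [hc.eq, mul_inv_cancel_right]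
    rw [this]
    exact Subgroup.zpow_mem_zpowers z' k
  have hZcard : Nat.card (Subgroup.zpowers z') = 2 := by
    rw [Nat.card_zpowers, hord]
  have hZidx : Odd (Subgroup.zpowers z').index := by
    rw [← Nat.not_even_iff_odd]
    intro hev
    apply h4
    rw [← (Subgroup.zpowers z').card_mul_index, hZcard]
    obtain ⟨k, hk⟩ := hev
    rw [hk]
    exact ⟨k, by ring⟩
  have hcop : Nat.Coprime (Nat.card (Subgroup.zpowers z')) (Subgroup.zpowers z').index := by
    rw [hZcard]
    exact (Nat.coprime_two_left).mpr hZidx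
  obtain ⟨H, hH⟩ := Subgroup.exists_right_complement'_of_coprime hcop
  have hHidx : H.index = 2 := by
    rw [hH.index_eq_card, hZcard]
  have hHodd : Odd (Nat.card H) := by
    rw [← hH.symm.index_eq_card]
    exact hZidx
  -- odd-order elements of `C` lie in `H`
  have hmemH : ∀ c : C, ∀ k : ℕ, Odd k → c ^ k = 1 → c ∈ H := by
    intro c k hk hck
    obtain ⟨l, rfl⟩ := hk
    have h1 : (c * c) ^ (l + 1) = c := by
      calc (c * c) ^ (l + 1) = c ^ (2 * l + 1) * c := by
            rw [← pow_two, ← pow_mul, ← pow_succ]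
            congr 1
        _ = c := by rw [hck, one_mul]
    rw [← h1]
    exact H.pow_mem (Subgroup.mul_self_mem_of_index_two hHidx c) _
  have hz'H : z' ∉ H := by
    intro hzH
    have h1 : orderOf z' ∣ Nat.card H := Subgroup.orderOf_dvd_natCard H hzH
    rw [hord] at h1
    obtain ⟨k, hk⟩ := h1
    obtain ⟨l, hl⟩ := hHodd
    omega
  refine ⟨H.map C.subtype, ⟨?_⟩, ?_, ?_, ?_, ?_⟩
  · -- normal in `G`
    intro m hm g
    obtain ⟨h, hhH, rfl⟩ := Subgroup.mem_map.mp hm
    have hconj : g * (C.subtype h) * g⁻¹ ∈ C := Subgroup.Normal.conj_mem inferInstance _ h.2 g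
    have hpow : (h : C) ^ Nat.card H = 1 := by
      have h1 : (⟨h, hhH⟩ : H) ^ Nat.card H = 1 := pow_card_eq_one'
      have h2' : (((⟨h, hhH⟩ : H) ^ Nat.card H : H) : C) = ((1 : H) : C) := congrArg Subtype.val h1
      rw [Subgroup.coe_pow, Subgroup.coe_one] at h2'
      exact h2'
    have hc : (⟨g * (C.subtype h) * g⁻¹, hconj⟩ : C) ∈ H := by
      apply hmemH _ (Nat.card H) hHodd
      apply Subtype.ext
      rw [Subgroup.coe_pow, Subgroup.coe_one]
      show (g * (C.subtype h) * g⁻¹) ^ Nat.card H = 1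
      rw [conj_pow, ← map_pow, hpow, map_one, mul_one, mul_inv_cancel]
    exact Subgroup.mem_map.mpr ⟨_, hc, rfl⟩
  · exact Subgroup.map_subtype_le H
  · rw [Subgroup.card_map_of_injective C.subtype_injective]
    exact hHodd
  · intro hzM
    obtain ⟨h, hhH, hhz⟩ := Subgroup.mem_map.mp hzM
    apply hz'H
    have : h = z' := by
      apply Subtype.ext
      rw [hz'val]
      exact hhz
    rw [← this]
    exact hhH
  · intro c hc
    by_cases hcH : (⟨c, hc⟩ : C) ∈ H
    · left
      exact Subgroup.mem_map.mpr ⟨_, hcH, rfl⟩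
    · right
      have h1 : z' * ⟨c, hc⟩ ∈ H := by
        rw [Subgroup.mul_mem_iff_of_index_two hHidx]
        exact ⟨fun h => absurd h hz'H, fun h => absurd h hcH⟩
      refine Subgroup.mem_map.mpr ⟨_, h1, ?_⟩
      show ((z' * ⟨c, hc⟩ : C) : G) = z * c
      rw [Subgroup.coe_mul, hz'val]

end Cfsg.Agent.Lib.Helper60.FC
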