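import Mathlib

/-!
# K-S0690-3 (keystone 69003, architect helper11): the "Principle" - a common invariant plane.
-/

set_option autoImplicit false
set_option linter.style.haveILetI false

namespace Cfsg.Agent.Lib.Helper60.Zass

variable {K : Type*} [Field K] [IsAlgClosed K]
variable {V : Type*} [AddCommGroup V] [Module K V] [FiniteDimensional K V]

/-- a primitive cube root of unity -/
theorem exists_omega [CharZero K] : ∃ o : K, o * o + o + 1 = 0 ∧ o - o * o ≠ 0 := by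
  obtain ⟨r, hr⟩ := IsAlgClosed.exists_pow_nat_eq (-3 : K) (n := 2) (by norm_num)
  have hr0 : r ≠ 0 := by
    rintro rfl
    norm_num at hr
  refine ⟨(-1 + r) / 2, by linear_combination (1 / 4 : K) * hr, ?_⟩
  have : (-1 + r) / 2 - (-1 + r) / 2 * ((-1 + r) / 2) = r := by
    linear_combination (-1 / 4 : K) * hr
  rw [this]
  exact hr0

/-- K-S0690-3. -/
theorem exists_common_plane [CharZero K] [Nontrivial V] (X Y₁ Y₂ : Module.End K V)
    (hX : X * X + X + 1 = 0) (hY₁ : Y₁ * Y₁ + Y₁ + 1 = 0) (hY₂ : Y₂ * Y₂ + Y₂ + 1 = 0)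
    (σ₁ σ₂ : K) (hS₁ : X * Y₁ + Y₁ * X + X + Y₁ + 1 = σ₁ • (1 : Module.End K V))
    (hS₂ : X * Y₂ + Y₂ * X + X + Y₂ + 1 = σ₂ • (1 : Module.End K V))
    (hne₁ : ∀ w : V, w ≠ 0 → ∀ a b : K, X w = a • w → Y₁ w = b • w → False)
    (hne₂ : ∀ w : V, w ≠ 0 → ∀ a b : K, X w = a • w → Y₂ w = b • w → False) :
    ∃ w : V, w ≠ 0 ∧ (∃ l : K, X w = l • w) ∧ (∃ a b : K, X (Y₁ w) = a • w + b • Y₁ w) ∧
      (∃ c d : K, Y₂ w = c • w + d • Y₁ w) ∧ (∃ e f : K, Y₂ (Y₁ w) = e • w + f • Y₁ w) := by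
  classical
  -- pointwise forms
  have hXv : ∀ v, X (X v) + X v + v = 0 := fun v => by
    have := congrArg (fun f : Module.End K V => f v) hX
    simpa using this
  have hY₁v : ∀ v, Y₁ (Y₁ v) + Y₁ v + v = 0 := fun v => by
    have := congrArg (fun f : Module.End K V => f v) hY₁
    simpa using this
  have hY₂v : ∀ v, Y₂ (Y₂ v) + Y₂ v + v = 0 := fun v => by
    have := congrArg (fun f : Module.End K V => f v) hY₂
    simpa using this
  have hS₁v : ∀ v, X (Y₁ v) + Y₁ (X v) + X v + Y₁ v + v = σ₁ • v := fun v => by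
    have := congrArg (fun f : Module.End K V => f v) hS₁
    simpa using this
  have hS₂v : ∀ v, X (Y₂ v) + Y₂ (X v) + X v + Y₂ v + v = σ₂ • v := fun v => by
    have := congrArg (fun f : Module.End K V => f v) hS₂
    simpa using this
  obtain ⟨o, ho, hδ⟩ := exists_omega (K := K)
  -- the constants
  obtain ⟨c₁, hc₁⟩ : ∃ c₁ : K, c₁ * (o - o * o) = σ₁ - o - 1 :=
    ⟨(σ₁ - o - 1) / (o - o * o), div_mul_cancel₀ _ hδ⟩
  obtain ⟨c₂, hc₂⟩ : ∃ c₂ : K, c₂ * (o - o * o) = σ₂ - o - 1 :=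
    ⟨(σ₂ - o - 1) / (o - o * o), div_mul_cancel₀ _ hδ⟩
  -- the off-diagonal parts
  have hA₁ : ∀ w, X w = o • w → X (Y₁ w - c₁ • w) = (o * o) • (Y₁ w - c₁ • w) := by
    intro w hw
    have h1 := hS₁v w
    rw [hw, map_smul] at h1
    rw [map_sub, map_smul, hw]
    linear_combination (norm := module) h1 - hc₁ • w - ho • (Y₁ w)
  have hA₂ : ∀ w, X w = o • w → X (Y₂ w - c₂ • w) = (o * o) • (Y₂ w - c₂ • w) := by
    intro w hw
    have h1 := hS₂v w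
    rw [hw, map_smul] at h1
    rw [map_sub, map_smul, hw]
    linear_combination (norm := module) h1 - hc₂ • w - ho • (Y₂ w)
  have hA₁' : ∀ v, X v = (o * o) • v →
      X (Y₁ v - (-1 - c₁) • v) = o • (Y₁ v - (-1 - c₁) • v) := by
    intro v hv
    have h1 := hS₁v v
    rw [hv, map_smul] at h1
    rw [map_sub, map_smul, hv]
    linear_combination (norm := module) h1 - hc₁ • v - ho • (Y₁ v)
  have hk : ∀ w, Y₁ (Y₁ w - c₁ • w) - (-1 - c₁) • (Y₁ w - c₁ • w) = (c₁ * (-1 - c₁) - 1) • w := by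
    intro w
    rw [map_sub, map_smul]
    linear_combination (norm := module) hY₁v w
  -- the eigenspace `E` of `X` for `o`
  let E : Submodule K V := LinearMap.ker (X - o • LinearMap.id)
  have hE : ∀ w, w ∈ E ↔ X w = o • w := fun w => by
    rw [LinearMap.mem_ker]
    show X w - o • w = 0 ↔ _
    exact sub_eq_zero
  -- `E` is nontrivial
  obtain ⟨w₀, hw₀E, hw₀⟩ : ∃ w₀ : V, w₀ ∈ E ∧ w₀ ≠ 0 := by
    by_cases hall : ∀ v, X v = (o * o) • v
    · exfalso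
      obtain ⟨μ, hμ⟩ := Module.End.exists_eigenvalue Y₁
      obtain ⟨u, hu⟩ := hμ.exists_hasEigenvector
      exact hne₁ u hu.2 (o * o) μ (hall u) hu.apply_eq_smul
    · push Not at hall
      obtain ⟨v, hv⟩ := hall
      refine ⟨X v - (o * o) • v, ?_, sub_ne_zero.mpr hv⟩
      rw [hE, map_sub, map_smul]
      linear_combination (norm := module) hXv v - ho • (X v) + (o - 1) • (ho • v)
  haveI : Nontrivial E := ⟨⟨⟨w₀, hw₀E⟩, 0, fun h => hw₀ (congrArg Subtype.val h)⟩⟩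
  -- the endomorphism `T` of `E`
  let T₀ : V →ₗ[K] V := (Y₁ - (-1 - c₁) • LinearMap.id) ∘ₗ (Y₂ - c₂ • LinearMap.id)
  have hT₀ : ∀ v, T₀ v = Y₁ (Y₂ v - c₂ • v) - (-1 - c₁) • (Y₂ v - c₂ • v) := fun v => rfl
  have hT : ∀ w ∈ E, T₀ w ∈ E := by
    intro w hw
    rw [hE] at hw ⊢
    rw [hT₀]
    exact hA₁' _ (hA₂ w hw)
  obtain ⟨μ, hμ⟩ := Module.End.exists_eigenvalue (T₀.restrict hT)
  obtain ⟨w, hw⟩ := hμ.exists_hasEigenvector
  have hwT : T₀ (w : V) = μ • (w : V) := by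
    have h1 := hw.apply_eq_smul
    have h2 := congrArg Subtype.val h1
    simpa using h2
  have hw0 : (w : V) ≠ 0 := fun h => hw.2 (Subtype.ext h)
  have hXw : X (w : V) = o • (w : V) := (hE _).mp w.2
  -- notation
  obtain ⟨wv, hwv⟩ : ∃ wv : V, wv = (w : V) := ⟨_, rfl⟩
  rw [← hwv] at hwT hw0 hXw
  have hu₁ := hA₁ wv hXw
  have hu₂ := hA₂ wv hXw
  have hk₁ := hk wv
  rw [hT₀] at hwT
  -- `k₁ ≠ 0`
  have hk0 : c₁ * (-1 - c₁) - 1 ≠ 0 := by
    intro h0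
    rw [h0, zero_smul, sub_eq_zero] at hk₁
    by_cases hu0 : Y₁ wv - c₁ • wv = 0
    · exact hne₁ wv hw0 o c₁ hXw (sub_eq_zero.mp hu0)
    · exact hne₁ _ hu0 (o * o) (-1 - c₁) hu₁ hk₁
  obtain ⟨ki, hki⟩ : ∃ ki : K, (c₁ * (-1 - c₁) - 1) * ki = 1 := ⟨_, mul_inv_cancel₀ hk0⟩
  -- `k₁ • u₂ = μ • u₁`
  have hz : (c₁ * (-1 - c₁) - 1) • (Y₂ wv - c₂ • wv) - μ • (Y₁ wv - c₁ • wv) = 0 := by
    by_contra hz0
    apply hne₁ _ hz0 (o * o) (-1 - c₁)
    · rw [map_sub, map_smul, map_smul, hu₁, hu₂]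
      module
    · rw [map_sub, map_smul, map_smul]
      linear_combination (norm := module) (c₁ * (-1 - c₁) - 1) • hwT - μ • hk₁
  have hu21 : Y₂ wv - c₂ • wv = (ki * μ) • (Y₁ wv - c₁ • wv) := by
    linear_combination (norm := module) ki • hz - hki • (Y₂ wv - c₂ • wv)
  have hY2w : Y₂ wv = (c₂ - ki * μ * c₁) • wv + (ki * μ) • Y₁ wv := by
    linear_combination (norm := module) hu21
  have hd0 : ki * μ ≠ 0 := by
    intro h0
    rw [h0, zero_smul, sub_eq_zero] at hu21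
    exact hne₂ wv hw0 o c₂ hXw hu21
  obtain ⟨di, hdd⟩ : ∃ di : K, (ki * μ) * di = 1 := ⟨_, mul_inv_cancel₀ hd0⟩
  refine ⟨wv, hw0, ⟨o, hXw⟩, ⟨σ₁ - o - 1, -(o + 1), ?_⟩, ⟨_, _, hY2w⟩, ?_⟩
  · have h1 := hS₁v wv
    rw [hXw, map_smul] at h1
    linear_combination (norm := module) h1
  · have h3 : Y₂ (Y₂ wv) = (c₂ - ki * μ * c₁) • Y₂ wv + (ki * μ) • Y₂ (Y₁ wv) := by
      conv_lhs => rw [hY2w]
      rw [map_add, map_smul, map_smul]
    refine ⟨-di * ((c₂ - ki * μ * c₁) * (c₂ - ki * μ * c₁) + (c₂ - ki * μ * c₁) + 1),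
      -(1 + (c₂ - ki * μ * c₁)), ?_⟩
    apply smul_right_injective V hd0
    show (ki * μ) • Y₂ (Y₁ wv) = (ki * μ) • _
    linear_combination (norm := module) -h3 + hY₂v wv - (1 + (c₂ - ki * μ * c₁)) • hY2w +
      (((c₂ - ki * μ * c₁) * (c₂ - ki * μ * c₁) + (c₂ - ki * μ * c₁) + 1) * hdd) • wv

end Cfsg.Agent.Lib.Helper60.Zass
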