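import Mathlib
import Cfsg.Agent.Lib.Helper49.OElDefs

/-!
# K-OEl-AR2M (keystone 598807, S5988/S5990 pack, architect helper49): `arith_derange_ellM`

Pure `ℕ` arithmetic: the shape `T := 2 d / c` has no good `j`.
-/

set_option autoImplicit false
set_option linter.unusedVariables false

namespace Cfsg.Agent.Lib.Helper60.OEl

open Module Cfsg.Agent.Lib.Helper98.Elus Cfsg.Agent.Lib.Helper98.Sy Cfsg.Agent.Lib.Helper38.OhP
  Cfsg.Agent.Lib.Helper49.OEl

theorem div_mod_of_eq_ar {n c t s : ℕ} (h : n = t * c + s) (hs : s < c) : n / c = t ∧ n % c = s := by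
  have hc : 0 < c := by omega
  subst h
  constructor
  · rw [Nat.add_comm, Nat.add_mul_div_right _ _ hc, Nat.div_eq_of_lt hs, Nat.zero_add]
  · rw [Nat.add_comm, Nat.add_mul_mod_self_right, Nat.mod_eq_of_lt hs]

/-- what `CountM` gives when `m = 2 e < c` -/
theorem countM_small (i c d e : ℕ) (hi : 0 < i) (hc : c = cOf i) (he : 1 ≤ e) (hmn : e + 1 ≤ d)
    (hcm : 2 * e < c) (hw : CountM i d e) :
    ∃ t s : ℕ, 2 * d = t * c + s ∧ s ≤ 2 * e ∧ 1 ≤ t ∧ (s = 2 * e → Even i ∧ Odd t) := by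
  unfold CountM at hw
  by_cases hev : Even i
  · have hci : c = i := by rw [hc]; unfold cOf; rw [if_pos hev]
    have hev' := hev
    obtain ⟨h, hh⟩ := hev
    rcases hw with ⟨j, hj, hdv | ⟨_, hmod⟩⟩ | ⟨_, hmod | hmod⟩ | h1
    · obtain ⟨t, ht⟩ := hdv
      have ht1 : 1 ≤ t := by
        rcases Nat.eq_zero_or_pos t with h0 | h0
        · rw [h0, Nat.mul_zero] at ht; omega
        · exact h0
      refine ⟨2 * t, 2 * j + 2, ?_, by omega, by omega, by omega⟩
      have h2 : 2 * t * c = 2 * (i * t) := by rw [hci]; ring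
      omega
    · have h3 := Nat.div_add_mod' (d - j) i
      obtain ⟨qq, hqq⟩ : ∃ qq, qq = (d - j) / i := ⟨_, rfl⟩
      rw [← hqq] at h3
      refine ⟨2 * qq + 1, 2 * j, ?_, by omega, by omega, by omega⟩
      have h2 : (2 * qq + 1) * c = 2 * (qq * i) + i := by rw [hci]; ring
      omega
    · have h3 := Nat.div_add_mod' (d - (e - 1)) i
      obtain ⟨qq, hqq⟩ : ∃ qq, qq = (d - (e - 1)) / i := ⟨_, rfl⟩
      rw [← hqq] at h3
      refine ⟨2 * qq + 1, 2 * (e - 1), ?_, by omega, by omega, by omega⟩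
      have h2 : (2 * qq + 1) * c = 2 * (qq * i) + i := by rw [hci]; ring
      omega
    · have h3 := Nat.div_add_mod' (d - e) i
      obtain ⟨qq, hqq⟩ : ∃ qq, qq = (d - e) / i := ⟨_, rfl⟩
      rw [← hqq] at h3
      refine ⟨2 * qq + 1, 2 * e, ?_, by omega, by omega, fun _ => ⟨hev', ⟨qq, rfl⟩⟩⟩
      have h2 : (2 * qq + 1) * c = 2 * (qq * i) + i := by rw [hci]; ring
      omega
    · omega
  · have hci : c = 2 * i := by rw [hc]; unfold cOf; rw [if_neg hev]
    rcases hw with ⟨j, hj, hdv | ⟨hev2, _⟩⟩ | ⟨hev2, _⟩ | h1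
    · obtain ⟨t, ht⟩ := hdv
      have ht1 : 1 ≤ t := by
        rcases Nat.eq_zero_or_pos t with h0 | h0
        · rw [h0, Nat.mul_zero] at ht; omega
        · exact h0
      refine ⟨t, 2 * j + 2, ?_, by omega, ht1, by omega⟩
      have h2 : t * c = 2 * (i * t) := by rw [hci]; ring
      omega
    · exact absurd hev2 hev
    · exact absurd hev2 hev
    · omega

/-- LEAF AR2M (598807; pure arithmetic, S5990). -/
theorem arith_derange_ellM (i c d m : ℕ) (hi : 0 < i) (hc : c = cOf i) (hd : 4 ≤ d) (hm : 2 ≤ m) (hme : Even m)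
    (hmn : m + 2 ≤ 2 * d) (hw : CountM i d (m / 2)) (hR : ¬ RhsOddM i c d m) :
    ∃ T : ℕ, 1 ≤ T ∧ T * c ≤ 2 * d ∧ (0 < 2 * d - T * c ∨ (False ↔ tPlus i T)) ∧
      ∀ j : ℕ, j ≤ T → j * c ≤ m → ¬ GoodT False False i c T (2 * d - T * c) m j := by
  obtain ⟨e, he⟩ := hme
  have hme2 : m / 2 = e := by omega
  rw [hme2] at hw
  have hcpos : 0 < c := by
    rw [hc]; unfold cOf; split_ifs <;> omega
  -- division data
  obtain ⟨T0, hT0def⟩ : ∃ T0, T0 = 2 * d / c := ⟨_, rfl⟩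
  obtain ⟨k0, hk0def⟩ : ∃ k0, k0 = 2 * d % c := ⟨_, rfl⟩
  obtain ⟨J, hJdef⟩ : ∃ J, J = m / c := ⟨_, rfl⟩
  obtain ⟨ρ, hρdef⟩ : ∃ ρ, ρ = m % c := ⟨_, rfl⟩
  have hT0 : T0 * c + k0 = 2 * d := by rw [hT0def, hk0def]; exact Nat.div_add_mod' _ _
  have hk0 : k0 < c := by rw [hk0def]; exact Nat.mod_lt _ hcpos
  have hJ : J * c + ρ = m := by rw [hJdef, hρdef]; exact Nat.div_add_mod' _ _
  have hρ : ρ < c := by rw [hρdef]; exact Nat.mod_lt _ hcpos
  have hsub : 2 * d - T0 * c = k0 := by omega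
  -- analysis of `j`
  have hjs : ∀ j, j * c ≤ m → (j = J ∧ m - j * c = ρ) ∨ (j < J ∧ c + ρ ≤ m - j * c) := by
    intro j hj
    rcases lt_trichotomy j J with h | h | h
    · right
      refine ⟨h, ?_⟩
      have h1 : (j + 1) * c ≤ J * c := Nat.mul_le_mul_right c h
      rw [Nat.add_mul, Nat.one_mul] at h1
      omega
    · left
      subst h
      exact ⟨rfl, by omega⟩
    · exfalso
      have h1 : (J + 1) * c ≤ j * c := Nat.mul_le_mul_right c h
      rw [Nat.add_mul, Nat.one_mul] at h1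
      omega
  -- the key facts
  have key : 1 ≤ T0 ∧ (0 < k0 ∨ ¬ tPlus i T0) ∧ ¬ (ρ = 0 ∧ ¬ tPlus i J) ∧ ¬ (0 < ρ ∧ ρ < k0) ∧
      ¬ (ρ = k0 ∧ 0 < k0 ∧ ¬ (tPlus i J ↔ ¬ tPlus i T0)) := by
    -- T0 ≥ 1 when c ≤ m
    have hT0pos : c ≤ m → 1 ≤ T0 := by
      intro hcm
      rcases Nat.eq_zero_or_pos T0 with h0 | h0
      · rw [h0, Nat.zero_mul] at hT0; omega
      · exact h0
    -- the case m < c
    have hsmall : m < c → J = 0 ∧ ρ = m ∧ 1 ≤ T0 ∧ k0 ≤ m ∧ (k0 = m → Even i ∧ Odd T0) := by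
      intro hcm
      have hJ0 : J = 0 := by
        rcases Nat.eq_zero_or_pos J with h0 | h0
        · exact h0
        · exfalso
          have h1 : 1 * c ≤ J * c := Nat.mul_le_mul_right c h0
          rw [Nat.one_mul] at h1
          omega
      have hρm : ρ = m := by rw [hJ0, Nat.zero_mul] at hJ; omega
      obtain ⟨t, s, hts, hs, ht, hsm⟩ := countM_small i c d e hi hc (by omega) (by omega) (by omega) hw
      obtain ⟨h1, h2⟩ := div_mod_of_eq_ar hts (by omega)
      rw [← hT0def] at h1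
      rw [← hk0def] at h2
      refine ⟨hJ0, hρm, by omega, by omega, ?_⟩
      intro hkm
      rw [h1]
      exact hsm (by omega)
    unfold RhsOddM at hR
    rw [← hk0def, ← hρdef] at hR
    by_cases hev : Even i
    · have hci : c = i := by rw [hc]; unfold cOf; rw [if_pos hev]
      have hnodd : ¬ Odd i := Nat.not_odd_iff_even.mpr hev
      have htp : ∀ j, tPlus i j ↔ Even j := fun j => ⟨fun h => h.resolve_left hnodd, Or.inr⟩
      have hevc : Even c := by rw [hci]; exact hev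
      rw [← hci, ← hT0def, ← hJdef] at hR
      rcases Nat.eq_zero_or_pos k0 with hk | hk
      · -- k0 = 0
        have h1 : ¬ Even T0 := fun h => hR (Or.inr ⟨hevc, Or.inl ⟨hk, Or.inl h⟩⟩)
        have h2 : ¬ (ρ = 0 ∧ Odd J) := fun h => hR (Or.inr ⟨hevc, Or.inl ⟨hk, Or.inr h⟩⟩)
        have h3 : Odd T0 := Nat.not_even_iff_odd.mp h1
        refine ⟨?_, Or.inr (fun h => h1 ((htp T0).mp h)), ?_, by omega, by omega⟩
        · obtain ⟨w, hw⟩ := h3; omega
        · rintro ⟨h4, h5⟩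
          exact h2 ⟨h4, Nat.not_even_iff_odd.mp (fun h => h5 ((htp J).mpr h))⟩
      · -- k0 > 0
        by_cases hcm : c ≤ m
        · have h1 : ¬ (0 < ρ ∧ ρ < k0) := fun h => hR (Or.inr ⟨hevc, Or.inr ⟨hk, hcm, Or.inl h⟩⟩)
          have h2 : ¬ (ρ = 0 ∧ Odd J) := fun h => hR (Or.inr ⟨hevc, Or.inr ⟨hk, hcm, Or.inr (Or.inl h)⟩⟩)
          have h3 : ¬ (ρ = k0 ∧ Even ((2 * d + m - 2 * k0) / c)) :=
            fun h => hR (Or.inr ⟨hevc, Or.inr ⟨hk, hcm, Or.inr (Or.inr h)⟩⟩)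
          refine ⟨hT0pos hcm, Or.inl hk, ?_, h1, ?_⟩
          · rintro ⟨h4, h5⟩
            exact h2 ⟨h4, Nat.not_even_iff_odd.mp (fun h => h5 ((htp J).mpr h))⟩
          · rintro ⟨h4, _, h5⟩
            apply h3
            refine ⟨h4, ?_⟩
            have h6 : 2 * d + m - 2 * k0 = (T0 + J) * c := by
              rw [Nat.add_mul]; omega
            rw [h6, Nat.mul_div_cancel _ hcpos, Nat.even_add]
            rw [htp J, htp T0] at h5
            by_contra h7
            apply h5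
            constructor
            · intro hJe hTe
              exact h7 ⟨fun _ => hJe, fun _ => hTe⟩
            · intro hTn
              by_contra hJn
              exact h7 ⟨fun h => absurd h hTn, fun h => absurd h hJn⟩
        · obtain ⟨hJ0, hρm, hT1, hkm, hodd⟩ := hsmall (by omega)
          refine ⟨hT1, Or.inl hk, by omega, by omega, ?_⟩
          rintro ⟨h4, _, h5⟩
          apply h5
          obtain ⟨_, hTo⟩ := hodd (by omega)
          rw [htp J, htp T0, hJ0]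
          exact ⟨fun _ => Nat.not_even_iff_odd.mpr hTo, fun _ => ⟨0, rfl⟩⟩
    · have hodd : Odd i := Nat.not_even_iff_odd.mp hev
      have htp : ∀ j, tPlus i j := fun j => Or.inl hodd
      have h1 : k0 ≠ 0 := fun h => hR (Or.inl ⟨hodd, Or.inl h⟩)
      have h2 : ¬ (c ≤ m ∧ 0 < ρ ∧ ρ ≤ k0) := fun h => hR (Or.inl ⟨hodd, Or.inr h⟩)
      by_cases hcm : c ≤ m
      · refine ⟨hT0pos hcm, Or.inl (by omega), ?_, by omega, ?_⟩
        · rintro ⟨_, h5⟩; exact h5 (htp J)
        · rintro ⟨h4, h5, _⟩; omega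
      · obtain ⟨hJ0, hρm, hT1, hkm, hodd'⟩ := hsmall (by omega)
        have hne : k0 ≠ m := fun h => hev (hodd' h).1
        refine ⟨hT1, Or.inl (by omega), ?_, by omega, ?_⟩
        · rintro ⟨_, h5⟩; exact h5 (htp J)
        · rintro ⟨h4, h5, _⟩; omega
  obtain ⟨k1, k2, k3, k4, k5⟩ := key
  refine ⟨T0, k1, by omega, ?_, ?_⟩
  · rw [hsub]
    rcases k2 with h | h
    · exact Or.inl h
    · exact Or.inr ⟨False.elim, h⟩
  · intro j hjT hjm hgood
    rw [hsub] at hgood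
    unfold GoodT at hgood
    rcases hjs j hjm with ⟨hjJ, hval⟩ | ⟨hjJ, hval⟩
    · rw [hval, hjJ] at hgood
      rcases hgood with ⟨g1, g2⟩ | ⟨g1, g2⟩ | ⟨g1, g2, g3⟩
      · exact k3 ⟨g1, fun h => g2.mpr h⟩
      · exact k4 ⟨g1, g2⟩
      · apply k5
        refine ⟨g1, g2, ?_⟩
        intro h
        apply g3.mpr
        constructor
        · intro hJ'
          have := h.mp hJ'
          exact ⟨False.elim, this⟩
        · intro hT'
          apply h.mpr
          intro hT''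
          exact hT'.mpr hT''
    · rcases hgood with ⟨g1, g2⟩ | ⟨g1, g2⟩ | ⟨g1, g2, g3⟩ <;> omega

end Cfsg.Agent.Lib.Helper60.OEl
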