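import Mathlib

set_option autoImplicit false

/-! K-PG-FRAT (keystone 249008): for a normal subgroup `N` containing a Sylow `p`-subgroup `P` of `G`,
`|N| = n_p(G) * |N ⊓ N_G(P)|` (Frattini argument). -/

namespace Cfsg.Agent.Lib.Helper60.PG7920

/-- 249008 K-PG-FRAT. -/
theorem card_eq_card_sylow_mul_card_inf_normalizer {G : Type*} [Group G] [Finite G]
    (p : ℕ) [Fact p.Prime] (N : Subgroup G) [N.Normal] (P : Sylow p G)
    (hPN : (P : Subgroup G) ≤ N) :
    Nat.card N = Nat.card (Sylow p G) *
      Nat.card ↥(N ⊓ Subgroup.normalizer ((P : Subgroup G) : Set G)) := by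
  set Nr : Subgroup G := Subgroup.normalizer ((P : Subgroup G) : Set G) with hNr
  have hF : Nr ⊔ N = ⊤ := Sylow.normalizer_sup_eq_top' P hPN
  have h1 : N.index = N.relIndex Nr := by
    rw [← Subgroup.relIndex_top_right, ← hF, Subgroup.relIndex_sup_right]
  have h2 : Nat.card (Sylow p G) = Nr.index := Sylow.card_eq_index_normalizer P
  have h3 : Nat.card N * N.index = Nat.card G := Subgroup.card_mul_index N
  have h4 : Nat.card Nr * Nr.index = Nat.card G := Subgroup.card_mul_index Nr
  have h5 : Nat.card ↥(N ⊓ Nr) * N.relIndex Nr = Nat.card Nr := by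
    have h := Subgroup.card_mul_index (N.subgroupOf Nr)
    have hc : Nat.card ↥(N.subgroupOf Nr) = Nat.card ↥(N ⊓ Nr) := by
      rw [← Subgroup.inf_subgroupOf_right]
      exact Nat.card_congr (Subgroup.subgroupOfEquivOfLe inf_le_right).toEquiv
    rw [hc] at h
    exact h
  have hpos : 0 < N.index := Nat.pos_of_ne_zero (Subgroup.index_ne_zero_of_finite)
  rw [h2]
  have : Nat.card N * N.index = (Nr.index * Nat.card ↥(N ⊓ Nr)) * N.index := by
    rw [h3, ← h4, ← h5, h1]; ring
  exact Nat.eq_of_mul_eq_mul_right hpos this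

end Cfsg.Agent.Lib.Helper60.PG7920
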