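import Mathlib
import Cfsg.Agent.S3225

/-!
# K-S0496-720G (architect helper17): the `M₁₀` endgame for order 720

`S` a Sylow 2-subgroup of order 16 of a group without subgroups of index 2, `Q ≤ S` of order 8 with a unique
involution and not cyclic, controlling fusion of its non-trivial elements, no element of order 4 in `S \ Q`: impossible.
-/

set_option autoImplicit false

namespace Cfsg.Agent.Lib.Helper60.Small1092

open Subgroup

/-- sign rule for (anti)commutation with central signs. -/
theorem q720_mul_sign {T : Type*} [Group T] {a e₁ e₂ s t : T} (hc : ∀ u : T, u * e₂ = e₂ * u)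
    (hs : s * a = e₁ * (a * s)) (ht : t * a = e₂ * (a * t)) :
    s * t * a = e₁ * e₂ * (a * (s * t)) := by
  calc s * t * a = s * (t * a) := mul_assoc _ _ _
    _ = s * (e₂ * (a * t)) := by rw [ht]
    _ = (s * e₂) * (a * t) := (mul_assoc _ _ _).symm
    _ = e₂ * s * (a * t) := by rw [hc s]
    _ = e₂ * ((s * a) * t) := by simp only [mul_assoc]
    _ = e₂ * ((e₁ * (a * s)) * t) := by rw [hs]
    _ = e₁ * e₂ * (a * (s * t)) := by rw [hc e₁]; simp only [mul_assoc]

/-- a subgroup all of whose elements lie in a finset has at most that many elements. -/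
theorem q720_card_le {T : Type*} [Group T] (Q : Subgroup T) (s : Finset T) (h : ∀ q ∈ Q, q ∈ s) :
    Nat.card Q ≤ s.card := by
  have h1 : Nat.card Q = (Q : Set T).ncard := Nat.card_coe_set_eq _
  rw [h1, ← Set.ncard_coe_finset s]
  exact Set.ncard_le_ncard (fun q hq => h q hq) s.finite_toSet

/-- the structure of a non-cyclic group of order 8 with a unique involution. -/
theorem q720_struct {T : Type*} [Group T] (Q : Subgroup T) (hQ : Nat.card Q = 8)
    (hinv : ∀ a ∈ Q, ∀ b ∈ Q, orderOf a = 2 → orderOf b = 2 → a = b)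
    (hcyc : ¬ IsCyclic Q) :
    ∃ z ∈ Q, orderOf z = 2 ∧ ∀ q ∈ Q, q = 1 ∨ q = z ∨ (orderOf q = 4 ∧ q * q = z) := by
  have : Finite Q := Nat.finite_of_card_ne_zero (by rw [hQ]; norm_num)
  have : Fact (Nat.Prime 2) := ⟨Nat.prime_two⟩
  obtain ⟨z', hz'⟩ := exists_prime_orderOf_dvd_card' (G := Q) 2 (by rw [hQ]; norm_num)
  have hz2 : orderOf (z' : T) = 2 := by rw [Subgroup.orderOf_coe]; exact hz'
  refine ⟨(z' : T), z'.2, hz2, ?_⟩
  intro q hq
  have hdvd : orderOf q ∣ 2 ^ 3 := by
    have := Subgroup.orderOf_dvd_natCard Q hq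
    rw [hQ] at this
    norm_num
    exact this
  obtain ⟨k, hk, hqk⟩ := (Nat.dvd_prime_pow Nat.prime_two).mp hdvd
  interval_cases k
  · left; exact orderOf_eq_one_iff.mp (by simpa using hqk)
  · right; left; exact hinv q hq z' z'.2 (by simpa using hqk) hz2
  · right; right
    refine ⟨by simpa using hqk, ?_⟩
    refine hinv (q * q) (Q.mul_mem hq hq) z' z'.2 ?_ hz2
    rw [← pow_two, orderOf_pow' q (by norm_num), hqk]; norm_num
  · exfalso; apply hcyc
    exact isCyclic_of_orderOf_eq_card (⟨q, hq⟩ : Q) (by rw [← Subgroup.orderOf_coe]; simp [hqk, hQ])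

/-- ABSTRACT 2-GROUP LEMMA.  A group `T` of order 16 with a non-cyclic subgroup `Q` of order 8 having a unique involution,
no element of order 4 outside `Q`, and an involution outside `Q`, has a subgroup of index 2 containing all involutions. -/
theorem exists_index_two_of_quaternion {T : Type*} [Group T] [Finite T] (hT : Nat.card T = 16)
    (Q : Subgroup T) (hQ : Nat.card Q = 8)
    (hinv : ∀ a ∈ Q, ∀ b ∈ Q, orderOf a = 2 → orderOf b = 2 → a = b)
    (hcyc : ¬ IsCyclic Q)
    (hfour : ∀ y : T, y ∉ Q → orderOf y ≠ 4)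
    (w : T) (hw2 : orderOf w = 2) (hwQ : w ∉ Q) :
    ∃ M : Subgroup T, M.index = 2 ∧ ∀ y : T, orderOf y = 2 → y ∈ M := by
  classical
  have : Fact (Nat.Prime 2) := ⟨Nat.prime_two⟩
  obtain ⟨z, hzQ, hzo, hcases⟩ := q720_struct Q hQ hinv hcyc
  have hQidx : Q.index = 2 := by
    have := Q.card_mul_index
    rw [hQ, hT] at this
    omega
  have hQn : Q.Normal := Subgroup.normal_of_index_eq_two hQidx
  have hQmul : ∀ {s t : T}, s * t ∈ Q ↔ (s ∈ Q ↔ t ∈ Q) := Subgroup.mul_mem_iff_of_index_two hQidx
  have hz1 : z ≠ 1 := by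
    intro h; rw [h, orderOf_one] at hzo; omega
  have hz2 : z * z = 1 := by
    have := pow_orderOf_eq_one z
    rwa [hzo, pow_two] at this
  -- `z` is central
  have hzc : ∀ t : T, t * z = z * t := by
    intro t
    have hmem : t * z * t⁻¹ ∈ Q := hQn.conj_mem z hzQ t
    have hord : orderOf (t * z * t⁻¹) = 2 := by
      have := orderOf_injective (MulAut.conj t).toMonoidHom (MulAut.conj t).injective z
      simpa [hzo] using this
    have := hinv _ hmem z hzQ hord hzo
    calc t * z = t * z * t⁻¹ * t := by group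
      _ = z * t := by rw [this]
  have horder4 : ∀ y : T, y * y = z → orderOf y = 4 := by
    intro y hy
    have h1 : ¬ y ^ 2 ^ 1 = 1 := by
      rw [pow_one, pow_two, hy]; exact hz1
    have h2 : y ^ 2 ^ (1 + 1) = 1 := by
      have : y ^ 2 ^ (1 + 1) = (y * y) * (y * y) := by
        rw [show (2 : ℕ) ^ (1 + 1) = 2 + 2 from rfl, pow_add, pow_two]
      rw [this, hy, hz2]
    have := orderOf_eq_prime_pow h1 h2
    simpa using this
  -- two elements of order 4 of `Q` are equal, inverse or anticommute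
  have hG : ∀ x ∈ Q, ∀ y ∈ Q, x * x = z → y * y = z → y = x ∨ y = z * x ∨ y * x = z * (x * y) := by
    intro x hx y hy hxx hyy
    rcases hcases (x * y) (Q.mul_mem hx hy) with h | h | ⟨_, h⟩
    · right; left
      have h' : x * (z * x) = 1 := by
        rw [← mul_assoc, hzc x, mul_assoc, hxx, hz2]
      exact mul_left_cancel (h.trans h'.symm)
    · left
      exact mul_left_cancel (h.trans hxx.symm)
    · right; right
      have h1 : x * (y * x) * y = z := by rw [← h]; simp only [mul_assoc]
      have h2 : x * (z * (x * y)) * y = z := by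
        calc x * (z * (x * y)) * y = z * ((x * x) * (y * y)) := by
              rw [← mul_assoc x z, hzc x]; simp only [mul_assoc]
          _ = z := by rw [hxx, hyy, hz2, mul_one]
      exact mul_left_cancel (mul_right_cancel (h1.trans h2.symm))
  obtain ⟨q₄, hq₄, hq₄z⟩ : ∃ q ∈ Q, q * q = z := by
    by_contra hcon
    push Not at hcon
    have hsub : Nat.card Q ≤ ({1, z} : Finset T).card := q720_card_le Q _ (fun q hq => by
      rcases hcases q hq with h | h | ⟨_, h⟩
      · simp [h]
      · simp [h]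
      · exact absurd h (hcon q hq))
    have h2 := Finset.card_le_two (a := (1 : T)) (b := z)
    rw [hQ] at hsub
    omega
  have hww : w * w = 1 := by
    have := pow_orderOf_eq_one w
    rwa [hw2, pow_two] at this
  have hwinv : w⁻¹ = w := inv_eq_of_mul_eq_one_right hww
  obtain ⟨s, hs⟩ : ∃ s : T, s = w * q₄ * w := ⟨_, rfl⟩
  have hsQ : s ∈ Q := by
    have := hQn.conj_mem q₄ hq₄ w
    rwa [hwinv, ← hs] at this
  have hss : s * s = z := by
    calc s * s = w * (q₄ * (w * w) * q₄) * w := by rw [hs]; simp only [mul_assoc]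
      _ = w * z * w := by rw [hww, mul_one, hq₄z]
      _ = z := by rw [hzc w, mul_assoc, hww, mul_one]
  have hws : w * s = q₄ * w := by
    calc w * s = (w * w) * q₄ * w := by rw [hs]; simp only [mul_assoc]
      _ = q₄ * w := by rw [hww, one_mul]
  have hsw : s * w = w * q₄ := by
    calc s * w = w * q₄ * (w * w) := by rw [hs]; simp only [mul_assoc]
      _ = w * q₄ := by rw [hww, mul_one]
  obtain ⟨a, haQ, haa, hwa⟩ : ∃ a ∈ Q, a * a = z ∧ w * a = z * (a * w) := by
    rcases hG q₄ hq₄ s hsQ hq₄z hss with h | h | h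
    · exfalso
      have hcomm : w * q₄ = q₄ * w := by rw [← hsw, h]
      have hyy : (q₄ * w) * (q₄ * w) = z := by
        calc (q₄ * w) * (q₄ * w) = q₄ * (w * q₄) * w := by simp only [mul_assoc]
          _ = q₄ * (q₄ * w) * w := by rw [hcomm]
          _ = (q₄ * q₄) * (w * w) := by simp only [mul_assoc]
          _ = z := by rw [hq₄z, hww, mul_one]
      have hnot : q₄ * w ∉ Q := by
        rw [Q.mul_mem_cancel_left hq₄]; exact hwQ
      exact hfour _ hnot (horder4 _ hyy)
    · refine ⟨q₄, hq₄, hq₄z, ?_⟩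
      rw [← hsw, h, mul_assoc]
    · refine ⟨q₄ * s, Q.mul_mem hq₄ hsQ, ?_, ?_⟩
      · calc q₄ * s * (q₄ * s) = q₄ * (s * q₄) * s := by simp only [mul_assoc]
          _ = q₄ * (z * (q₄ * s)) * s := by rw [h]
          _ = z * ((q₄ * q₄) * (s * s)) := by rw [← mul_assoc q₄ z, hzc q₄]; simp only [mul_assoc]
          _ = z := by rw [hq₄z, hss, hz2, mul_one]
      · calc w * (q₄ * s) = (w * q₄) * s := (mul_assoc _ _ _).symm
          _ = s * w * s := by rw [hsw]
          _ = s * (w * s) := mul_assoc _ _ _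
          _ = s * (q₄ * w) := by rw [hws]
          _ = (s * q₄) * w := (mul_assoc _ _ _).symm
          _ = z * (q₄ * s) * w := by rw [h]
          _ = z * (q₄ * s * w) := mul_assoc _ _ _
  have hz_ne : ∀ u : T, u ≠ z * u := by
    intro u h
    apply hz1
    have h' : 1 * u = z * u := by rw [one_mul]; exact h
    exact (mul_right_cancel h').symm
  have hPQ : ∀ q ∈ Q, q * a = a * q ∨ q * a = z * (a * q) := by
    intro q hq
    rcases hcases q hq with h | h | ⟨_, h⟩
    · left; rw [h, one_mul, mul_one]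
    · left; rw [h]; exact (hzc a).symm
    · rcases hG a haQ q hq haa h with h' | h' | h'
      · left; rw [h']
      · left; rw [h', ← mul_assoc a z a, hzc a]
      · right; exact h'
  have hFF : ∀ s t : T, s * a = a * s → t * a = a * t → s * t * a = a * (s * t) := by
    intro s t hs ht
    have := q720_mul_sign (a := a) (e₁ := 1) (e₂ := 1) (s := s) (t := t)
      (fun u => by rw [mul_one, one_mul]) (by rw [one_mul]; exact hs) (by rw [one_mul]; exact ht)
    simp only [one_mul] at this
    exact this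
  have hFN : ∀ s t : T, s * a = a * s → t * a = z * (a * t) → s * t * a = z * (a * (s * t)) := by
    intro s t hs ht
    have := q720_mul_sign (a := a) (e₁ := 1) (e₂ := z) (s := s) (t := t) hzc
      (by rw [one_mul]; exact hs) ht
    simp only [one_mul] at this
    exact this
  have hNF : ∀ s t : T, s * a = z * (a * s) → t * a = a * t → s * t * a = z * (a * (s * t)) := by
    intro s t hs ht
    have := q720_mul_sign (a := a) (e₁ := z) (e₂ := 1) (s := s) (t := t)
      (fun u => by rw [mul_one, one_mul]) hs (by rw [one_mul]; exact ht)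
    simp only [mul_one] at this
    exact this
  have hNN : ∀ s t : T, s * a = z * (a * s) → t * a = z * (a * t) → s * t * a = a * (s * t) := by
    intro s t hs ht
    have := q720_mul_sign (a := a) (e₁ := z) (e₂ := z) (s := s) (t := t) hzc hs ht
    rwa [hz2, one_mul] at this
  have hP : ∀ t : T, t * a = a * t ∨ t * a = z * (a * t) := by
    intro t
    by_cases ht : t ∈ Q
    · exact hPQ t ht
    · have htw : t * w ∈ Q := hQmul.mpr (by tauto)
      have ht' : t = t * w * w := by rw [mul_assoc, hww, mul_one]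
      rw [ht']
      rcases hPQ _ htw with h | h
      · right; exact hFN _ _ h hwa
      · left; exact hNN _ _ h hwa
  have hexcl : ∀ t : T, t * a = z * (a * t) → ¬ (t * a = a * t) := by
    intro t h1 h2
    exact hz_ne (a * t) (h2.symm.trans h1)
  have hF : ∀ s t : T, (s * t * a = a * (s * t)) ↔ ((s * a = a * s) ↔ (t * a = a * t)) := by
    intro s t
    rcases hP s with hs | hs <;> rcases hP t with ht | ht
    · have := hFF s t hs ht; tauto
    · have h1 := hFN s t hs ht
      have h2 := hexcl _ h1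
      have h3 := hexcl _ ht
      tauto
    · have h1 := hNF s t hs ht
      have h2 := hexcl _ h1
      have h3 := hexcl _ hs
      tauto
    · have h1 := hNN s t hs ht
      have h3 := hexcl _ hs
      have h4 := hexcl _ ht
      tauto
  let M : Subgroup T :=
    { carrier := {t | t ∈ Q ↔ t * a = a * t}
      mul_mem' := by
        intro s t hs ht
        simp only [Set.mem_ofPred_eq] at hs ht ⊢
        rw [hQmul, hF]
        tauto
      one_mem' := by
        simp only [Set.mem_ofPred_eq]
        rw [one_mul, mul_one]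
        exact ⟨fun _ => rfl, fun _ => Q.one_mem⟩
      inv_mem' := by
        intro t ht
        simp only [Set.mem_ofPred_eq] at ht ⊢
        have h1 := hF t t⁻¹
        rw [mul_inv_cancel, one_mul, mul_one] at h1
        have h1' : (t * a = a * t ↔ t⁻¹ * a = a * t⁻¹) := h1.mp rfl
        have h2 : t⁻¹ ∈ Q ↔ t ∈ Q := Q.inv_mem_iff
        tauto }
  have hmem : ∀ t : T, t ∈ M ↔ (t ∈ Q ↔ t * a = a * t) := fun t => Iff.rfl
  obtain ⟨q₁, hq₁, hq₁a⟩ : ∃ q ∈ Q, ¬ (q * a = a * q) := by
    by_contra hcon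
    push Not at hcon
    have hsub : Nat.card Q ≤ ({1, z, a, z * a} : Finset T).card := q720_card_le Q _ (fun q hq => by
      rcases hcases q hq with h | h | ⟨_, h⟩
      · simp [h]
      · simp [h]
      · rcases hG a haQ q hq haa h with h' | h' | h'
        · simp [h']
        · simp [h']
        · exact absurd (hcon q hq) (hexcl q h'))
    have h4 := Finset.card_le_four (a := (1 : T)) (b := z) (c := a) (d := z * a)
    rw [hQ] at hsub
    omega
  refine ⟨M, ?_, ?_⟩
  · rw [Subgroup.index_eq_two_iff_exists_notMem_and]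
    refine ⟨q₁, ?_, ?_⟩
    · rw [hmem]; tauto
    · intro b
      rw [hmem, hmem, hQmul, hF]
      tauto
  · intro y hy
    rw [hmem]
    have hyy : y * y = 1 := by
      have := pow_orderOf_eq_one y
      rwa [hy, pow_two] at this
    constructor
    · intro hyQ
      have : y = z := hinv y hyQ z hzQ hy hzo
      rw [this]; exact (hzc a).symm
    · intro hya
      by_contra hyQ
      have h1 : (a * y) * (a * y) = z := by
        calc (a * y) * (a * y) = a * (y * a) * y := by simp only [mul_assoc]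
          _ = a * (a * y) * y := by rw [hya]
          _ = (a * a) * (y * y) := by simp only [mul_assoc]
          _ = z := by rw [haa, hyy, mul_one]
      have h2 : a * y ∉ Q := by
        rw [Q.mul_mem_cancel_left haQ]; exact hyQ
      exact hfour _ h2 (horder4 _ h1)

/-- K-S0496-720G. -/
theorem false_of_quaternion_two_point_stabilizer {G : Type*} [Group G] [Finite G]
    (hidx2 : ∀ H : Subgroup G, H.index ≠ 2) (S : Sylow 2 G) (hS : Nat.card (S : Subgroup G) = 16)
    (Q : Subgroup G) (hQS : Q ≤ (S : Subgroup G)) (hQ : Nat.card Q = 8)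
    (hinv : ∀ a ∈ Q, ∀ b ∈ Q, orderOf a = 2 → orderOf b = 2 → a = b)
    (hcyc : ¬ IsCyclic Q)
    (hfus : ∀ x ∈ Q, x ≠ 1 → ∀ g : G, g * x * g⁻¹ ∈ Q → g ∈ (S : Subgroup G))
    (hfour : ∀ y ∈ (S : Subgroup G), y ∉ Q → orderOf y ≠ 4) : False := by
  classical
  have hev : Even (Nat.card G) := by
    have h1 : Nat.card (S : Subgroup G) ∣ Nat.card G := Subgroup.card_subgroup_dvd_card _
    rw [hS] at h1
    exact even_iff_two_dvd.mpr (Dvd.dvd.trans (by norm_num : 2 ∣ 16) h1)
  have hrel : Q.relIndex (S : Subgroup G) = 2 := by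
    have h1 := (Q.subgroupOf (S : Subgroup G)).card_mul_index
    have h2 : Nat.card (Q.subgroupOf (S : Subgroup G)) = Nat.card Q :=
      Nat.card_congr (Subgroup.subgroupOfEquivOfLe hQS).toEquiv
    rw [h2, hQ, hS] at h1
    show (Q.subgroupOf (S : Subgroup G)).index = 2
    omega
  obtain ⟨z, hzQ, hzo, hcases⟩ := q720_struct Q hQ hinv hcyc
  have hz2 : z * z = 1 := by
    have := pow_orderOf_eq_one z
    rwa [hzo, pow_two] at this
  have hQ4 : ∀ u ∈ Q, u ^ 4 = 1 := by
    intro u hu
    have h4 : u ^ 4 = (u * u) * (u * u) := by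
      rw [show (4 : ℕ) = 2 + 2 from rfl, pow_add, pow_two]
    rw [h4]
    rcases hcases u hu with h | h | ⟨_, h⟩
    · rw [h]; simp
    · rw [h, hz2, one_mul]
    · rw [h, hz2]
  have hdvd16 : ∀ y ∈ (S : Subgroup G), orderOf y ∣ 2 ^ 4 := by
    intro y hyS
    have := Subgroup.orderOf_dvd_natCard _ hyS
    rw [hS] at this
    norm_num
    exact this
  -- an involution of `S` outside `Q`
  obtain ⟨w, hwS, hwQ, hw2⟩ : ∃ w ∈ (S : Subgroup G), w ∉ Q ∧ orderOf w = 2 := by
    by_contra hcon
    push Not at hcon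
    have hord : ∀ y ∈ (S : Subgroup G), y ∉ Q → 2 ^ (3 - 1) < orderOf y := by
      intro y hyS hyQ
      obtain ⟨k, hk, hyk⟩ := (Nat.dvd_prime_pow Nat.prime_two).mp (hdvd16 y hyS)
      interval_cases k
      · exfalso; apply hyQ
        have : y = 1 := orderOf_eq_one_iff.mp (by simpa using hyk)
        rw [this]; exact Q.one_mem
      · exact absurd (by simpa using hyk) (hcon y hyS hyQ)
      · exact absurd (by simpa using hyk) (hfour y hyS hyQ)
      · rw [hyk]; norm_num
      · rw [hyk]; norm_num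
    obtain ⟨y₀, hy₀S, hy₀Q⟩ : ∃ y ∈ (S : Subgroup G), y ∉ Q := by
      by_contra hc
      push Not at hc
      have hle : (S : Subgroup G) ≤ Q := fun y hy => hc y hy
      have := Subgroup.card_le_of_le hle
      rw [hS, hQ] at this; omega
    obtain ⟨x, hxS, hx8⟩ : ∃ x ∈ (S : Subgroup G), orderOf x = 2 ^ 3 := by
      obtain ⟨k, hk, hyk⟩ := (Nat.dvd_prime_pow Nat.prime_two).mp (hdvd16 y₀ hy₀S)
      have hlt := hord y₀ hy₀S hy₀Q
      rw [hyk] at hlt
      have hk3 : k = 3 ∨ k = 4 := by
        interval_cases k <;> simp_all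
      rcases hk3 with rfl | rfl
      · exact ⟨y₀, hy₀S, hyk⟩
      · refine ⟨y₀ ^ 2, Subgroup.pow_mem _ hy₀S 2, ?_⟩
        rw [orderOf_pow' y₀ (by norm_num), hyk]; norm_num
    obtain ⟨g, hg⟩ := Cfsg.Agent.S3225.result hev hidx2 S Q hQS hrel 3 (by norm_num) hord x hxS hx8
    have h4 : (g * x * g⁻¹) ^ 4 = 1 := hQ4 _ hg
    rw [conj_pow, conj_eq_one_iff] at h4
    have := orderOf_dvd_of_pow_eq_one h4
    rw [hx8] at this
    norm_num at this
  -- pass to `T = S`
  have hTcard : Nat.card (S : Subgroup G) = 16 := hS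
  obtain ⟨Q', hQ'def⟩ : ∃ Q' : Subgroup (S : Subgroup G), Q' = Q.subgroupOf (S : Subgroup G) := ⟨_, rfl⟩
  have hQ'card : Nat.card Q' = 8 := by
    rw [← hQ, hQ'def]; exact Nat.card_congr (Subgroup.subgroupOfEquivOfLe hQS).toEquiv
  have hQ'mem : ∀ t : (S : Subgroup G), t ∈ Q' ↔ (t : G) ∈ Q := by
    intro t; rw [hQ'def]; exact Subgroup.mem_subgroupOf
  have hinv' : ∀ a ∈ Q', ∀ b ∈ Q', orderOf a = 2 → orderOf b = 2 → a = b := by
    intro a ha b hb hao hbo
    apply Subtype.ext
    exact hinv a ((hQ'mem a).mp ha) b ((hQ'mem b).mp hb) (by rw [Subgroup.orderOf_coe]; exact hao)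
      (by rw [Subgroup.orderOf_coe]; exact hbo)
  have hcyc' : ¬ IsCyclic Q' := by
    intro h
    apply hcyc
    rw [hQ'def] at h
    exact isCyclic_of_surjective (Subgroup.subgroupOfEquivOfLe hQS) (Subgroup.subgroupOfEquivOfLe hQS).surjective
  have hfour' : ∀ y : (S : Subgroup G), y ∉ Q' → orderOf y ≠ 4 := by
    intro y hy ho
    exact hfour (y : G) y.2 (fun h => hy ((hQ'mem y).mpr h)) (by rw [Subgroup.orderOf_coe]; exact ho)
  have hw'2 : orderOf (⟨w, hwS⟩ : (S : Subgroup G)) = 2 := by
    rw [← Subgroup.orderOf_coe]; exact hw2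
  have hw'Q : (⟨w, hwS⟩ : (S : Subgroup G)) ∉ Q' := fun h => hwQ ((hQ'mem _).mp h)
  obtain ⟨M', hM'idx, hM'inv⟩ := exists_index_two_of_quaternion hTcard Q' hQ'card hinv' hcyc' hfour'
    ⟨w, hwS⟩ hw'2 hw'Q
  have hM'n : M'.Normal := Subgroup.normal_of_index_eq_two hM'idx
  obtain ⟨M, hMdef⟩ : ∃ M : Subgroup G, M = M'.map (S : Subgroup G).subtype := ⟨_, rfl⟩
  have hMS : M ≤ (S : Subgroup G) := by rw [hMdef]; exact Subgroup.map_subtype_le M'
  have hMsub : M.subgroupOf (S : Subgroup G) = M' := by
    rw [hMdef]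
    exact Subgroup.comap_map_eq_self_of_injective (Subgroup.subtype_injective _) M'
  have hMrel : M.relIndex (S : Subgroup G) = 2 := by
    show (M.subgroupOf (S : Subgroup G)).index = 2
    rw [hMsub]; exact hM'idx
  have hMmem : ∀ (y : G) (hy : y ∈ (S : Subgroup G)), y ∈ M ↔ (⟨y, hy⟩ : (S : Subgroup G)) ∈ M' := by
    intro y hy
    rw [← hMsub]
    exact (Subgroup.mem_subgroupOf (H := M) (K := (S : Subgroup G)) (h := ⟨y, hy⟩)).symm
  have hord2 : ∀ y ∈ (S : Subgroup G), y ∉ M → 2 ^ (2 - 1) < orderOf y := by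
    intro y hyS hyM
    obtain ⟨k, hk, hyk⟩ := (Nat.dvd_prime_pow Nat.prime_two).mp (hdvd16 y hyS)
    interval_cases k
    · exfalso; apply hyM
      have : y = 1 := orderOf_eq_one_iff.mp (by simpa using hyk)
      rw [this]; exact M.one_mem
    · exfalso; apply hyM
      rw [hMmem y hyS]
      apply hM'inv
      rw [← Subgroup.orderOf_coe]
      simpa using hyk
    · rw [hyk]; norm_num
    · rw [hyk]; norm_num
    · rw [hyk]; norm_num
  -- every element of order 4 of `Q` lies in `M`
  have hQ4M : ∀ x ∈ Q, orderOf x = 4 → x ∈ M := by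
    intro x hxQ hx4
    obtain ⟨g, hg⟩ := Cfsg.Agent.S3225.result hev hidx2 S M hMS hMrel 2 (by norm_num) hord2 x (hQS hxQ)
      (by rw [hx4]; norm_num)
    have hgo : orderOf (g * x * g⁻¹) = 4 := by
      have := orderOf_injective (MulAut.conj g).toMonoidHom (MulAut.conj g).injective x
      simpa [hx4] using this
    have hgQ : g * x * g⁻¹ ∈ Q := by
      by_contra h
      exact hfour _ (hMS hg) h hgo
    have hx1 : x ≠ 1 := by
      intro h; rw [h, orderOf_one] at hx4; omega
    have hgS : g ∈ (S : Subgroup G) := hfus x hxQ hx1 g hgQ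
    have hxS := hQS hxQ
    rw [hMmem x hxS]
    have h1 : (⟨g * x * g⁻¹, hMS hg⟩ : (S : Subgroup G)) ∈ M' := (hMmem _ (hMS hg)).mp hg
    have h2 := hM'n.conj_mem _ h1 (⟨g, hgS⟩ : (S : Subgroup G))⁻¹
    convert h2 using 1
    apply Subtype.ext
    simp [mul_assoc]
  have hQ'M' : Q' ≤ M' := by
    intro t ht
    have htQ : (t : G) ∈ Q := (hQ'mem t).mp ht
    rcases hcases (t : G) htQ with h | h | ⟨h, _⟩
    · have : t = 1 := Subtype.ext h
      rw [this]; exact M'.one_mem
    · apply hM'inv
      rw [← Subgroup.orderOf_coe, h]; exact hzo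
    · have := hQ4M (t : G) htQ h
      exact (hMmem _ t.2).mp this
  have hM'card : Nat.card M' = 8 := by
    have := M'.card_mul_index
    rw [hM'idx, hTcard] at this
    omega
  have hEq : Q' = M' := Subgroup.eq_of_le_of_card_ge hQ'M' (by rw [hM'card, hQ'card])
  apply hw'Q
  rw [hEq]
  exact hM'inv _ hw'2

end Cfsg.Agent.Lib.Helper60.Small1092
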