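import Mathlib
import Cfsg.Prelude.Def_LocalEven
import Cfsg.Agent.Lib.Helper41.Conj

set_option autoImplicit false

/-!
# Two conjugate "transvections" generating a non-2-group give an `S₄`-configuration

Sub-task K53-A of S2799.  `exists_config` produces the configuration consumed by
`involves_perm4_of_config_mod` (K53-B).
-/

namespace Cfsg.Agent.Lib.Helper60.TransvectionPair

open Cfsg.Agent.Lib.Helper41

universe u

section Dihedral

variable {Q : Type*} [Group Q]

theorem inv_eq_self_of_sq {a : Q} (ha : a ^ 2 = 1) : a⁻¹ = a := by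
  rw [inv_eq_iff_mul_eq_one, ← sq, ha]

/-- if `a` inverts `y` then it inverts every element of `zpowers y` -/
theorem inverts_zpowers {a y : Q} (h : a * y * a⁻¹ = y⁻¹) {z : Q} (hz : z ∈ Subgroup.zpowers y) :
    a * z * a⁻¹ = z⁻¹ := by
  obtain ⟨k, rfl⟩ := Subgroup.mem_zpowers_iff.1 hz
  rw [← conj_zpow, h, inv_zpow]

theorem exists_odd_pow_of_prime_pow [Finite Q] (q : ℕ) (hq : q.Prime) (g : Q) :
    ∃ b a : ℕ, ¬ q ∣ b ∧ orderOf (g ^ b) = q ^ a := by
  obtain ⟨a, b, hb, hn⟩ := Nat.exists_eq_pow_mul_and_not_dvd (orderOf_pos g).ne' q hq.ne_one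
  have hb0 : b ≠ 0 := by
    rintro rfl
    exact hb (dvd_zero q)
  refine ⟨b, a, hb, ?_⟩
  rw [orderOf_pow_of_dvd hb0 (Dvd.intro_left _ hn.symm), hn,
    Nat.mul_div_cancel _ (Nat.pos_of_ne_zero hb0)]

/-- Two involutions (or trivial elements) generating a non-2-group: one of them inverts an element of odd
prime order. -/
theorem exists_inverted_odd_prime [Finite Q] (a b : Q) (ha : a ^ 2 = 1) (hb : b ^ 2 = 1)
    (hnot : ¬ IsPGroup 2 (Subgroup.closure ({a, b} : Set Q))) :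
    ∃ (r : ℕ) (y : Q), r.Prime ∧ r ≠ 2 ∧ orderOf y = r ∧ a * y * a⁻¹ = y⁻¹ := by
  have hainv : a⁻¹ = a := inv_eq_self_of_sq ha
  have hbinv : b⁻¹ = b := inv_eq_self_of_sq hb
  have hinv : a * (a * b) * a⁻¹ = (a * b)⁻¹ := by
    rw [mul_inv_rev, hainv, hbinv, ← mul_assoc, ← sq, ha, one_mul]
  rcases Nat.eq_two_pow_or_exists_odd_prime_and_dvd (orderOf (a * b)) with ⟨k, hk⟩ | ⟨r, hr, hdvd, hodd⟩
  · exfalso
    apply hnot
    have h1 : IsPGroup 2 (Subgroup.zpowers (a * b)) := by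
      apply IsPGroup.of_card (n := k)
      rw [Nat.card_zpowers, hk]
    have h2 : IsPGroup 2 (Subgroup.zpowers a) := by
      have : orderOf a ∣ 2 ^ 1 := by
        rw [pow_one]
        exact orderOf_dvd_of_pow_eq_one ha
      obtain ⟨j, -, hj⟩ := (Nat.dvd_prime_pow Nat.prime_two).1 this
      apply IsPGroup.of_card (n := j)
      rw [Nat.card_zpowers, hj]
    have h3 : Subgroup.zpowers a ≤ Subgroup.normalizer ((Subgroup.zpowers (a * b) : Subgroup Q) : Set Q) := by
      rw [Subgroup.zpowers_le]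
      rw [Subgroup.mem_normalizer_iff]
      intro z
      constructor
      · intro hz
        rw [inverts_zpowers hinv hz]
        exact inv_mem hz
      · intro hz
        have haa : a * a = 1 := by rw [← sq, ha]
        have e : z = a * (a * z * a⁻¹) * a⁻¹ := by
          calc z = (a * a) * z * (a * a)⁻¹ := by rw [haa, one_mul, inv_one, mul_one]
            _ = a * (a * z * a⁻¹) * a⁻¹ := by group
        rw [e, inverts_zpowers hinv hz]
        exact inv_mem hz
    have h4 := IsPGroup.to_sup_of_normal_right' h2 h1 h3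
    refine h4.to_le ?_
    rw [Subgroup.closure_le]
    intro x hx
    rcases hx with rfl | hx
    · exact (le_sup_left : Subgroup.zpowers x ≤ _) (Subgroup.mem_zpowers x)
    · rw [Set.mem_singleton_iff] at hx
      subst hx
      have hmem : a⁻¹ * (a * x) ∈ Subgroup.zpowers a ⊔ Subgroup.zpowers (a * x) :=
        mul_mem (inv_mem ((le_sup_left : Subgroup.zpowers a ≤ _) (Subgroup.mem_zpowers a)))
          ((le_sup_right : Subgroup.zpowers (a * x) ≤ _) (Subgroup.mem_zpowers (a * x)))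
      rwa [inv_mul_cancel_left] at hmem
  · refine ⟨r, (a * b) ^ (orderOf (a * b) / r), hr, ?_,
      orderOf_pow_orderOf_div (orderOf_pos (a * b)).ne' hdvd, ?_⟩
    · rintro rfl
      exact absurd hodd (by decide)
    · exact inverts_zpowers hinv (Subgroup.pow_mem _ (Subgroup.mem_zpowers _) _)

end Dihedral

section Core

variable {G : Type*} [Group G] [Finite G] {Q : Type*} [Group Q]

theorem pow_odd_of_sq_eq_one {z : Q} (hz : z ^ 2 = 1) {m : ℕ} (hm : Odd m) : z ^ m = z := by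
  obtain ⟨c, rfl⟩ := hm
  rw [pow_succ, pow_mul, hz, one_pow, one_mul]

omit [Finite G] in
theorem mem_normalizer_inf_normal {Y C : Subgroup G} [C.Normal] {g : G}
    (hg : g ∈ Subgroup.normalizer (Y : Set G)) : g ∈ Subgroup.normalizer ((Y ⊓ C : Subgroup G) : Set G) := by
  rw [Subgroup.mem_normalizer_iff] at hg ⊢
  intro z
  rw [Subgroup.mem_inf, Subgroup.mem_inf, ← hg z]
  constructor
  · rintro ⟨h1, h2⟩
    exact ⟨h1, ‹C.Normal›.conj_mem z h2 g⟩
  · rintro ⟨h1, h2⟩
    refine ⟨h1, ?_⟩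
    have := ‹C.Normal›.conj_mem _ h2 g⁻¹
    have e : g⁻¹ * (g * z * g⁻¹) * g⁻¹⁻¹ = z := by group
    rwa [e] at this

/-- The configuration (for K53-B) obtained from an element `a` acting as a "transvection" on the normal subgroup
`V`, whose image in `G / C_G(V)` inverts an element of odd prime order `r`. -/
theorem exists_config (π : G →* Q) (hπ : Function.Surjective π)
    (V : Subgroup G) [V.Normal]
    (hker : π.ker = Subgroup.centralizer (V : Set G))
    (a : G) (ha2 : π a ^ 2 = 1)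
    (hai : (V ⊓ Subgroup.centralizer {a}).relIndex V = 2)
    (r : ℕ) (hr : r.Prime) (hr2 : r ≠ 2) (y₁ : Q) (hy₁ : orderOf y₁ = r)
    (hinv : π a * y₁ * (π a)⁻¹ = y₁⁻¹) :
    ∃ (X₀ : Subgroup G) (x t : G), X₀ ≤ Subgroup.centralizer (V : Set G) ∧ IsPGroup r X₀ ∧
      x ∈ Subgroup.normalizer (X₀ : Set G) ∧ t ∈ Subgroup.normalizer (X₀ : Set G) ∧
      x ^ r ∈ X₀ ∧ x ∉ Subgroup.centralizer (V : Set G) ∧ (∃ j : ℕ, t ^ 2 ^ j = 1) ∧
      t * x * t⁻¹ * x ∈ X₀ ∧ (V ⊓ Subgroup.centralizer {t}).relIndex V = 2 := by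
  have : Fact r.Prime := ⟨hr⟩
  have hCn : (Subgroup.centralizer (V : Set G)).Normal := by
    rw [← hker]; infer_instance
  have hCmem : ∀ g, g ∈ Subgroup.centralizer (V : Set G) ↔ π g = 1 := fun g => by
    rw [← hker, MonoidHom.mem_ker]
  have hainv : (π a)⁻¹ = π a := inv_eq_self_of_sq ha2
  have hrodd : Odd r := hr.odd_of_ne_two hr2
  -- an `r`-element over `y₁`
  obtain ⟨x₀, hx₀⟩ := hπ y₁
  obtain ⟨b, k, hb, hxo⟩ := exists_odd_pow_of_prime_pow r hr x₀
  have hπx₁ : π (x₀ ^ b) = y₁ ^ b := by rw [map_pow, hx₀]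
  have hx₁N : x₀ ^ b ∈ (Subgroup.zpowers y₁).comap π := by
    rw [Subgroup.mem_comap, hπx₁]
    exact Subgroup.pow_mem _ (Subgroup.mem_zpowers _) _
  have hx₁C : x₀ ^ b ∉ Subgroup.centralizer (V : Set G) := by
    rw [hCmem, hπx₁]
    intro h
    have := orderOf_dvd_of_pow_eq_one h
    rw [hy₁] at this
    exact hb this
  -- a Sylow `r`-subgroup of `N₁` containing it
  have hQ : IsPGroup r (Subgroup.zpowers (x₀ ^ b)) := by
    apply IsPGroup.of_card (n := k)
    rw [Nat.card_zpowers, hxo]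
  have hQN : Subgroup.zpowers (x₀ ^ b) ≤ (Subgroup.zpowers y₁).comap π := by
    rw [Subgroup.zpowers_le]; exact hx₁N
  obtain ⟨Y, hQY, hYN, hYr, hYs⟩ := exists_sylowIn_ge hQ hQN
  have hx₁Y : x₀ ^ b ∈ Y := hQY (Subgroup.mem_zpowers _)
  -- `a` normalizes `N₁`
  have h1 : lc a Y ≤ (Subgroup.zpowers y₁).comap π := by
    intro z hz
    rw [mem_lc] at hz
    have hz' := hYN hz
    rw [Subgroup.mem_comap] at hz' ⊢
    have h2 := inverts_zpowers hinv hz'
    have e : π z = π a * π (a⁻¹ * z * a) * (π a)⁻¹ := by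
      rw [← map_inv, ← map_mul, ← map_mul]
      congr 1; group
    rw [e, h2]
    exact inv_mem hz'
  -- Frattini
  obtain ⟨n, hn, hnY⟩ := exists_lc_le_of_relIndex hYN hYr hYs (isPGroup_lc (g := a) hYr) h1
  rw [← lc_mul] at hnY
  have ht₀ : n * a ∈ Subgroup.normalizer (Y : Set G) := mem_normalizer_of_lc_le hnY
  have hz : π n ∈ Subgroup.zpowers y₁ := hn
  have hzinv : π a * π n * (π a)⁻¹ = (π n)⁻¹ := inverts_zpowers hinv hz
  have hsq : (π (n * a)) ^ 2 = 1 := by
    rw [map_mul, sq]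
    calc π n * π a * (π n * π a) = π n * (π a * π n * (π a)⁻¹) * (π a * π a) := by group
      _ = 1 := by rw [hzinv, ← sq, ha2]; group
  -- the 2-part
  obtain ⟨b', k', hb', hto⟩ := exists_odd_pow_of_prime_pow 2 Nat.prime_two (n * a)
  have hb'odd : Odd b' := Nat.odd_iff.2 (Nat.two_dvd_ne_zero.1 hb')
  have hπt : π ((n * a) ^ b') = π n * π a := by
    rw [map_pow, pow_odd_of_sq_eq_one hsq hb'odd, map_mul]
  have htY : (n * a) ^ b' ∈ Subgroup.normalizer (Y : Set G) := Subgroup.pow_mem _ ht₀ _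
  -- `π t` inverts `zpowers y₁`
  have htinv : ∀ u ∈ Subgroup.zpowers y₁, (π n * π a) * u * (π n * π a)⁻¹ = u⁻¹ := by
    intro u hu
    have h3 := inverts_zpowers hinv hu
    obtain ⟨i, hi⟩ := Subgroup.mem_zpowers_iff.1 hz
    obtain ⟨j, hj⟩ := Subgroup.mem_zpowers_iff.1 hu
    calc (π n * π a) * u * (π n * π a)⁻¹ = π n * (π a * u * (π a)⁻¹) * (π n)⁻¹ := by group
      _ = π n * u⁻¹ * (π n)⁻¹ := by rw [h3]
      _ = u⁻¹ := by
        rw [← hi, ← hj, ← zpow_neg, ← zpow_neg, ← zpow_add, ← zpow_add]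
        congr 1; ring
  refine ⟨Y ⊓ Subgroup.centralizer (V : Set G), x₀ ^ b, (n * a) ^ b', inf_le_right, hYr.to_le inf_le_left,
    ?_, ?_, ?_, hx₁C, ⟨k', ?_⟩, ?_, ?_⟩
  · exact mem_normalizer_inf_normal (Subgroup.le_normalizer hx₁Y)
  · exact mem_normalizer_inf_normal htY
  · refine Subgroup.mem_inf.2 ⟨Subgroup.pow_mem _ hx₁Y _, ?_⟩
    rw [hCmem, map_pow, hπx₁, ← pow_mul, mul_comm, pow_mul, ← hy₁, pow_orderOf_eq_one, one_pow]
  · rw [← hto, pow_orderOf_eq_one]
  · refine Subgroup.mem_inf.2 ⟨?_, ?_⟩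
    · refine mul_mem ?_ hx₁Y
      exact (Subgroup.mem_normalizer_iff.1 htY _).1 hx₁Y
    · rw [hCmem, map_mul, map_mul, map_mul, map_inv, hπt, hπx₁,
        htinv _ (Subgroup.pow_mem _ (Subgroup.mem_zpowers _) _), inv_mul_cancel]
  · -- the index
    obtain ⟨c, hc⟩ := hrodd
    -- `w ^ 2 = π n`
    have hw : (π n ^ (c + 1)) ^ 2 = π n := by
      have hnr : π n ^ r = 1 := by
        obtain ⟨i, hi⟩ := Subgroup.mem_zpowers_iff.1 hz
        rw [← hi, ← zpow_natCast, ← zpow_mul, mul_comm, zpow_mul, zpow_natCast, ← hy₁, pow_orderOf_eq_one,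
          one_zpow]
      rw [← pow_mul, show (c + 1) * 2 = r + 1 by omega, pow_succ, hnr, one_mul]
    have hwz : π n ^ (c + 1) ∈ Subgroup.zpowers y₁ := Subgroup.pow_mem _ hz _
    have hwinv := inverts_zpowers hinv hwz
    obtain ⟨h, hh⟩ := hπ (π n ^ (c + 1))
    have hπt' : π ((n * a) ^ b') = π (h * a * h⁻¹) := by
      rw [hπt, map_mul, map_mul, map_inv, hh]
      conv_lhs => rw [← hw]
      calc (π n ^ (c + 1)) ^ 2 * π a
          = π n ^ (c + 1) * (π a * ((π a)⁻¹ * π n ^ (c + 1) * π a)) := by group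
        _ = π n ^ (c + 1) * π a * (π n ^ (c + 1))⁻¹ := by
          rw [mul_assoc (π n ^ (c + 1)) (π a)]
          congr 2
          have : (π a)⁻¹ * π n ^ (c + 1) * π a = π a * π n ^ (c + 1) * (π a)⁻¹ := by
            rw [hainv]
          rw [this, hwinv]
    have hcC : (h * a * h⁻¹)⁻¹ * (n * a) ^ b' ∈ Subgroup.centralizer (V : Set G) := by
      rw [hCmem, map_mul, map_inv, hπt', inv_mul_cancel]
    have heq : V ⊓ Subgroup.centralizer {(n * a) ^ b'} = lc h (V ⊓ Subgroup.centralizer {a}) := by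
      ext v
      rw [mem_lc, Subgroup.mem_inf, Subgroup.mem_inf, Subgroup.mem_centralizer_singleton_iff,
        Subgroup.mem_centralizer_singleton_iff]
      have hVn : h⁻¹ * v * h ∈ V ↔ v ∈ V := by
        constructor
        · intro hv
          have := ‹V.Normal›.conj_mem _ hv h
          have e : h * (h⁻¹ * v * h) * h⁻¹ = v := by group
          rwa [e] at this
        · intro hv
          have := ‹V.Normal›.conj_mem _ hv h⁻¹
          rwa [inv_inv] at this
      rw [hVn]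
      apply and_congr_right
      intro hv
      have hcv := (Subgroup.mem_centralizer_iff.1 hcC) v hv
      have e1 : (n * a) ^ b' * v = (h * a * h⁻¹) * v * ((h * a * h⁻¹)⁻¹ * (n * a) ^ b') := by
        rw [mul_assoc _ v, hcv]; group
      have e2 : v * (n * a) ^ b' = v * (h * a * h⁻¹) * ((h * a * h⁻¹)⁻¹ * (n * a) ^ b') := by group
      rw [eq_comm, e1, e2, mul_left_inj, eq_comm (a := h⁻¹ * v * h * a)]
      constructor
      · intro h5
        calc a * (h⁻¹ * v * h) = h⁻¹ * ((h * a * h⁻¹) * v) * h := by group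
          _ = h⁻¹ * (v * (h * a * h⁻¹)) * h := by rw [h5]
          _ = h⁻¹ * v * h * a := by group
      · intro hva
        calc (h * a * h⁻¹) * v = h * (a * (h⁻¹ * v * h)) * h⁻¹ := by group
          _ = h * (h⁻¹ * v * h * a) * h⁻¹ := by rw [hva]
          _ = v * (h * a * h⁻¹) := by group
    rw [heq]
    have hVh : lc h V = V := Subgroup.normal_iff_map_conj_eq.mp inferInstance h
    have h7 := relIndex_lc h (V ⊓ Subgroup.centralizer {a}) V
    rw [hVh] at h7
    rw [h7, hai]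

end Core

/-- **K53-A**, with K53-B (`involves_perm4_of_config_mod`) as an explicit hypothesis `B`. -/
theorem involves_perm4_of_transvection_pair_of_B {G : Type u} [Group G] [Finite G]
    (B : ∀ (U : Subgroup G) [U.Normal]
      (_ : ∀ a ∈ U, ∀ b ∈ U, a * b = b * a) (_ : IsPGroup 2 U)
      (X₀ : Subgroup G) (_ : X₀ ≤ Subgroup.centralizer (U : Set G))
      (r : ℕ) (_ : r.Prime) (_ : r ≠ 2) (_ : IsPGroup r X₀)
      (x t : G) (_ : x ∈ Subgroup.normalizer (X₀ : Set G)) (_ : t ∈ Subgroup.normalizer (X₀ : Set G))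
      (_ : x ^ r ∈ X₀) (_ : x ∉ Subgroup.centralizer (U : Set G))
      (_ : ∃ j : ℕ, t ^ 2 ^ j = 1) (_ : t * x * t⁻¹ * x ∈ X₀)
      (_ : (U ⊓ Subgroup.centralizer {t}).relIndex U = 2), Cfsg.Involves (Equiv.Perm (Fin 4)) G)
    (V : Subgroup G) [V.Normal] (hVc : ∀ a ∈ V, ∀ b ∈ V, a * b = b * a) (hV2 : IsPGroup 2 V)
    (a : G)
    (ha2 : a ^ 2 ∈ Subgroup.centralizer (V : Set G))
    (hai : (V ⊓ Subgroup.centralizer {a}).relIndex V = 2)
    (g : G)
    (hnot : ¬ IsPGroup 2 (Subgroup.closure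
      ({(QuotientGroup.mk a : G ⧸ Subgroup.centralizer (V : Set G)),
        (QuotientGroup.mk (g * a * g⁻¹) : G ⧸ Subgroup.centralizer (V : Set G))} :
        Set (G ⧸ Subgroup.centralizer (V : Set G))))) :
    Cfsg.Involves (Equiv.Perm (Fin 4)) G := by
  have hA2 : (QuotientGroup.mk a : G ⧸ Subgroup.centralizer (V : Set G)) ^ 2 = 1 := by
    rw [← QuotientGroup.mk_pow, QuotientGroup.eq_one_iff]
    exact ha2
  have hB2 : (QuotientGroup.mk (g * a * g⁻¹) : G ⧸ Subgroup.centralizer (V : Set G)) ^ 2 = 1 := by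
    rw [← QuotientGroup.mk_pow, QuotientGroup.eq_one_iff, conj_pow]
    exact (inferInstance : (Subgroup.centralizer (V : Set G)).Normal).conj_mem _ ha2 g
  obtain ⟨r, y, hr, hr2, hy, hinv⟩ := exists_inverted_odd_prime _ _ hA2 hB2 hnot
  obtain ⟨X₀, x, t, h1, h2, h3, h4, h5, h6, h7, h8, h9⟩ :=
    exists_config (QuotientGroup.mk' (Subgroup.centralizer (V : Set G)))
      (QuotientGroup.mk'_surjective _) V (QuotientGroup.ker_mk' _) a hA2 hai r hr hr2 y hy hinv
  exact B V hVc hV2 X₀ h1 r hr hr2 h2 x t h3 h4 h5 h6 h7 h8 h9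

end Cfsg.Agent.Lib.Helper60.TransvectionPair
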