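import Mathlib
import Cfsg.Prelude.Def_LocalEven
import Cfsg.Agent.Lib.Helper18.S4Mod
import Cfsg.Agent.Lib.Helper60.TransvectionPair

set_option autoImplicit false

/-!
# K53-A: two conjugate transvections generating a non-2-group force an `S₄` section

Final form of the sub-task K53-A of S2799 (exact signature of `notes/WeakClosureS4Spec.lean.txt`).
-/

namespace Cfsg.Agent.Lib.Helper60.TransvectionPair

universe u

/-- **A (TL)**: two conjugate "transvections" on a normal abelian 2-subgroup generating a non-2-group modulo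
the centralizer force a section isomorphic to `S₄`. -/
theorem involves_perm4_of_transvection_pair {G : Type u} [Group G] [Finite G]
    (V : Subgroup G) [V.Normal] (hVc : ∀ a ∈ V, ∀ b ∈ V, a * b = b * a) (hV2 : IsPGroup 2 V)
    (a : G) (ha : ∃ j : ℕ, a ^ 2 ^ j = 1)
    (ha2 : a ^ 2 ∈ Subgroup.centralizer (V : Set G))
    (hai : (V ⊓ Subgroup.centralizer {a}).relIndex V = 2)
    (g : G)
    (hnot : ¬ IsPGroup 2 (Subgroup.closure
      ({(QuotientGroup.mk a : G ⧸ Subgroup.centralizer (V : Set G)),
        (QuotientGroup.mk (g * a * g⁻¹) : G ⧸ Subgroup.centralizer (V : Set G))} :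
        Set (G ⧸ Subgroup.centralizer (V : Set G))))) :
    Cfsg.Involves (Equiv.Perm (Fin 4)) G := by
  have _ := ha
  exact involves_perm4_of_transvection_pair_of_B
    (fun U _ hUc hU2 X₀ hX₀U r hr hr2 hX₀r x t hxN htN hxr hxU ht2 htx hidx =>
      Cfsg.Agent.Lib.Helper18.S4Mod.involves_perm4_of_config_mod U hUc hU2 X₀ hX₀U r hr hr2 hX₀r x t
        hxN htN hxr hxU ht2 htx hidx)
    V hVc hV2 a ha2 hai g hnot

end Cfsg.Agent.Lib.Helper60.TransvectionPair
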