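import Mathlib

/-!
# Knoche: a finite `p`-group all of whose class sizes are at most `p` has `|P'|` dividing `p`

Keystone K-S4130-L7 (for helper73's S4130).
-/

set_option autoImplicit false

namespace Cfsg.Agent.Lib.Helper60.SqF

open Subgroup

universe u

section knoche

variable {P : Type u} [Group P] [Finite P] (p : ℕ) [Fact p.Prime]

/-- in a `p`-group, a centralizer whose index is not divisible by `p ^ 2` has index dividing `p` -/
theorem index_centralizer_dvd (hP : IsPGroup p P) (x : P)
    (h : ¬ p ^ 2 ∣ (centralizer ({x} : Set P)).index) :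
    (centralizer ({x} : Set P)).index ∣ p := by
  obtain ⟨n, hn⟩ := hP.index (centralizer ({x} : Set P))
  rw [hn] at h ⊢
  have hn1 : n ≤ 1 := by
    by_contra hlt
    push Not at hlt
    exact h (pow_dvd_pow p hlt)
  interval_cases n
  · simp
  · simp

/-- a subgroup of a `p`-group of index dividing `p` contains the commutator subgroup -/
theorem commutator_le_of_index_dvd (hP : IsPGroup p P) (H : Subgroup P) (h : H.index ∣ p) :
    commutator P ≤ H := by
  have hp : p.Prime := Fact.out
  rcases (Nat.dvd_prime hp).1 h with h1 | h1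
  · rw [Subgroup.index_eq_one] at h1
    rw [h1]
    exact le_top
  · -- `H` has index `p`, the smallest prime factor of the order
    obtain ⟨n, hn⟩ := IsPGroup.iff_card.1 hP
    have hn0 : n ≠ 0 := by
      rintro rfl
      rw [pow_zero] at hn
      have : H.index ∣ 1 := hn ▸ H.index_dvd_card
      rw [h1] at this
      exact hp.one_lt.ne' (Nat.dvd_one.1 this)
    have hmin : (Nat.card P).minFac = p := by
      rw [hn, Nat.pow_minFac hn0, hp.minFac_eq]
    have hnorm : H.Normal := Subgroup.normal_of_index_eq_minFac_card (h1.trans hmin.symm)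
    have hcard : Nat.card (P ⧸ H) = p := h1
    have hcyc : IsCyclic (P ⧸ H) := isCyclic_of_prime_card hcard
    have hcomm : IsMulCommutative (P ⧸ H) := ⟨⟨fun a b => hcyc.commGroup.mul_comm a b⟩⟩
    exact Subgroup.Normal.quotient_commutative_iff_commutator_le.1 hcomm

/-- every commutator is central -/
theorem commutator_le_center (hP : IsPGroup p P)
    (h : ∀ x : P, ¬ p ^ 2 ∣ (centralizer ({x} : Set P)).index) :
    commutator P ≤ center P := by
  intro c hc
  rw [Subgroup.mem_center_iff]
  intro x
  have h1 := commutator_le_of_index_dvd p hP _ (index_centralizer_dvd p hP x (h x)) hc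
  rw [Subgroup.mem_centralizer_iff] at h1
  exact h1 x rfl

/-- the map `y ↦ [x, y]` as a homomorphism, in a group of class at most two -/
def commHom (hZ : commutator P ≤ center P) (x : P) : P →* P :=
  MonoidHom.mk' (fun y => x * y * x⁻¹ * y⁻¹) (by
    intro a b
    have hb : x * b * x⁻¹ * b⁻¹ ∈ center P := hZ (by
      rw [commutator_eq_closure]
      exact Subgroup.subset_closure ⟨x, b, rfl⟩)
    rw [Subgroup.mem_center_iff] at hb
    calc x * (a * b) * x⁻¹ * (a * b)⁻¹ = x * a * x⁻¹ * ((x * b * x⁻¹ * b⁻¹) * a⁻¹) := by group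
      _ = x * a * x⁻¹ * (a⁻¹ * (x * b * x⁻¹ * b⁻¹)) := by rw [hb a⁻¹]
      _ = x * a * x⁻¹ * a⁻¹ * (x * b * x⁻¹ * b⁻¹) := by group)

omit [Finite P] in
theorem commHom_apply (hZ : commutator P ≤ center P) (x y : P) :
    commHom hZ x y = x * y * x⁻¹ * y⁻¹ := rfl

theorem commHom_ker (hZ : commutator P ≤ center P) (x : P) :
    (commHom hZ x).ker = centralizer ({x} : Set P) := by
  ext y
  rw [MonoidHom.mem_ker, commHom_apply, Subgroup.mem_centralizer_iff]
  constructor
  · intro h z hz
    rw [Set.mem_singleton_iff] at hz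
    subst hz
    calc z * y = (z * y * z⁻¹ * y⁻¹) * y * z := by group
      _ = y * z := by rw [h, one_mul]
  · intro h
    have := h x rfl
    calc x * y * x⁻¹ * y⁻¹ = (x * y) * x⁻¹ * y⁻¹ := by group
      _ = (y * x) * x⁻¹ * y⁻¹ := by rw [this]
      _ = 1 := by group

/-- the subgroup `[x, P]` -/
def commRange (hZ : commutator P ≤ center P) (x : P) : Subgroup P := (commHom hZ x).range

theorem card_commRange (hZ : commutator P ≤ center P) (x : P) :
    Nat.card (commRange hZ x) = (centralizer ({x} : Set P)).index := by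
  rw [commRange, ← Subgroup.index_ker, commHom_ker]

omit [Finite P] in
theorem comm_mem_commRange (hZ : commutator P ≤ center P) (x y : P) :
    x * y * x⁻¹ * y⁻¹ ∈ commRange hZ x := ⟨y, rfl⟩

omit [Finite P] in
theorem comm_mem_commRange' (hZ : commutator P ≤ center P) (x y : P) :
    x * y * x⁻¹ * y⁻¹ ∈ commRange hZ y := by
  have h1 : (y * x * y⁻¹ * x⁻¹)⁻¹ ∈ commRange hZ y := Subgroup.inv_mem _ ⟨x, rfl⟩
  have h2 : (y * x * y⁻¹ * x⁻¹)⁻¹ = x * y * x⁻¹ * y⁻¹ := by group
  rwa [h2] at h1

/-- two noncentral elements have the same commutator range -/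
theorem commRange_eq (hP : IsPGroup p P)
    (h : ∀ x : P, ¬ p ^ 2 ∣ (centralizer ({x} : Set P)).index)
    (hZ : commutator P ≤ center P) {a x : P} (ha : a ∉ center P) (hx : x ∉ center P) :
    commRange hZ a = commRange hZ x := by
  have hp : p.Prime := Fact.out
  -- a nontrivial commutator `[a, z]` forces equality of the ranges at `a` and `z`
  have key : ∀ a z : P, a * z * a⁻¹ * z⁻¹ ≠ 1 → commRange hZ a = commRange hZ z := by
    intro a z hne
    have hcard : ∀ w : P, Nat.card (commRange hZ w) ∣ p := fun w => by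
      rw [card_commRange]
      exact index_centralizer_dvd p hP w (h w)
    -- both contain the subgroup generated by the commutator
    have h1 : zpowers (a * z * a⁻¹ * z⁻¹) ≤ commRange hZ a := by
      rw [Subgroup.zpowers_le]
      exact comm_mem_commRange hZ a z
    have h2 : zpowers (a * z * a⁻¹ * z⁻¹) ≤ commRange hZ z := by
      rw [Subgroup.zpowers_le]
      exact comm_mem_commRange' hZ a z
    have hz1 : Nat.card (zpowers (a * z * a⁻¹ * z⁻¹)) ≠ 1 := by
      rw [Nat.card_zpowers]
      intro h0
      exact hne (orderOf_eq_one_iff.1 h0)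
    have heq : ∀ w : P, zpowers (a * z * a⁻¹ * z⁻¹) ≤ commRange hZ w →
        zpowers (a * z * a⁻¹ * z⁻¹) = commRange hZ w := by
      intro w hw
      apply Subgroup.eq_of_le_of_card_ge hw
      have hd := Subgroup.card_dvd_of_le hw
      rcases (Nat.dvd_prime hp).1 (hcard w) with h0 | h0
      · rw [h0] at hd
        exact absurd (Nat.dvd_one.1 hd) hz1
      · rcases (Nat.dvd_prime hp).1 (hd.trans (hcard w)) with h3 | h3
        · exact absurd h3 hz1
        · rw [h0, h3]
    rw [← heq a h1, ← heq z h2]
  -- find `z` commuting with neither `a` nor `x`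
  have hna : ∃ g : P, a * g * a⁻¹ * g⁻¹ ≠ 1 := by
    by_contra hall
    push Not at hall
    apply ha
    rw [Subgroup.mem_center_iff]
    intro g
    have := hall g
    calc g * a = (a * g * a⁻¹ * g⁻¹)⁻¹ * (a * g) := by group
      _ = a * g := by rw [this, inv_one, one_mul]
  have hnx : ∃ g : P, x * g * x⁻¹ * g⁻¹ ≠ 1 := by
    by_contra hall
    push Not at hall
    apply hx
    rw [Subgroup.mem_center_iff]
    intro g
    have := hall g
    calc g * x = (x * g * x⁻¹ * g⁻¹)⁻¹ * (x * g) := by group
      _ = x * g := by rw [this, inv_one, one_mul]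
  obtain ⟨g, hg⟩ := hna
  obtain ⟨g', hg'⟩ := hnx
  have hmul : ∀ w b c : P, w * (b * c) * w⁻¹ * (b * c)⁻¹ =
      (w * b * w⁻¹ * b⁻¹) * (w * c * w⁻¹ * c⁻¹) := fun w b c => by
    have := map_mul (commHom hZ w) b c
    simpa only [commHom_apply] using this
  by_cases hgx : x * g * x⁻¹ * g⁻¹ = 1
  · by_cases hg'a : a * g' * a⁻¹ * g'⁻¹ = 1
    · -- use `g * g'`
      have h1 : a * (g * g') * a⁻¹ * (g * g')⁻¹ ≠ 1 := by
        rw [hmul, hg'a, mul_one]
        exact hg
      have h2 : x * (g * g') * x⁻¹ * (g * g')⁻¹ ≠ 1 := by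
        rw [hmul, hgx, one_mul]
        exact hg'
      rw [key a _ h1, key x _ h2]
    · rw [key a _ hg'a, key x _ hg']
  · rw [key a _ hg, key x _ hgx]

end knoche

/-- L7 (Knoche). -/
theorem card_commutator_dvd_of_pgroup {P : Type u} [Group P] [Finite P] (p : ℕ) [Fact p.Prime]
    (hP : IsPGroup p P) (h : ∀ x : P, ¬ p ^ 2 ∣ (centralizer ({x} : Set P)).index) :
    Nat.card (commutator P) ∣ p := by
  have hZ := commutator_le_center p hP h
  by_cases hall : ∀ x : P, x ∈ center P
  · -- abelian
    have : commutator P = ⊥ := by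
      rw [eq_bot_iff, commutator_def, Subgroup.commutator_le]
      intro a _ b _
      rw [Subgroup.mem_bot, commutatorElement_eq_one_iff_mul_comm]
      exact ((Subgroup.mem_center_iff.1 (hall a)) b).symm
    rw [this, Subgroup.card_bot]
    exact one_dvd p
  · push Not at hall
    obtain ⟨x, hx⟩ := hall
    have hle : commutator P ≤ commRange hZ x := by
      rw [commutator_def, Subgroup.commutator_le]
      intro a _ b _
      rw [commutatorElement_def]
      by_cases ha : a ∈ center P
      · have : a * b * a⁻¹ * b⁻¹ = 1 := by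
          rw [Subgroup.mem_center_iff] at ha
          calc a * b * a⁻¹ * b⁻¹ = (a * b) * a⁻¹ * b⁻¹ := by group
            _ = (b * a) * a⁻¹ * b⁻¹ := by rw [ha b]
            _ = 1 := by group
        rw [this]
        exact Subgroup.one_mem _
      · rw [← commRange_eq p hP h hZ ha hx]
        exact comm_mem_commRange hZ a b
    have h1 := Subgroup.card_dvd_of_le hle
    have h2 : Nat.card (commRange hZ x) ∣ p := by
      rw [card_commRange]
      exact index_centralizer_dvd p hP x (h x)
    exact h1.trans h2


end Cfsg.Agent.Lib.Helper60.SqF
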