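import Mathlib

/-! K-GAG leaf G10 (S4839): lifting the involution of a dihedral section through a normal 2-subgroup
on which the odd-order elements act fixed-point-freely. No Schur–Zassenhaus: the map
`n ↦ n⁻¹ (y⁻¹ n y)` on `N` is injective, hence bijective. -/

set_option autoImplicit false

namespace Cfsg.Agent.Lib.Helper60.Gag

variable {G : Type*} [Group G] [Finite G]

/-- the twisted commutator map of a fixed-point-free element is onto -/
theorem exists_twist (N : Subgroup G) [hN : N.Normal] (y : G)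
    (hfpf : ∀ n ∈ N, y * n = n * y → n = 1) (m : G) (hm : m ∈ N) :
    ∃ n ∈ N, n⁻¹ * (y⁻¹ * n * y) = m := by
  have hmem : ∀ n : N, (n : G)⁻¹ * (y⁻¹ * (n : G) * y) ∈ N := by
    intro n
    have h1 : y⁻¹ * (n : G) * y⁻¹⁻¹ ∈ N := hN.conj_mem n n.2 y⁻¹
    rw [inv_inv] at h1
    exact N.mul_mem (N.inv_mem n.2) h1
  let φ : N → N := fun n => ⟨(n : G)⁻¹ * (y⁻¹ * (n : G) * y), hmem n⟩
  have hinj : Function.Injective φ := by
    intro a b hab
    have h : (a : G)⁻¹ * (y⁻¹ * (a : G) * y) = (b : G)⁻¹ * (y⁻¹ * (b : G) * y) :=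
      congrArg Subtype.val hab
    have h2 : (b : G) * (a : G)⁻¹ * y⁻¹ = y⁻¹ * ((b : G) * (a : G)⁻¹) := by
      calc (b : G) * (a : G)⁻¹ * y⁻¹
          = (b : G) * ((a : G)⁻¹ * (y⁻¹ * (a : G) * y)) * y⁻¹ * (a : G)⁻¹ := by group
        _ = (b : G) * ((b : G)⁻¹ * (y⁻¹ * (b : G) * y)) * y⁻¹ * (a : G)⁻¹ := by rw [h]
        _ = y⁻¹ * ((b : G) * (a : G)⁻¹) := by group
    have h3 : y * ((b : G) * (a : G)⁻¹) = (b : G) * (a : G)⁻¹ * y := by
      calc y * ((b : G) * (a : G)⁻¹) = y * ((b : G) * (a : G)⁻¹ * y⁻¹) * y := by group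
        _ = y * (y⁻¹ * ((b : G) * (a : G)⁻¹)) * y := by rw [h2]
        _ = (b : G) * (a : G)⁻¹ * y := by group
    have h4 : (b : G) * (a : G)⁻¹ = 1 := hfpf _ (N.mul_mem b.2 (N.inv_mem a.2)) h3
    have h5 : (b : G) = (a : G) := by
      have := mul_inv_eq_one.mp h4
      exact this
    exact Subtype.ext h5.symm
  have hsurj : Function.Surjective φ := Finite.injective_iff_surjective.mp hinj
  obtain ⟨n, hn⟩ := hsurj ⟨m, hm⟩
  exact ⟨n, n.2, congrArg Subtype.val hn⟩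

/-- G10 (HARD): lifting the involution of a dihedral section. -/
theorem lift_involution (N : Subgroup G) [N.Normal] (hN2 : IsPGroup 2 N)
    (u : G) (hu : u ∉ N) (hu2 : u * u ∈ N)
    (xb : G ⧸ N) (hxb1 : xb ≠ 1) (hodd : Odd (orderOf xb))
    (hinv : (u : G ⧸ N) * xb * (u : G ⧸ N)⁻¹ = xb⁻¹)
    (hfpf : ∀ y : G, y ≠ 1 → Odd (orderOf y) → ∀ n ∈ N, y * n = n * y → n = 1) :
    ∃ s : G, s ∉ N ∧ s * s = 1 := by
  have hN : N.Normal := inferInstance
  obtain ⟨x, rfl⟩ := QuotientGroup.mk_surjective xb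
  obtain ⟨a, ha⟩ := (IsPGroup.iff_card).mp hN2
  set k := orderOf (x : G ⧸ N) with hk
  -- `x ^ k ∈ N`
  have hxk : x ^ k ∈ N := by
    rw [← QuotientGroup.eq_one_iff, QuotientGroup.mk_pow, hk, pow_orderOf_eq_one]
  set y : G := x ^ (2 ^ a) with hy
  have hyk : y ^ k = 1 := by
    have h1 : (⟨x ^ k, hxk⟩ : N) ^ Nat.card N = 1 := pow_card_eq_one'
    have h2 : (x ^ k) ^ (2 ^ a) = 1 := by
      have := congrArg Subtype.val h1
      rw [ha] at this
      simpa using this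
    rw [hy, ← pow_mul, mul_comm, pow_mul]
    exact h2
  have hyodd : Odd (orderOf y) := Odd.of_dvd_nat hodd (orderOf_dvd_of_pow_eq_one hyk)
  have hyN : y ∉ N := by
    intro h
    have h1 : ((x : G ⧸ N)) ^ (2 ^ a) = 1 := by
      rw [← QuotientGroup.mk_pow]
      exact (QuotientGroup.eq_one_iff _).mpr h
    have h2 : k ∣ 2 ^ a := orderOf_dvd_of_pow_eq_one h1
    have h3 : Nat.Coprime k (2 ^ a) := Nat.Coprime.pow_right a (Nat.coprime_two_right.mpr hodd)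
    have h4 : k = 1 := Nat.Coprime.eq_one_of_dvd h3 h2
    exact hxb1 (orderOf_eq_one_iff.mp h4)
  have hy1 : y ≠ 1 := fun h => hyN (h ▸ N.one_mem)
  -- `u y u⁻¹ y ∈ N`
  have hm : u * y * u⁻¹ * y ∈ N := by
    rw [← QuotientGroup.eq_one_iff]
    have h1 : ((u * y * u⁻¹ * y : G) : G ⧸ N) =
        ((u : G ⧸ N) * (x : G ⧸ N) * (u : G ⧸ N)⁻¹) ^ (2 ^ a) * (x : G ⧸ N) ^ (2 ^ a) := by
      rw [conj_pow, hy]
      simp only [QuotientGroup.mk_mul, QuotientGroup.mk_inv, QuotientGroup.mk_pow]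
    rw [h1, hinv, inv_pow, inv_mul_cancel]
  obtain ⟨n, hn, hφ⟩ := exists_twist N y (hfpf y hy1 hyodd) _ hm
  set s : G := n * u with hs
  have hsy : s * y * s⁻¹ = y⁻¹ := by
    calc s * y * s⁻¹ = n * (u * y * u⁻¹ * y) * y⁻¹ * n⁻¹ := by rw [hs]; group
      _ = n * (n⁻¹ * (y⁻¹ * n * y)) * y⁻¹ * n⁻¹ := by rw [hφ]
      _ = y⁻¹ := by group
  have hsN : s ∉ N := by
    intro h
    exact hu ((Subgroup.mul_mem_cancel_left N hn).mp h)
  have hssN : s * s ∈ N := by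
    have h1 : s * s = n * (u * n * u⁻¹) * (u * u) := by rw [hs]; group
    rw [h1]
    exact N.mul_mem (N.mul_mem hn (hN.conj_mem n hn u)) hu2
  have hsy' : s * y⁻¹ * s⁻¹ = y := by
    have : s * y⁻¹ * s⁻¹ = (s * y * s⁻¹)⁻¹ := by group
    rw [this, hsy, inv_inv]
  have hcomm : y * (s * s) = s * s * y := by
    have h1 : s * s * y * (s * s)⁻¹ = y := by
      calc s * s * y * (s * s)⁻¹ = s * (s * y * s⁻¹) * s⁻¹ := by group
        _ = s * y⁻¹ * s⁻¹ := by rw [hsy]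
        _ = y := hsy'
    calc y * (s * s) = (s * s * y * (s * s)⁻¹) * (s * s) := by rw [h1]
      _ = s * s * y := by group
  exact ⟨s, hsN, hfpf y hy1 hyodd (s * s) hssN hcomm⟩

end Cfsg.Agent.Lib.Helper60.Gag
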