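import Mathlib
import Cfsg.Agent.Lib.Helper49.SpInvDefs
import Cfsg.Agent.S0749

/-!
# K-SpInv-4c (keystone 268007, architect helper49): isometries of a non-alternating symmetric form in characteristic 2
-/

set_option autoImplicit false

namespace Cfsg.Agent.Lib.Helper60.SpInv

open Matrix Cfsg.Agent.Lib.Helper49.SpInv

section Sqrt

variable {F : Type*} [Field F] [Fintype F]

/-- the linear functional `lam` with `lam x ^ 2 = γ x x` of a symmetric form in characteristic 2. -/
theorem exists_sqrt_functional [CharP F 2] {U : Type*} [AddCommGroup U] [Module F U]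
    (γ : LinearMap.BilinForm F U) (hsym : γ.IsSymm) :
    ∃ lam : U →ₗ[F] F, ∀ x, lam x ^ 2 = γ x x := by
  have : ExpChar F 2 := ExpChar.prime Nat.prime_two
  refine ⟨{ toFun := fun x => (frobeniusEquiv F 2).symm (γ x x), map_add' := ?_, map_smul' := ?_ }, ?_⟩
  · intro x y
    rw [← map_add]
    congr 1
    simp only [map_add, LinearMap.add_apply]
    rw [hsym.eq y x]
    have h2 : γ x y + γ x y = 0 := CharTwo.add_self_eq_zero _
    calc γ x x + γ x y + (γ x y + γ y y) = γ x x + γ y y + (γ x y + γ x y) := by ring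
      _ = γ x x + γ y y := by rw [h2, add_zero]
  · intro c x
    simp only [map_smul, LinearMap.smul_apply, smul_eq_mul, RingHom.id_apply]
    have h1 : c * (c * γ x x) = c ^ 2 * γ x x := by ring
    rw [h1, map_mul, frobeniusEquiv_symm_pow]
  · intro x
    exact frobeniusEquiv_symm_pow_p F 2 (γ x x)

end Sqrt

variable {F : Type*} [Field F] [Fintype F]

/-- K-SpInv-4c. -/
theorem card_isom_even_nonalt [CharP F 2] {q : ℕ} (hF : Fintype.card F = q) {U : Type*}
    [AddCommGroup U] [Module F U] [FiniteDimensional F U] (γ : LinearMap.BilinForm F U)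
    (hnd : γ.Nondegenerate) (hsym : γ.IsSymm) (hna : ∃ x, γ x x ≠ 0) (k : ℕ)
    (hk : Module.finrank F U = 2 * k + 2)
    (h4a : ∀ γ' : LinearMap.BilinForm F U, γ'.Nondegenerate → γ'.IsAlt →
      Nat.card (IsomSet γ') = spOrd q (k + 1))
    (h4d : ∀ C : Submodule F U, (γ.restrict C).Nondegenerate → (γ.restrict C).IsAlt →
      Even (Module.finrank F C)) :
    Nat.card (IsomSet γ) = q ^ (2 * k + 1) * spOrd q k := by
  classical
  obtain ⟨lam, hlam⟩ := exists_sqrt_functional γ hsym
  have h2 : ∀ a : F, a + a = 0 := CharTwo.add_self_eq_zero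
  have h20 : (2 : F) = 0 := CharTwo.two_eq_zero
  obtain ⟨z, hz⟩ : ∃ z : U, ∀ x, γ z x = lam x :=
    ⟨(γ.toDual hnd).symm lam, fun x => LinearMap.BilinForm.apply_toDual_symm_apply lam x⟩
  have hsq_inj : ∀ a b : F, a ^ 2 = b ^ 2 → a = b := by
    intro a b hab
    have h0 : (a - b) ^ 2 = 0 := by linear_combination hab + (b ^ 2 - a * b) * h20
    exact sub_eq_zero.mp ((pow_eq_zero_iff (two_ne_zero)).mp h0)
  obtain ⟨x₀, hx₀⟩ := hna
  have hlamx₀ : lam x₀ ≠ 0 := by
    intro h; apply hx₀; rw [← hlam, h]; ring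
  have hz0 : z ≠ 0 := by
    intro h; apply hlamx₀; rw [← hz, h]; simp
  have hlamz_sq : lam z ^ 2 = lam z := by rw [hlam, hz]
  have hlamz : lam z = 0 := by
    by_contra hne
    have h1 : lam z = 1 := by
      have h3 : lam z * (lam z - 1) = 0 := by linear_combination hlamz_sq
      rcases mul_eq_zero.mp h3 with h | h
      · exact absurd h hne
      · exact sub_eq_zero.mp h
    obtain ⟨U₀, hU₀⟩ : ∃ U₀ : Submodule F U, U₀ = LinearMap.ker lam := ⟨_, rfl⟩
    have hmemU₀ : ∀ x : U, x ∈ U₀ ↔ lam x = 0 := by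
      intro x; rw [hU₀, LinearMap.mem_ker]
    have hU₀alt : (γ.restrict U₀).IsAlt := by
      intro x
      show γ (x : U) (x : U) = 0
      have hx : lam (x : U) = 0 := (hmemU₀ _).mp x.2
      rw [← hlam, hx]; ring
    have hleft : ∀ x : U₀, (∀ y : U₀, γ (x : U) (y : U) = 0) → x = 0 := by
      intro x hx
      apply Subtype.ext
      apply hnd.1
      intro u
      have hu₀ : u - lam u • z ∈ U₀ := by
        rw [hmemU₀, map_sub, map_smul, h1, smul_eq_mul, mul_one, sub_self]
      have h5 := hx ⟨_, hu₀⟩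
      have hxz : γ (x : U) z = 0 := by rw [hsym.eq, hz]; exact (hmemU₀ _).mp x.2
      simp only [map_sub, map_smul, smul_eq_mul, hxz, mul_zero, sub_zero] at h5
      simpa using h5
    have hU₀nd : (γ.restrict U₀).Nondegenerate := by
      refine ⟨?_, ?_⟩
      · intro x hx
        exact hleft x (fun y => hx y)
      · intro y hy
        exact hleft y (fun x => by
          have h6 : γ (x : U) (y : U) = 0 := hy x
          rw [hsym.eq]; exact h6)
    have hdim : Module.finrank F U₀ = 2 * k + 1 := by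
      have hr := LinearMap.finrank_range_add_finrank_ker lam
      have hrange : Module.finrank F (LinearMap.range lam) = 1 := by
        have hsurj : LinearMap.range lam = ⊤ := LinearMap.range_eq_top.mpr
          (fun a => ⟨(a / lam x₀) • x₀, by rw [map_smul, smul_eq_mul, div_mul_cancel₀ _ hlamx₀]⟩)
        rw [hsurj, finrank_top, Module.finrank_self]
      rw [hU₀]
      omega
    have h7 := h4d U₀ hU₀nd hU₀alt
    rw [hdim] at h7
    rcases h7 with ⟨r, hr⟩
    omega
  -- the alternating companion form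
  obtain ⟨γ', hγ'def⟩ : ∃ γ' : LinearMap.BilinForm F U, γ' = γ + LinearMap.BilinForm.linMulLin lam lam :=
    ⟨_, rfl⟩
  have hγ' : ∀ x y, γ' x y = γ x y + lam x * lam y := fun x y => by
    rw [hγ'def, LinearMap.add_apply, LinearMap.add_apply, LinearMap.BilinForm.linMulLin_apply]
  have hγ'alt : γ'.IsAlt := by
    intro x
    rw [hγ', ← hlam x, pow_two]; exact h2 _
  have hγ'symm : ∀ x y, γ' x y = γ' y x := by
    intro x y; rw [hγ', hγ', hsym.eq x y, mul_comm]
  have hγ'nd : γ'.Nondegenerate := by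
    have hleft : ∀ x, (∀ y, γ' x y = 0) → x = 0 := by
      intro x hx
      have hx1 : x = lam x • z := by
        rw [← sub_eq_zero]
        apply hnd.1
        intro y
        have h8 := hx y
        rw [hγ'] at h8
        rw [map_sub, LinearMap.sub_apply, map_smul, LinearMap.smul_apply, hz, smul_eq_mul]
        linear_combination h8 - (lam x * lam y) * h20
      have hlx : lam x = 0 := by
        have h9 := congrArg lam hx1
        rw [map_smul, smul_eq_mul, hlamz, mul_zero] at h9
        exact h9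
      rw [hx1, hlx, zero_smul]
    exact ⟨hleft, fun y hy => hleft y (fun x => by rw [hγ'symm]; exact hy x)⟩
  have hγ'z : ∀ x, γ' z x = lam x := by
    intro x; rw [hγ', hz, hlamz, zero_mul, add_zero]
  -- isometries of `γ` = isometries of `γ'` fixing `z`
  have hiso_iff : ∀ A : U ≃ₗ[F] U, (∀ x y, γ (A x) (A y) = γ x y) ↔
      ((∀ x y, γ' (A x) (A y) = γ' x y) ∧ A z = z) := by
    intro A
    constructor
    · intro hA
      have hlamA : ∀ x, lam (A x) = lam x := by
        intro x; apply hsq_inj; rw [hlam, hlam, hA]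
      have hAz : A z = z := by
        rw [← sub_eq_zero]
        apply hnd.1
        intro y
        obtain ⟨x, rfl⟩ := A.surjective y
        rw [map_sub, LinearMap.sub_apply, hA, hz, hz, hlamA, sub_self]
      exact ⟨fun x y => by rw [hγ', hγ', hA, hlamA, hlamA], hAz⟩
    · rintro ⟨hA, hAz⟩
      have hlamA : ∀ x, lam (A x) = lam x := by
        intro x
        calc lam (A x) = γ' z (A x) := (hγ'z _).symm
          _ = γ' (A z) (A x) := by rw [hAz]
          _ = γ' z x := hA z x
          _ = lam x := hγ'z x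
      intro x y
      have h10 := hA x y
      rw [hγ', hγ', hlamA, hlamA] at h10
      exact add_right_cancel h10
  have hcard1 : Nat.card (IsomSet γ) =
      Nat.card {A : U ≃ₗ[F] U // (∀ x y, γ' (A x) (A y) = γ' x y) ∧ A z = z} :=
    Nat.card_congr (Equiv.subtypeEquivRight hiso_iff)
  -- transitivity (Witt)
  have hline : ∀ w : U, ∀ x ∈ (F ∙ w), ∀ y ∈ (F ∙ w), γ' x y = 0 := by
    intro w x hx y hy
    obtain ⟨a, rfl⟩ := Submodule.mem_span_singleton.mp hx
    obtain ⟨b, rfl⟩ := Submodule.mem_span_singleton.mp hy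
    have hww : γ' w w = 0 := hγ'alt w
    simp only [map_smul, LinearMap.smul_apply, hww, smul_zero]
  have htrans : ∀ u : U, u ≠ 0 → ∃ B : U ≃ₗ[F] U, (∀ x y, γ' (B x) (B y) = γ' x y) ∧ B z = u := by
    intro u hu
    obtain ⟨φ, hφ⟩ : ∃ φ : (F ∙ z) ≃ₗ[F] (F ∙ u), φ = (LinearEquiv.toSpanNonzeroSingleton F U z hz0).symm.trans
        (LinearEquiv.toSpanNonzeroSingleton F U u hu) := ⟨_, rfl⟩
    have hφz : φ ⟨z, Submodule.mem_span_singleton_self z⟩ = ⟨u, Submodule.mem_span_singleton_self u⟩ := by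
      rw [hφ, LinearEquiv.trans_apply]
      have h11 : (LinearEquiv.toSpanNonzeroSingleton F U z hz0).symm ⟨z, Submodule.mem_span_singleton_self z⟩ = 1 := by
        rw [LinearEquiv.symm_apply_eq, LinearEquiv.toSpanNonzeroSingleton_one]
      rw [h11, LinearEquiv.toSpanNonzeroSingleton_one]
    obtain ⟨g, hg1, hg2⟩ := Cfsg.Agent.S0749.result γ' hγ'nd hγ'alt (F ∙ z) (F ∙ u) φ
      (fun x x' => by rw [hline u _ (φ x).2 _ (φ x').2, hline z _ x.2 _ x'.2])
    refine ⟨g, hg1, ?_⟩
    have h12 := hg2 ⟨z, Submodule.mem_span_singleton_self z⟩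
    rw [hφz] at h12
    exact h12
  choose! Bsel hBsel using htrans
  let f : {u : U // u ≠ 0} × {A : U ≃ₗ[F] U // (∀ x y, γ' (A x) (A y) = γ' x y) ∧ A z = z} →
      {A : U ≃ₗ[F] U // ∀ x y, γ' (A x) (A y) = γ' x y} :=
    fun p => ⟨p.2.1.trans (Bsel p.1.1), fun x y => by
      simp only [LinearEquiv.trans_apply]
      rw [(hBsel p.1.1 p.1.2).1, p.2.2.1]⟩
  have hf : ∀ p x, (f p).1 x = Bsel p.1.1 (p.2.1 x) := fun p x => rfl
  have hfinj : Function.Injective f := by
    rintro ⟨⟨u, hu⟩, ⟨C, hC, hCz⟩⟩ ⟨⟨u', hu'⟩, ⟨C', hC', hC'z⟩⟩ h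
    have h1 : ∀ x, Bsel u (C x) = Bsel u' (C' x) := fun x => by
      have h13 := congrArg (fun A => A.1 x) h
      simpa only [hf] using h13
    have huu' : u = u' := by
      have h14 := h1 z
      rw [hCz, hC'z, (hBsel u hu).2, (hBsel u' hu').2] at h14
      exact h14
    subst huu'
    have hCC' : C = C' := by
      ext x
      exact (Bsel u).injective (h1 x)
    subst hCC'
    rfl
  have hfsurj : Function.Surjective f := by
    rintro ⟨A, hA⟩
    have hAz0 : A z ≠ 0 := by
      intro h; exact hz0 (A.injective (by rw [h, map_zero]))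
    obtain ⟨hB1, hB2⟩ := hBsel (A z) hAz0
    refine ⟨(⟨A z, hAz0⟩, ⟨A.trans (Bsel (A z)).symm, ?_, ?_⟩), ?_⟩
    · intro x y
      simp only [LinearEquiv.trans_apply]
      rw [← hB1 ((Bsel (A z)).symm (A x)) ((Bsel (A z)).symm (A y)), LinearEquiv.apply_symm_apply,
        LinearEquiv.apply_symm_apply, hA]
    · simp only [LinearEquiv.trans_apply]
      rw [LinearEquiv.symm_apply_eq, hB2]
    · apply Subtype.ext
      ext x
      rw [hf]
      simp only [LinearEquiv.trans_apply, LinearEquiv.apply_symm_apply]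
  have hcard2 : Nat.card (IsomSet γ') = Nat.card {u : U // u ≠ 0} *
      Nat.card {A : U ≃ₗ[F] U // (∀ x y, γ' (A x) (A y) = γ' x y) ∧ A z = z} := by
    rw [← Nat.card_prod]
    exact (Nat.card_congr (Equiv.ofBijective f ⟨hfinj, hfsurj⟩)).symm
  have hfinU : Finite U := Module.finite_of_finite F
  have hUcard : Nat.card U = q ^ (2 * k + 2) := by
    rw [Module.natCard_eq_pow_finrank (K := F) (V := U), hk, Nat.card_eq_fintype_card, hF]
  have hnz : Nat.card {u : U // u ≠ 0} = q ^ (2 * k + 2) - 1 := by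
    have := Fintype.ofFinite U
    rw [Nat.card_eq_fintype_card, Fintype.card_subtype_compl (fun u : U => u = 0),
      Fintype.card_subtype_eq, ← Nat.card_eq_fintype_card, hUcard]
  have h4 := h4a γ' hγ'nd hγ'alt
  rw [hcard2, hnz] at h4
  have hsp : spOrd q (k + 1) = (q ^ (2 * k + 2) - 1) * (q ^ (2 * k + 1) * spOrd q k) := by
    unfold spOrd
    rw [Finset.prod_range_succ]
    have e1 : (k + 1) ^ 2 = (2 * k + 1) + k ^ 2 := by ring
    have e2 : 2 * (k + 1) = 2 * k + 2 := by ring
    rw [e1, pow_add, e2]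
    ring
  have hq2 : 2 ≤ q := by rw [← hF]; exact Fintype.one_lt_card
  have hpos : 0 < q ^ (2 * k + 2) - 1 := by
    have h15 : 1 < q ^ (2 * k + 2) := Nat.one_lt_pow (by omega) (by omega)
    omega
  rw [hcard1]
  exact Nat.eq_of_mul_eq_mul_left hpos (h4.trans hsp)

end Cfsg.Agent.Lib.Helper60.SpInv
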