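import Mathlib
import Cfsg.Agent.Lib.Helper49.StSUDefs

/-!
K-StSU-M4 (254613, S2546 pack, architect helper49): a monomial upper triangular element of the unitary
group is diagonal.  (Twin of `Helper48.StSpM4`.)
-/

set_option autoImplicit false
set_option linter.unusedSectionVars false
set_option linter.unusedVariables false

namespace Cfsg.Agent.Lib.Helper60.StSU

open Cfsg Cfsg.Agent.Lib.Helper49.StSU

variable {n : ℕ} {F : Type*} [Field F] {q : ℕ}

/-- a permutation of `Fin n` which does not increase any element is the identity -/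
theorem perm_eq_one_of_le (σ : Equiv.Perm (Fin n)) (h : ∀ b, σ b ≤ b) : ∀ b, σ b = b := by
  have hsum : ∑ b, ((σ b : Fin n) : ℕ) = ∑ b, ((b : Fin n) : ℕ) :=
    Equiv.sum_comp σ (fun b : Fin n => (b : ℕ))
  have heq := (Finset.sum_eq_sum_iff_of_le (s := Finset.univ)
    (f := fun b : Fin n => ((σ b : Fin n) : ℕ)) (g := fun b : Fin n => (b : ℕ))
    (fun b _ => h b)).mp hsum
  intro b
  exact Fin.ext (heq b (Finset.mem_univ b))

theorem mem_T_of_monWith (g : GJ n F q) (σ : Equiv.Perm (Fin n)) (h : MonWith n F q g σ)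
    (hg : g ∈ Bsub n F q) : g ∈ Tsub n F q := by
  obtain ⟨hmon, -⟩ := h
  have hB := (mem_Bsub_iff g).1 hg
  have hle : ∀ b, σ b ≤ b := by
    intro b
    by_contra hlt
    have hlt' : b < σ b := not_le.mp hlt
    exact (hmon (σ b) b).2 rfl (hB (σ b) b hlt')
  have hσ := perm_eq_one_of_le σ hle
  rw [mem_Tsub_iff]
  intro a b hab
  by_contra hne
  have := (hmon a b).1 hne
  rw [hσ b] at this
  exact hab this

end Cfsg.Agent.Lib.Helper60.StSU
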