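import Mathlib

set_option autoImplicit false

/-!
# Subgroups of `GL₂(ℤ/2^{n+1})` isomorphic to `A₄`

All such subgroups are conjugate (for `n ≥ 1`).
-/

namespace Cfsg.Agent.Lib.Helper60.A4GL2

/-! ### scalars: the ring `ℤ/2^{n+1}` and its reduction mod `2` -/

section Scalars

variable (n : ℕ)

/-- reduction mod `2` -/
noncomputable def red : ZMod (2 ^ (n + 1)) →+* ZMod 2 :=
  ZMod.castHom (dvd_pow_self 2 (Nat.succ_ne_zero n)) (ZMod 2)

variable {n}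

theorem red_natCast (m : ℕ) : red n (m : ZMod (2 ^ (n + 1))) = (m : ZMod 2) := map_natCast _ m

theorem exists_natCast (a : ZMod (2 ^ (n + 1))) : ∃ m : ℕ, a = (m : ZMod (2 ^ (n + 1))) :=
  ⟨a.val, (ZMod.natCast_zmod_val a).symm⟩

theorem red_two : red n 2 = 0 := by
  have h : red n ((2 : ℕ) : ZMod (2 ^ (n + 1))) = ((2 : ℕ) : ZMod 2) := red_natCast 2
  have h2 : ((2 : ℕ) : ZMod 2) = 0 := by decide
  rw [h2] at h
  exact_mod_cast h

theorem red_two_pow {j : ℕ} (hj : 1 ≤ j) : red n ((2 : ZMod (2 ^ (n + 1))) ^ j) = 0 := by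
  rw [map_pow, red_two, zero_pow (by omega)]

theorem two_pow_eq_zero : (2 : ZMod (2 ^ (n + 1))) ^ (n + 1) = 0 := by
  have h := ZMod.natCast_self (2 ^ (n + 1))
  push_cast at h
  exact h

theorem eq_two_mul_of_red {a : ZMod (2 ^ (n + 1))} (h : red n a = 0) : ∃ a', a = 2 * a' := by
  obtain ⟨m, rfl⟩ := exists_natCast a
  rw [red_natCast, ZMod.natCast_eq_zero_iff] at h
  obtain ⟨m', rfl⟩ := h
  exact ⟨(m' : ZMod (2 ^ (n + 1))), by push_cast; rfl⟩

theorem isUnit_of_red {a : ZMod (2 ^ (n + 1))} (h : red n a = 1) : IsUnit a := by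
  obtain ⟨m, rfl⟩ := exists_natCast a
  rw [red_natCast] at h
  have h2 : ¬ 2 ∣ m := by
    intro hd
    rw [(ZMod.natCast_eq_zero_iff m 2).2 hd] at h
    exact absurd h (by decide)
  have h3 : Nat.Coprime m (2 ^ (n + 1)) := by
    apply Nat.Coprime.pow_right
    exact ((Nat.Prime.coprime_iff_not_dvd Nat.prime_two).2 h2).symm
  exact (ZMod.isUnit_iff_coprime m (2 ^ (n + 1))).2 h3

theorem red_eq_zero_of_mul {j : ℕ} (hj : j ≤ n) {a : ZMod (2 ^ (n + 1))}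
    (h : (2 : ZMod (2 ^ (n + 1))) ^ j * a = 0) : red n a = 0 := by
  obtain ⟨m, rfl⟩ := exists_natCast a
  rw [red_natCast, ZMod.natCast_eq_zero_iff]
  have h1 : ((2 ^ j * m : ℕ) : ZMod (2 ^ (n + 1))) = 0 := by push_cast; exact h
  rw [ZMod.natCast_eq_zero_iff] at h1
  have h2 : 2 ^ (n + 1) = 2 ^ j * 2 ^ (n + 1 - j) := by
    rw [← pow_add]; congr 1; omega
  rw [h2] at h1
  have h3 : 2 ^ (n + 1 - j) ∣ m := Nat.dvd_of_mul_dvd_mul_left (by positivity) h1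
  exact dvd_trans (dvd_pow_self 2 (by omega)) h3

theorem red_zero_or_one (a : ZMod (2 ^ (n + 1))) : red n a = 0 ∨ red n a = 1 := by
  have h : ∀ z : ZMod 2, z = 0 ∨ z = 1 := by decide
  exact h _

end Scalars

/-! ### matrices -/

section Matrices

/-- `2 × 2` matrices over `ℤ/2^{n+1}` -/
abbrev Mat (n : ℕ) := Matrix (Fin 2) (Fin 2) (ZMod (2 ^ (n + 1)))

/-- `2 × 2` matrices over `𝔽₂` -/
abbrev Mat2 := Matrix (Fin 2) (Fin 2) (ZMod 2)

/-- reduction mod `2` of matrices -/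
noncomputable def Red (n : ℕ) : Mat n →+* Mat2 := (red n).mapMatrix

variable {n : ℕ}

theorem Red_apply (m : Mat n) (i j : Fin 2) : Red n m i j = red n (m i j) := rfl

theorem Red_smul (s : ZMod (2 ^ (n + 1))) (m : Mat n) : Red n (s • m) = red n s • Red n m := by
  ext i j
  simp [Red_apply, Matrix.smul_apply]

theorem eq_two_smul_of_Red {m : Mat n} (h : Red n m = 0) :
    ∃ m' : Mat n, m = (2 : ZMod (2 ^ (n + 1))) • m' := by
  have h1 : ∀ i j, ∃ a', m i j = 2 * a' := fun i j =>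
    eq_two_mul_of_red (by rw [← Red_apply, h]; rfl)
  choose f hf using h1
  exact ⟨Matrix.of f, by ext i j; simp [hf i j]⟩

theorem Red_eq_zero_of_smul {j : ℕ} (hj : j ≤ n) {m : Mat n}
    (h : (2 : ZMod (2 ^ (n + 1))) ^ j • m = 0) : Red n m = 0 := by
  ext a b
  rw [Red_apply]
  apply red_eq_zero_of_mul hj
  have h0 := congrFun (congrFun h a) b
  simpa [Matrix.smul_apply] using h0

theorem smul_eq_of_Red_eq {u u' : Mat n} (h : Red n u = Red n u') :
    (2 : ZMod (2 ^ (n + 1))) ^ n • u = (2 : ZMod (2 ^ (n + 1))) ^ n • u' := by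
  have h1 : Red n (u - u') = 0 := by rw [map_sub, h, sub_self]
  obtain ⟨w, hw⟩ := eq_two_smul_of_Red h1
  have h2 : (2 : ZMod (2 ^ (n + 1))) ^ n • (u - u') = 0 := by
    rw [hw, smul_smul, ← pow_succ, two_pow_eq_zero, zero_smul]
  rw [smul_sub, sub_eq_zero] at h2
  exact h2

/-! identities in an algebra -/

section Identities

variable {R A : Type*} [CommRing R] [Ring A] [Algebra R A]

theorem id_sq (s : R) (u : A) :
    (1 + (2 * s) • u) * (1 + (2 * s) • u) = 1 + (4 * s) • (u + s • (u * u)) := by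
  simp only [mul_add, add_mul, mul_one, one_mul, smul_mul_assoc, mul_smul_comm, smul_add,
    smul_smul]
  module

theorem id_mul (s : R) (u u' : A) :
    (1 + s • u) * (1 + s • u') = 1 + s • (u + u' + s • (u * u')) := by
  simp only [mul_add, add_mul, mul_one, one_mul, smul_mul_assoc, mul_smul_comm, smul_add,
    smul_smul]
  module

theorem id_cube (s : R) (u : A) :
    (1 + s • u) * (1 + s • u) * (1 + s • u)
      = 1 + s • (u + (2 : R) • u + s • ((3 : R) • (u * u) + s • (u * u * u))) := by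
  simp only [mul_add, add_mul, mul_one, one_mul, smul_mul_assoc, mul_smul_comm, smul_add,
    smul_smul, mul_assoc]
  module

theorem id_conj (s : R) (u c c' : A) (hc : c * c' = 1) :
    c * (1 + s • u) * c' = 1 + s • (c * u * c') := by
  simp only [mul_add, add_mul, mul_one, smul_mul_assoc, mul_smul_comm, hc]

end Identities

end Matrices

/-! ### the standard matrices -/

section Standard

variable (n : ℕ)

/-- the companion matrix of `X² + X + 1` -/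
def Cm : Mat n := !![0, -1; 1, -1]

/-- its square (and inverse) -/
def Cm2 : Mat n := !![-1, 1; -1, 0]

/-- the three involutions of `GL₂(𝔽₂)`, lifted -/
def Bm : Fin 3 → Mat n
  | 0 => !![1, 1; 0, 1]
  | 1 => !![0, 1; 1, 0]
  | 2 => !![1, 0; 1, 1]

/-- the three involutions `1 + 2^n B_i` -/
def Tm (i : Fin 3) : Mat n := 1 + (2 : ZMod (2 ^ (n + 1))) ^ n • Bm n i

/-- companion matrix mod 2 -/
def Cb : Mat2 := !![0, 1; 1, 1]

/-- its square -/
def Cb2 : Mat2 := !![1, 1; 1, 0]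

/-- the involutions of `GL₂(𝔽₂)` -/
def Bb : Fin 3 → Mat2
  | 0 => !![1, 1; 0, 1]
  | 1 => !![0, 1; 1, 0]
  | 2 => !![1, 0; 1, 1]

variable {n}

theorem Cm_mul_Cm2 : Cm n * Cm2 n = 1 := by
  rw [Cm, Cm2, Matrix.mul_fin_two, Matrix.one_fin_two]
  congr <;> ring

theorem Cm2_mul_Cm : Cm2 n * Cm n = 1 := by
  rw [Cm, Cm2, Matrix.mul_fin_two, Matrix.one_fin_two]
  congr <;> ring

theorem Cm_mul_Cm : Cm n * Cm n = Cm2 n := by
  rw [Cm, Cm2, Matrix.mul_fin_two]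
  congr <;> ring

theorem Red_of (a b c d : ZMod (2 ^ (n + 1))) :
    Red n !![a, b; c, d] = !![red n a, red n b; red n c, red n d] := by
  ext i j
  fin_cases i <;> fin_cases j <;> rfl

theorem neg_one_zmod_two : (-1 : ZMod 2) = 1 := by decide

theorem Red_Cm : Red n (Cm n) = Cb := by
  rw [Cm, Red_of, Cb]
  simp only [map_neg, map_one, map_zero, neg_one_zmod_two]

theorem Red_Cm2 : Red n (Cm2 n) = Cb2 := by
  rw [Cm2, Red_of, Cb2]
  simp only [map_neg, map_one, map_zero, neg_one_zmod_two]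

theorem Red_Bm (i : Fin 3) : Red n (Bm n i) = Bb i := by
  fin_cases i
  · show Red n !![1, 1; 0, 1] = !![1, 1; 0, 1]
    rw [Red_of]; simp only [map_one, map_zero]
  · show Red n !![0, 1; 1, 0] = !![0, 1; 1, 0]
    rw [Red_of]; simp only [map_one, map_zero]
  · show Red n !![1, 0; 1, 1] = !![1, 0; 1, 1]
    rw [Red_of]; simp only [map_one, map_zero]

/-! facts over `𝔽₂`, by enumeration -/

theorem dec_inv : ∀ t : Mat2, t * t = 1 → t * (Cb * t * Cb2) = Cb2 * t * Cb → t = 1 := by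
  decide

theorem dec_step : ∀ (e : ZMod 2) (u : Mat2), u + e • (u * u) = 0 →
    u + Cb * u * Cb2 - Cb2 * u * Cb = 0 → u = 0 := by
  decide

theorem dec_last : ∀ u : Mat2, u + Cb * u * Cb2 - Cb2 * u * Cb = 0 →
    u = 0 ∨ ∃ i, u = Bb i := by
  decide

theorem dec_three : ∀ x : Mat2, x * x * x = 1 → x ≠ 1 →
    x 1 0 = 1 ∧ (x 0 0 - 1) * (x 1 1 - 1) - x 0 1 * x 1 0 = 1 := by
  decide

end Standard

/-! ### uniqueness of the invariant four-group -/

section FourGroup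

variable {n : ℕ}

/-- consequence of the relation `t t' = t''` for `t = 1 + 2^j u` -/
theorem rel_mod_two {j : ℕ} (hj1 : 1 ≤ j) (hjn : j ≤ n) {t u : Mat n}
    (ht : t = 1 + (2 : ZMod (2 ^ (n + 1))) ^ j • u)
    (h3 : t * (Cm n * t * Cm2 n) = Cm2 n * t * Cm n) :
    Red n u + Cb * Red n u * Cb2 - Cb2 * Red n u * Cb = 0 := by
  have e1 : Cm n * t * Cm2 n = 1 + (2 : ZMod (2 ^ (n + 1))) ^ j • (Cm n * u * Cm2 n) := by
    rw [ht]; exact id_conj _ _ _ _ Cm_mul_Cm2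
  have e2 : Cm2 n * t * Cm n = 1 + (2 : ZMod (2 ^ (n + 1))) ^ j • (Cm2 n * u * Cm n) := by
    rw [ht]; exact id_conj _ _ _ _ Cm2_mul_Cm
  have e3 : t * (Cm n * t * Cm2 n) = 1 + (2 : ZMod (2 ^ (n + 1))) ^ j •
      (u + Cm n * u * Cm2 n + (2 : ZMod (2 ^ (n + 1))) ^ j • (u * (Cm n * u * Cm2 n))) := by
    rw [e1, ht]; exact id_mul _ _ _
  have e4 : (2 : ZMod (2 ^ (n + 1))) ^ j •
      (u + Cm n * u * Cm2 n + (2 : ZMod (2 ^ (n + 1))) ^ j • (u * (Cm n * u * Cm2 n))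
        - Cm2 n * u * Cm n) = 0 := by
    have h0 : (1 : Mat n) + (2 : ZMod (2 ^ (n + 1))) ^ j •
      (u + Cm n * u * Cm2 n + (2 : ZMod (2 ^ (n + 1))) ^ j • (u * (Cm n * u * Cm2 n)))
        = 1 + (2 : ZMod (2 ^ (n + 1))) ^ j • (Cm2 n * u * Cm n) := by
      rw [← e3, ← e2, h3]
    have h1 := add_left_cancel h0
    rw [smul_sub, h1, sub_self]
  have e5 := Red_eq_zero_of_smul hjn e4
  rw [map_sub, map_add, map_add, Red_smul, red_two_pow hj1, zero_smul, add_zero, map_mul,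
    map_mul, map_mul, map_mul, Red_Cm, Red_Cm2] at e5
  exact e5

/-- consequence of `t² = 1` for `t = 1 + 2^{i+1} u` -/
theorem sq_mod_two {i : ℕ} (hin : i + 2 ≤ n) {t u : Mat n}
    (ht : t = 1 + (2 : ZMod (2 ^ (n + 1))) ^ (i + 1) • u) (h1 : t * t = 1) :
    Red n u + red n ((2 : ZMod (2 ^ (n + 1))) ^ i) • (Red n u * Red n u) = 0 := by
  have e0 : (2 : ZMod (2 ^ (n + 1))) ^ (i + 1) = 2 * (2 : ZMod (2 ^ (n + 1))) ^ i := pow_succ' 2 i
  have e1 : t * t = 1 + (4 * (2 : ZMod (2 ^ (n + 1))) ^ i) •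
      (u + (2 : ZMod (2 ^ (n + 1))) ^ i • (u * u)) := by
    rw [ht, e0]; exact id_sq _ _
  have e2 : (4 * (2 : ZMod (2 ^ (n + 1))) ^ i) = (2 : ZMod (2 ^ (n + 1))) ^ (i + 2) := by
    rw [pow_add]; ring
  have e3 : (2 : ZMod (2 ^ (n + 1))) ^ (i + 2) •
      (u + (2 : ZMod (2 ^ (n + 1))) ^ i • (u * u)) = 0 := by
    have h0 : (1 : Mat n) + (2 : ZMod (2 ^ (n + 1))) ^ (i + 2) •
      (u + (2 : ZMod (2 ^ (n + 1))) ^ i • (u * u)) = 1 + 0 := by
      rw [← e2, ← e1, h1, add_zero]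
    exact add_left_cancel h0
  have e4 := Red_eq_zero_of_smul hin e3
  rw [map_add, Red_smul, map_mul] at e4
  exact e4

theorem exists_filtration {t : Mat n} (h1 : t * t = 1)
    (h3 : t * (Cm n * t * Cm2 n) = Cm2 n * t * Cm n) :
    ∀ j, 1 ≤ j → j ≤ n → ∃ u : Mat n, t = 1 + (2 : ZMod (2 ^ (n + 1))) ^ j • u := by
  intro j hj
  induction j, hj using Nat.le_induction with
  | base =>
    intro _
    have hR : Red n t = 1 := by
      apply dec_inv
      · rw [← map_mul, h1, map_one]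
      · rw [← Red_Cm (n := n), ← Red_Cm2 (n := n), ← map_mul, ← map_mul, ← map_mul, h3,
          map_mul, map_mul]
    have h0 : Red n (t - 1) = 0 := by rw [map_sub, hR, map_one, sub_self]
    obtain ⟨u, hu⟩ := eq_two_smul_of_Red h0
    refine ⟨u, ?_⟩
    rw [pow_one, ← hu]; abel
  | succ j hj ih =>
    intro hjn
    obtain ⟨u, hu⟩ := ih (by omega)
    obtain ⟨i, rfl⟩ : ∃ i, j = i + 1 := ⟨j - 1, by omega⟩
    have hs := sq_mod_two (by omega) hu h1
    have hr := rel_mod_two (by omega) (by omega) hu h3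
    have hu0 : Red n u = 0 := dec_step _ _ hs hr
    obtain ⟨u₁, hu₁⟩ := eq_two_smul_of_Red hu0
    refine ⟨u₁, ?_⟩
    rw [hu, hu₁, smul_smul, ← pow_succ]

/-- the invariant four-group is unique: its involutions are the `Tm i` -/
theorem eq_Tm (hn : 1 ≤ n) {t : Mat n} (h1 : t * t = 1) (h2 : t ≠ 1)
    (h3 : t * (Cm n * t * Cm2 n) = Cm2 n * t * Cm n) : ∃ i, t = Tm n i := by
  obtain ⟨u, hu⟩ := exists_filtration h1 h3 n hn le_rfl
  have hr := rel_mod_two hn le_rfl hu h3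
  rcases dec_last _ hr with h0 | ⟨i, hi⟩
  · exfalso
    apply h2
    obtain ⟨u₁, hu₁⟩ := eq_two_smul_of_Red h0
    rw [hu, hu₁, smul_smul, ← pow_succ, two_pow_eq_zero, zero_smul, add_zero]
  · refine ⟨i, ?_⟩
    rw [← Red_Bm (n := n) i] at hi
    rw [hu, Tm, smul_eq_of_Red_eq hi]

end FourGroup

/-! ### elements of order three -/

section OrderThree

variable {n : ℕ}

theorem cube_filtration {x : Mat n} (h3 : x * x * x = 1) (hR : Red n x = 1) :
    ∀ j, 1 ≤ j → j ≤ n + 1 → ∃ u : Mat n, x = 1 + (2 : ZMod (2 ^ (n + 1))) ^ j • u := by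
  intro j hj
  induction j, hj using Nat.le_induction with
  | base =>
    intro _
    have h0 : Red n (x - 1) = 0 := by rw [map_sub, hR, map_one, sub_self]
    obtain ⟨u, hu⟩ := eq_two_smul_of_Red h0
    refine ⟨u, ?_⟩
    rw [pow_one, ← hu]; abel
  | succ j hj ih =>
    intro hjn
    obtain ⟨u, hu⟩ := ih (by omega)
    have e1 : x * x * x = 1 + (2 : ZMod (2 ^ (n + 1))) ^ j • (u + (2 : ZMod (2 ^ (n + 1))) • u +
        (2 : ZMod (2 ^ (n + 1))) ^ j • ((3 : ZMod (2 ^ (n + 1))) • (u * u) +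
          (2 : ZMod (2 ^ (n + 1))) ^ j • (u * u * u))) := by
      rw [hu]; exact id_cube _ _
    have e2 : (2 : ZMod (2 ^ (n + 1))) ^ j • (u + (2 : ZMod (2 ^ (n + 1))) • u +
        (2 : ZMod (2 ^ (n + 1))) ^ j • ((3 : ZMod (2 ^ (n + 1))) • (u * u) +
          (2 : ZMod (2 ^ (n + 1))) ^ j • (u * u * u))) = 0 := by
      have h0 : (1 : Mat n) + (2 : ZMod (2 ^ (n + 1))) ^ j • (u + (2 : ZMod (2 ^ (n + 1))) • u +
        (2 : ZMod (2 ^ (n + 1))) ^ j • ((3 : ZMod (2 ^ (n + 1))) • (u * u) +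
          (2 : ZMod (2 ^ (n + 1))) ^ j • (u * u * u))) = 1 + 0 := by
        rw [← e1, h3, add_zero]
      exact add_left_cancel h0
    have e3 := Red_eq_zero_of_smul (by omega : j ≤ n) e2
    rw [map_add, map_add, Red_smul, Red_smul, red_two, zero_smul, red_two_pow hj, zero_smul,
      add_zero, add_zero] at e3
    obtain ⟨u₁, hu₁⟩ := eq_two_smul_of_Red e3
    refine ⟨u₁, ?_⟩
    rw [hu, hu₁, smul_smul, ← pow_succ]

theorem Red_ne_one {x : Mat n} (h3 : x * x * x = 1) (h1 : x ≠ 1) : Red n x ≠ 1 := by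
  intro hR
  apply h1
  obtain ⟨u, hu⟩ := cube_filtration h3 hR (n + 1) (by omega) le_rfl
  rw [hu, two_pow_eq_zero, zero_smul, add_zero]

theorem mat_ext {R : Type*} {a b c d a' b' c' d' : R} (h1 : a = a') (h2 : b = b') (h3 : c = c')
    (h4 : d = d') : (!![a, b; c, d] : Matrix (Fin 2) (Fin 2) R) = !![a', b'; c', d'] := by
  subst h1 h2 h3 h4; rfl

theorem conj_explicit {a b c d : ZMod (2 ^ (n + 1))} (hc : IsUnit c)
    (h00 : a * a + b * c + a + 1 = 0) (h10 : c * a + d * c + c = 0) :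
    ∃ P P' : Mat n, P * P' = 1 ∧ P' * P = 1 ∧ P' * !![a, b; c, d] * P = Cm n := by
  obtain ⟨ci, hci⟩ := hc.exists_right_inv
  have hP1 : (!![1, a; 0, c] : Mat n) * !![1, -(a * ci); 0, ci] = 1 := by
    rw [Matrix.mul_fin_two, Matrix.one_fin_two]
    apply mat_ext
    · ring
    · ring
    · ring
    · linear_combination hci
  have hP2 : (!![1, -(a * ci); 0, ci] : Mat n) * !![1, a; 0, c] = 1 := by
    rw [Matrix.mul_fin_two, Matrix.one_fin_two]
    apply mat_ext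
    · ring
    · linear_combination (-a) * hci
    · ring
    · linear_combination hci
  have hxP : (!![a, b; c, d] : Mat n) * !![1, a; 0, c] = !![1, a; 0, c] * Cm n := by
    rw [Cm, Matrix.mul_fin_two, Matrix.mul_fin_two]
    apply mat_ext
    · ring
    · linear_combination h00
    · ring
    · linear_combination h10
  refine ⟨!![1, a; 0, c], !![1, -(a * ci); 0, ci], hP1, hP2, ?_⟩
  rw [mul_assoc, hxP, ← mul_assoc, hP2, one_mul]

/-- every element of order three is conjugate to the companion matrix -/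
theorem conj_to_Cm {x : Mat n} (h3 : x * x * x = 1) (h1 : x ≠ 1) :
    ∃ P P' : Mat n, P * P' = 1 ∧ P' * P = 1 ∧ P' * x * P = Cm n := by
  have hR := Red_ne_one h3 h1
  have hR3 : Red n x * Red n x * Red n x = 1 := by rw [← map_mul, ← map_mul, h3, map_one]
  obtain ⟨hc, hdet⟩ := dec_three _ hR3 hR
  have hc' : IsUnit (x 1 0) := isUnit_of_red hc
  have hdet' : IsUnit ((x 0 0 - 1) * (x 1 1 - 1) - x 0 1 * x 1 0) := by
    apply isUnit_of_red
    rw [map_sub, map_mul, map_mul, map_sub, map_sub, map_one]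
    exact hdet
  have hunit : IsUnit (x - 1) := by
    rw [Matrix.isUnit_iff_isUnit_det, Matrix.det_fin_two]
    have e : (x - 1) 0 0 * (x - 1) 1 1 - (x - 1) 0 1 * (x - 1) 1 0
        = (x 0 0 - 1) * (x 1 1 - 1) - x 0 1 * x 1 0 := by
      simp [Matrix.sub_apply]
    rw [e]; exact hdet'
  have hquad : x * x + x + 1 = 0 := by
    have h0 : (x - 1) * (x * x + x + 1) = 0 := by
      have h00 : (x - 1) * (x * x + x + 1) = x * x * x - 1 := by noncomm_ring
      rw [h00, h3, sub_self]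
    exact (hunit.mul_right_eq_zero).1 h0
  have h00 : x 0 0 * x 0 0 + x 0 1 * x 1 0 + x 0 0 + 1 = 0 := by
    have h0 := congrFun (congrFun hquad 0) 0
    simpa [Matrix.mul_apply, Fin.sum_univ_two, Matrix.add_apply] using h0
  have h10 : x 1 0 * x 0 0 + x 1 1 * x 1 0 + x 1 0 = 0 := by
    have h0 := congrFun (congrFun hquad 1) 0
    simpa [Matrix.mul_apply, Fin.sum_univ_two, Matrix.add_apply] using h0
  have hx := Matrix.eta_fin_two x
  rw [hx]
  exact conj_explicit hc' h00 h10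

end OrderThree

/-! ### generators of a group isomorphic to `A₄` -/

section AltFour

open Equiv

/-- a three-cycle -/
def x₀ : alternatingGroup (Fin 4) :=
  ⟨swap 0 1 * swap 1 2, Equiv.Perm.mem_alternatingGroup.2 (by decide)⟩

/-- a double transposition -/
def t₀ : alternatingGroup (Fin 4) :=
  ⟨swap 0 1 * swap 2 3, Equiv.Perm.mem_alternatingGroup.2 (by decide)⟩

theorem rels₀ : x₀ * x₀ * x₀ = 1 ∧ x₀ ≠ 1 ∧ t₀ * t₀ = 1 ∧ t₀ ≠ 1 ∧
    t₀ * (x₀ * t₀ * x₀⁻¹) = x₀⁻¹ * t₀ * x₀ := by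
  decide

theorem gen₀ : ∀ g : alternatingGroup (Fin 4), ∃ i : Fin 3, ∃ j : Fin 2, ∃ l : Fin 2,
    g = x₀ ^ i.val * t₀ ^ j.val * (x₀ * t₀ * x₀⁻¹) ^ l.val := by
  decide

theorem exists_gens {G : Type*} [Group G] (H : Subgroup G)
    (e : ↥H ≃* ↥(alternatingGroup (Fin 4))) :
    ∃ x t : G, x * x * x = 1 ∧ x ≠ 1 ∧ t * t = 1 ∧ t ≠ 1 ∧
      t * (x * t * x⁻¹) = x⁻¹ * t * x ∧ H = Subgroup.closure {x, t} := by
  obtain ⟨r1, r2, r3, r4, r5⟩ := rels₀
  have hX3 : e.symm x₀ * e.symm x₀ * e.symm x₀ = 1 := by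
    rw [← map_mul, ← map_mul, r1, map_one]
  have hX1 : e.symm x₀ ≠ 1 := by
    intro h; exact r2 ((MulEquiv.map_eq_one_iff e.symm).1 h)
  have hT2 : e.symm t₀ * e.symm t₀ = 1 := by rw [← map_mul, r3, map_one]
  have hT1 : e.symm t₀ ≠ 1 := by
    intro h; exact r4 ((MulEquiv.map_eq_one_iff e.symm).1 h)
  have hrel : e.symm t₀ * (e.symm x₀ * e.symm t₀ * (e.symm x₀)⁻¹)
      = (e.symm x₀)⁻¹ * e.symm t₀ * e.symm x₀ := by
    rw [← map_inv, ← map_mul, ← map_mul, ← map_mul, ← map_mul, ← map_mul, r5]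
  refine ⟨((e.symm x₀ : H) : G), ((e.symm t₀ : H) : G), ?_, ?_, ?_, ?_, ?_, ?_⟩
  · have h0 := congrArg Subtype.val hX3
    simpa using h0
  · intro h; exact hX1 (Subtype.ext h)
  · have h0 := congrArg Subtype.val hT2
    simpa using h0
  · intro h; exact hT1 (Subtype.ext h)
  · have h0 := congrArg Subtype.val hrel
    simpa using h0
  · apply le_antisymm
    · intro h hh
      obtain ⟨i, j, l, hijl⟩ := gen₀ (e ⟨h, hh⟩)
      have h1 : (⟨h, hh⟩ : H) = e.symm x₀ ^ i.val * e.symm t₀ ^ j.val *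
          (e.symm x₀ * e.symm t₀ * (e.symm x₀)⁻¹) ^ l.val := by
        rw [← map_inv, ← map_mul, ← map_mul, ← map_pow, ← map_pow, ← map_pow, ← map_mul,
          ← map_mul, ← hijl, MulEquiv.symm_apply_apply]
      have h2 : h = ((e.symm x₀ : H) : G) ^ i.val * ((e.symm t₀ : H) : G) ^ j.val *
          (((e.symm x₀ : H) : G) * ((e.symm t₀ : H) : G) * ((e.symm x₀ : H) : G)⁻¹) ^ l.val := by
        have h0 := congrArg Subtype.val h1
        simpa using h0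
      rw [h2]
      have hx : ((e.symm x₀ : H) : G) ∈ Subgroup.closure
          ({((e.symm x₀ : H) : G), ((e.symm t₀ : H) : G)} : Set G) :=
        Subgroup.subset_closure (Set.mem_insert _ _)
      have ht : ((e.symm t₀ : H) : G) ∈ Subgroup.closure
          ({((e.symm x₀ : H) : G), ((e.symm t₀ : H) : G)} : Set G) :=
        Subgroup.subset_closure (Set.mem_insert_of_mem _ rfl)
      exact Subgroup.mul_mem _ (Subgroup.mul_mem _ (Subgroup.pow_mem _ hx _)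
        (Subgroup.pow_mem _ ht _)) (Subgroup.pow_mem _ (Subgroup.mul_mem _
          (Subgroup.mul_mem _ hx ht) (Subgroup.inv_mem _ hx)) _)
    · rw [Subgroup.closure_le]
      intro y hy
      rcases hy with rfl | rfl
      · exact (e.symm x₀).2
      · exact (e.symm t₀).2

end AltFour

/-! ### conjugacy -/

section Conj

variable {n : ℕ}

/-- the companion matrix as an element of `GL₂` -/
def Cgl (n : ℕ) : GL (Fin 2) (ZMod (2 ^ (n + 1))) := ⟨Cm n, Cm2 n, Cm_mul_Cm2, Cm2_mul_Cm⟩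

theorem dec_rot1 : Cb2 * Bb 2 * Cb = Bb 0 := by decide

theorem dec_rot2 : Cb * Bb 1 * Cb2 = Bb 0 := by decide

theorem rot1 : Cm2 n * Tm n 2 * Cm n = Tm n 0 := by
  rw [Tm, Tm, id_conj _ _ _ _ Cm2_mul_Cm]
  congr 1
  apply smul_eq_of_Red_eq
  rw [map_mul, map_mul, Red_Cm, Red_Cm2, Red_Bm, Red_Bm, dec_rot1]

theorem rot2 : Cm n * Tm n 1 * Cm2 n = Tm n 0 := by
  rw [Tm, Tm, id_conj _ _ _ _ Cm_mul_Cm2]
  congr 1
  apply smul_eq_of_Red_eq
  rw [map_mul, map_mul, Red_Cm, Red_Cm2, Red_Bm, Red_Bm, dec_rot2]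

/-- a pair `(x, t)` generating a copy of `A₄` can be conjugated to the standard pair -/
theorem conj_pair (hn : 1 ≤ n) {x t : GL (Fin 2) (ZMod (2 ^ (n + 1)))} (hx3 : x * x * x = 1)
    (hx1 : x ≠ 1) (ht2 : t * t = 1) (ht1 : t ≠ 1) (hrel : t * (x * t * x⁻¹) = x⁻¹ * t * x) :
    ∃ g : GL (Fin 2) (ZMod (2 ^ (n + 1))), g * x * g⁻¹ = Cgl n ∧
      ((g * t * g⁻¹ : GL (Fin 2) (ZMod (2 ^ (n + 1)))) : Mat n) = Tm n 0 := by
  have hx3' : (x : Mat n) * (x : Mat n) * (x : Mat n) = 1 := by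
    rw [← Units.val_mul, ← Units.val_mul, hx3, Units.val_one]
  have hx1' : (x : Mat n) ≠ 1 := fun h => hx1 (Units.ext h)
  obtain ⟨P, P', hPP', hP'P, hconj⟩ := conj_to_Cm hx3' hx1'
  let g : GL (Fin 2) (ZMod (2 ^ (n + 1))) := ⟨P', P, hP'P, hPP'⟩
  have hgx : g * x * g⁻¹ = Cgl n := by
    apply Units.ext
    show P' * (x : Mat n) * P = Cm n
    exact hconj
  -- the conjugated involution
  have h1 : (g * t * g⁻¹) * (g * t * g⁻¹) = 1 := by
    calc (g * t * g⁻¹) * (g * t * g⁻¹) = g * (t * t) * g⁻¹ := by group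
      _ = 1 := by rw [ht2]; group
  have h2 : g * t * g⁻¹ ≠ 1 := by
    intro h
    apply ht1
    calc t = g⁻¹ * (g * t * g⁻¹) * g := by group
      _ = 1 := by rw [h]; group
  have h3 : (g * t * g⁻¹) * (Cgl n * (g * t * g⁻¹) * (Cgl n)⁻¹)
      = (Cgl n)⁻¹ * (g * t * g⁻¹) * Cgl n := by
    rw [← hgx]
    calc (g * t * g⁻¹) * (g * x * g⁻¹ * (g * t * g⁻¹) * (g * x * g⁻¹)⁻¹)
        = g * (t * (x * t * x⁻¹)) * g⁻¹ := by group
      _ = g * (x⁻¹ * t * x) * g⁻¹ := by rw [hrel]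
      _ = (g * x * g⁻¹)⁻¹ * (g * t * g⁻¹) * (g * x * g⁻¹) := by group
  have h1' : ((g * t * g⁻¹ : GL (Fin 2) (ZMod (2 ^ (n + 1)))) : Mat n)
      * ((g * t * g⁻¹ : GL (Fin 2) (ZMod (2 ^ (n + 1)))) : Mat n) = 1 := by
    rw [← Units.val_mul, h1, Units.val_one]
  have h2' : ((g * t * g⁻¹ : GL (Fin 2) (ZMod (2 ^ (n + 1)))) : Mat n) ≠ 1 :=
    fun h => h2 (Units.ext h)
  have h3' : ((g * t * g⁻¹ : GL (Fin 2) (ZMod (2 ^ (n + 1)))) : Mat n)
      * (Cm n * ((g * t * g⁻¹ : GL (Fin 2) (ZMod (2 ^ (n + 1)))) : Mat n) * Cm2 n)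
      = Cm2 n * ((g * t * g⁻¹ : GL (Fin 2) (ZMod (2 ^ (n + 1)))) : Mat n) * Cm n := by
    have h0 := congrArg Units.val h3
    exact h0
  obtain ⟨i, hi⟩ := eq_Tm hn h1' h2' h3'
  fin_cases i
  · exact ⟨g, hgx, hi⟩
  · refine ⟨Cgl n * g, ?_, ?_⟩
    · calc Cgl n * g * x * (Cgl n * g)⁻¹ = Cgl n * (g * x * g⁻¹) * (Cgl n)⁻¹ := by group
        _ = Cgl n := by rw [hgx]; group
    · have e : Cgl n * g * t * (Cgl n * g)⁻¹ = Cgl n * (g * t * g⁻¹) * (Cgl n)⁻¹ := by group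
      rw [e]
      show Cm n * ((g * t * g⁻¹ : GL (Fin 2) (ZMod (2 ^ (n + 1)))) : Mat n) * Cm2 n = Tm n 0
      rw [hi]
      exact rot2
  · refine ⟨(Cgl n)⁻¹ * g, ?_, ?_⟩
    · calc (Cgl n)⁻¹ * g * x * ((Cgl n)⁻¹ * g)⁻¹ = (Cgl n)⁻¹ * (g * x * g⁻¹) * Cgl n := by group
        _ = Cgl n := by rw [hgx]; group
    · have e : (Cgl n)⁻¹ * g * t * ((Cgl n)⁻¹ * g)⁻¹ = (Cgl n)⁻¹ * (g * t * g⁻¹) * Cgl n := by
        group
      rw [e]
      show Cm2 n * ((g * t * g⁻¹ : GL (Fin 2) (ZMod (2 ^ (n + 1)))) : Mat n) * Cm n = Tm n 0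
      rw [hi]
      exact rot1

theorem mem_map_conj {G : Type*} [Group G] (H : Subgroup G) (g y : G) :
    y ∈ H.map (MulAut.conj g).toMonoidHom ↔ g⁻¹ * y * g ∈ H := by
  rw [Subgroup.mem_map_equiv, MulAut.conj_symm_apply]

/-- every copy of `A₄` is conjugate to a standard one -/
theorem conj_to_std (hn : 1 ≤ n) (H : Subgroup (GL (Fin 2) (ZMod (2 ^ (n + 1)))))
    (h : Nonempty (↥H ≃* ↥(alternatingGroup (Fin 4)))) :
    ∃ g t' : GL (Fin 2) (ZMod (2 ^ (n + 1))), (t' : Mat n) = Tm n 0 ∧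
      H.map (MulAut.conj g).toMonoidHom = Subgroup.closure {Cgl n, t'} := by
  obtain ⟨e⟩ := h
  obtain ⟨x, t, hx3, hx1, ht2, ht1, hrel, hH⟩ := exists_gens H e
  obtain ⟨g, hgx, hgt⟩ := conj_pair hn hx3 hx1 ht2 ht1 hrel
  refine ⟨g, g * t * g⁻¹, hgt, ?_⟩
  rw [hH, MonoidHom.map_closure, Set.image_pair]
  show Subgroup.closure {g * x * g⁻¹, g * t * g⁻¹} = _
  rw [hgx]

/-- any two subgroups of `GL₂(ℤ/2^{n+1})` isomorphic to `A₄` are conjugate -/
theorem conj_of_alt_four (hn : 1 ≤ n) (H₁ H₂ : Subgroup (GL (Fin 2) (ZMod (2 ^ (n + 1)))))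
    (h₁ : Nonempty (↥H₁ ≃* ↥(alternatingGroup (Fin 4))))
    (h₂ : Nonempty (↥H₂ ≃* ↥(alternatingGroup (Fin 4)))) :
    ∃ g : GL (Fin 2) (ZMod (2 ^ (n + 1))), H₂ = H₁.map (MulAut.conj g).toMonoidHom := by
  obtain ⟨g₁, t₁, ht₁, hg₁⟩ := conj_to_std hn H₁ h₁
  obtain ⟨g₂, t₂, ht₂, hg₂⟩ := conj_to_std hn H₂ h₂
  have ht : t₁ = t₂ := Units.ext (ht₁.trans ht₂.symm)
  have hE : H₁.map (MulAut.conj g₁).toMonoidHom = H₂.map (MulAut.conj g₂).toMonoidHom := by
    rw [hg₁, hg₂, ht]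
  refine ⟨g₂⁻¹ * g₁, ?_⟩
  ext y
  rw [mem_map_conj]
  have e1 : y ∈ H₂ ↔ g₂ * y * g₂⁻¹ ∈ H₂.map (MulAut.conj g₂).toMonoidHom := by
    rw [mem_map_conj]
    have e : g₂⁻¹ * (g₂ * y * g₂⁻¹) * g₂ = y := by group
    rw [e]
  rw [e1, ← hE, mem_map_conj]
  have e : g₁⁻¹ * (g₂ * y * g₂⁻¹) * g₁ = (g₂⁻¹ * g₁)⁻¹ * y * (g₂⁻¹ * g₁) := by group
  rw [e]

end Conj

end Cfsg.Agent.Lib.Helper60.A4GL2
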