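import Mathlib
import Cfsg.Agent.Lib.Helper60.AICBasic

/-!
# S2202: the induction (Part E)

The keystones of the other parts enter as hypotheses `kB3`, `kC2`, `kD`.
-/

set_option autoImplicit false
set_option linter.unusedSectionVars false

namespace Cfsg.Agent.Lib.Helper60.AIC

open Subgroup Cfsg Cfsg.Agent.Lib.Helper41 Cfsg.Agent.Lib.Helper28

universe u

/-- the hypothesis passes to subgroups -/
theorem hyp_subgroup {G : Type u} [Group G] (hG : Hyp G) (K : Subgroup G) : Hyp ↥K := by
  intro t ht x hx y hy
  apply Subtype.ext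
  have ht' : orderOf (t : G) = 2 := by rw [Subgroup.orderOf_coe]; exact ht
  apply hG (t : G) ht' (x : G) _ (y : G) _
  · rw [mem_centralizer_singleton]
    have := mem_centralizer_singleton.1 hx
    exact congrArg Subtype.val this
  · rw [mem_centralizer_singleton]
    have := mem_centralizer_singleton.1 hy
    exact congrArg Subtype.val this

/-- the conclusion follows from its version at one Sylow 2-subgroup -/
theorem concl_of_sylow {G : Type u} [Group G] [Finite G] (hG : Hyp G) (S : Sylow 2 G)
    (h : ∀ c ∈ centralizer ((S : Subgroup G) : Set G), c ^ 2 ∈ center G) : Concl G := by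
  intro t ht c hc
  obtain ⟨P, hP⟩ := IsPGroup.exists_le_sylow (isPGroup_zpowers_of_invol ht)
  obtain ⟨g, hg⟩ := MulAction.exists_smul_eq G S P
  have htP : t ∈ lc g (S : Subgroup G) := by
    have h1 : t ∈ (P : Subgroup G) := hP (mem_zpowers t)
    rw [← hg] at h1
    exact h1
  have hzS : g⁻¹ * t * g ∈ (S : Subgroup G) := mem_lc.1 htP
  have hz : orderOf (g⁻¹ * t * g) = 2 := by
    have := orderOf_conj_eq g⁻¹ t
    rw [inv_inv] at this
    rw [this, ht]
  have hCz := centralizer_eq hG S hz hzS
  have htz : t = g * (g⁻¹ * t * g) * g⁻¹ := by group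
  have hCt : centralizer ({t} : Set G) = lc g (centralizer ((S : Subgroup G) : Set G)) := by
    rw [htz, centralizer_conj, hCz]
  rw [hCt] at hc
  have hc' : g⁻¹ * c * g ∈ centralizer ((S : Subgroup G) : Set G) := mem_lc.1 hc
  have h1 := h _ hc'
  have h2 : (g⁻¹ * c * g) ^ 2 = g⁻¹ * c ^ 2 * g := by
    have := conj_pow (a := g⁻¹) (b := c) (i := 2)
    rw [inv_inv] at this
    exact this
  rw [h2] at h1
  have h3 : g * (g⁻¹ * c ^ 2 * g) * g⁻¹ ∈ center G :=
    (inferInstance : (center G).Normal).conj_mem _ h1 g
  have h4 : g * (g⁻¹ * c ^ 2 * g) * g⁻¹ = c ^ 2 := by group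
  rwa [h4] at h3

/-- **The induction**: in a finite group in which all involution centralizers are abelian and a
Sylow 2-subgroup is neither cyclic nor normal, the squares of the elements of the involution
centralizers are central. -/
theorem concl_of_hyp_aux
    (kB3 : ∀ (G : Type u) [Group G] [Finite G], Hyp G → Loc G → ∀ S : Sylow 2 G,
      ¬ IsCyclic (S : Subgroup G) → ¬ (S : Subgroup G).Normal →
      ∀ c ∈ centralizer ((S : Subgroup G) : Set G), c ^ 2 = 1)
    (kC2 : ∀ (G : Type u) [Group G] [Finite G], Hyp G → ∀ S : Sylow 2 G,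
      ¬ IsCyclic (S : Subgroup G) → ¬ (S : Subgroup G).Normal →
      (normalizer ((S : Subgroup G) : Set G)).normalCore = ⊥ →
      (∀ K : Subgroup G, K ≠ ⊤ → (S : Subgroup G) ≤ K →
        ¬ ((S : Subgroup G).subgroupOf K).Normal → Concl ↥K) →
      ∀ a : G, a ∈ centralizer ((S : Subgroup G) : Set G) → Odd (orderOf a) → a ≠ 1 →
      ¬ centralizer ({a} : Set G) ≤ normalizer ((S : Subgroup G) : Set G) → False)
    (kD : ∀ (G : Type u) [Group G] [Finite G], Hyp G → ∀ S : Sylow 2 G,
      ¬ IsCyclic (S : Subgroup G) → ¬ (S : Subgroup G).Normal →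
      (normalizer ((S : Subgroup G) : Set G)).normalCore ≠ ⊥ →
      Hyp (G ⧸ (normalizer ((S : Subgroup G) : Set G)).normalCore) ∧
      (∃ T : Sylow 2 (G ⧸ (normalizer ((S : Subgroup G) : Set G)).normalCore),
        ¬ IsCyclic (T : Subgroup (G ⧸ (normalizer ((S : Subgroup G) : Set G)).normalCore)) ∧
        ¬ (T : Subgroup (G ⧸ (normalizer ((S : Subgroup G) : Set G)).normalCore)).Normal) ∧
      Nat.card (G ⧸ (normalizer ((S : Subgroup G) : Set G)).normalCore) < Nat.card G ∧
      (Concl (G ⧸ (normalizer ((S : Subgroup G) : Set G)).normalCore) → Concl G)) :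
    ∀ n : ℕ, ∀ (G : Type u) [Group G] [Finite G], Nat.card G = n → Hyp G → ∀ S : Sylow 2 G,
      ¬ IsCyclic (S : Subgroup G) → ¬ (S : Subgroup G).Normal → Concl G := by
  intro n
  induction n using Nat.strong_induction_on with
  | _ n ih =>
    intro G _ _ hn hG S hnc hnn
    have hS : (S : Subgroup G) ≠ ⊥ := by
      intro h
      apply hnc
      rw [h]
      infer_instance
    by_cases hcore : (normalizer ((S : Subgroup G) : Set G)).normalCore = ⊥
    · -- the induction hypothesis for subgroups
      have IH : ∀ K : Subgroup G, K ≠ ⊤ → (S : Subgroup G) ≤ K →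
          ¬ ((S : Subgroup G).subgroupOf K).Normal → Concl ↥K := by
        intro K hK hSK hnK
        have hlt : Nat.card ↥K < n := by
          rw [← hn]
          have h1 := Subgroup.card_le_card_group K
          rcases Nat.lt_or_ge (Nat.card ↥K) (Nat.card G) with h2 | h2
          · exact h2
          · exact absurd ((Subgroup.card_eq_iff_eq_top K).1 (le_antisymm h1 h2)) hK
        refine ih (Nat.card ↥K) hlt ↥K rfl (hyp_subgroup hG K) (S.subtype hSK) ?_ ?_
        · rw [Sylow.coe_subtype]
          intro hcyc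
          apply hnc
          exact isCyclic_of_surjective _ (Subgroup.subgroupOfEquivOfLe hSK).surjective
        · rw [Sylow.coe_subtype]
          exact hnK
      have hloc : Loc G := by
        apply loc_of_sylow hG S hS
        intro a ha hodd ha1
        by_contra hnot
        exact kC2 G hG S hnc hnn hcore IH a ha hodd ha1 hnot
      have hsq := kB3 G hG hloc S hnc hnn
      apply concl_of_sylow hG S
      intro c hc
      rw [hsq c hc]
      exact one_mem _
    · obtain ⟨hQ, ⟨T, hTnc, hTnn⟩, hlt, hlift⟩ := kD G hG S hnc hnn hcore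
      rw [hn] at hlt
      exact hlift (ih _ hlt _ rfl hQ T hTnc hTnn)

end Cfsg.Agent.Lib.Helper60.AIC
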