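import Mathlib
import Cfsg.Prelude.Def_GeometricClasses
import Cfsg.Agent.Lib.Helper61.AschDefs
import Cfsg.Agent.Lib.Helper04.AschC1

/-!
# Second half of K-S5630-E2: a surjective algebra homomorphism `M_I(F) → M_n(F)` is a reindexing followed by a
conjugation (simplicity of the matrix ring, dimension count, Skolem–Noether).
-/

set_option autoImplicit false

namespace Cfsg.Agent.Lib.Helper60.Asch

open Cfsg Cfsg.Geo Cfsg.Agent.Lib.Helper61.Asch
open scoped Matrix Kronecker MatrixGroups

variable {F : Type*} [Field F] {n : ℕ}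

local notation "Mat" => Matrix (Fin n) (Fin n) F

theorem exists_reindex_conj_of_surjective {I : Type*} [Fintype I] [DecidableEq I] (hn : 0 < n)
    (Ψ : Matrix I I F →ₐ[F] Mat) (hsurj : Function.Surjective Ψ) :
    ∃ (e : Fin n ≃ I) (P : GL (Fin n) F), ∀ z : Matrix I I F,
      Ψ z = (P : Mat) * Matrix.reindex e.symm e.symm z * ((P⁻¹ : GL (Fin n) F) : Mat) := by
  classical
  have : Nonempty (Fin n) := ⟨⟨0, hn⟩⟩
  have hI : Nonempty I := by
    by_contra hI
    rw [not_nonempty_iff] at hI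
    obtain ⟨z, hz⟩ := hsurj 1
    have h0 : z = 0 := Subsingleton.elim _ _
    rw [h0, map_zero] at hz
    exact zero_ne_one hz
  have hinj : Function.Injective Ψ := (Ψ : Matrix I I F →+* Mat).injective
  let Ψe : Matrix I I F ≃ₐ[F] Mat := AlgEquiv.ofBijective Ψ ⟨hinj, hsurj⟩
  have hcard : Fintype.card I = n := by
    have h1 := Ψe.toLinearEquiv.finrank_eq
    rw [Module.finrank_matrix, Module.finrank_matrix] at h1
    simp only [Module.finrank_self, mul_one, Fintype.card_fin] at h1
    exact Nat.mul_self_inj.1 h1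
  let e : Fin n ≃ I := (Fintype.equivFinOfCardEq hcard).symm
  let Θ : Mat ≃ₐ[F] Mat := (Matrix.reindexAlgEquiv F F e.symm).symm.trans Ψe
  obtain ⟨C, hC⟩ := Cfsg.Agent.Lib.Helper04.Asch.exists_conj_of_algEquiv Θ
  refine ⟨e, C, fun z => ?_⟩
  have h1 := hC (Matrix.reindexAlgEquiv F F e.symm z)
  have h2 : Θ (Matrix.reindexAlgEquiv F F e.symm z) = Ψ z := by
    simp only [Θ, AlgEquiv.trans_apply, AlgEquiv.symm_apply_apply]
    rfl
  rw [← h2, h1]
  rfl

end Cfsg.Agent.Lib.Helper60.Asch
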