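import Mathlib
import Cfsg.Prelude.Def_GeometricClasses
import Cfsg.Agent.Lib.Helper61.AschDefs
import Cfsg.Agent.Lib.Helper60.AschE5Core
import Cfsg.Agent.Lib.Helper70.AschE1
import Cfsg.Agent.Lib.Helper05.AschE2
import Cfsg.Agent.Lib.Helper04.AschE3
import Cfsg.Agent.Lib.Helper18.AschE4

/-!
# K-S5630-E5 (keystone 221, architect helper61): the tensor-induced case of Aschbacher's theorem.

Assembly of `geom_of_nonsimple_perfect_of_pos` (`AschE5Core`) with the delivered E1 (helper70), E2 (helper5),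
E3 (helper4, with its extra hypothesis `0 < t`), E4 (helper18).
-/

set_option autoImplicit false

namespace Cfsg.Agent.Lib.Helper60.Asch

open Cfsg Cfsg.Geo Cfsg.Agent.Lib.Helper61.Asch
open scoped Matrix Kronecker MatrixGroups

variable {F : Type*} [Field F] [Fintype F] {n : ℕ}

local notation "V" => (Fin n → F)
local notation "Mat" => Matrix (Fin n) (Fin n) F
local notation "Z" => scalars (Fin n) F

/-- K-S5630-E5. -/
theorem geom_of_nonsimple_perfect (K N : Subgroup (GL (Fin n) F)) (hn : 3 ≤ n) (hZN : Z ≤ N) (hNK : N ≤ K)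
    (hKN : NormBy K N) (hspan : spanAlg N = ⊤)
    (hperf : ⁅N, N⁆ ⊔ Z = N)
    (hmin : ∀ M : Subgroup (GL (Fin n) F), Z ≤ M → M ≤ N → NormBy K M → M = Z ∨ M = N)
    (hns : ∃ M : Subgroup (GL (Fin n) F), Z ≤ M ∧ M ≤ N ∧ NormBy N M ∧ M ≠ Z ∧ M ≠ N) : Geom K :=
  geom_of_nonsimple_perfect_of_pos K N hn hspan
    (Cfsg.Agent.Lib.Helper70.Asch.exists_central_factors K N hZN hNK hKN hperf hmin hns)
    (fun m t hn0 hm φ hc hg => Cfsg.Agent.Lib.Helper05.Asch.exists_tensor_basis_lam m t hn0 hm φ hc hg)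
    (fun m t hm ht e P k σ h =>
      Cfsg.Agent.Lib.Helper04.Asch.mem_tensorWreathSubgroup_of_permutes m t hm ht e P k σ h)
    (fun t ht e P h => Cfsg.Agent.Lib.Helper18.Asch.geom_of_le_tensorWreathSubgroup_two K t ht e P h)

end Cfsg.Agent.Lib.Helper60.Asch
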