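import Mathlib
import Cfsg.Agent.S1350
import Cfsg.Agent.S1354
import Cfsg.Agent.S1430
import Cfsg.Agent.S1431
import Cfsg.Agent.Lib.Helper31.FittingHall
import Cfsg.Agent.Lib.Helper60.BG152L1b

set_option autoImplicit false
set_option linter.unusedVariables false

/-! K-152-L2c (pack K-152 of helper12, BG 15.1(b), keystone 135607): `C_M(M_F) ≤ F(M)` for a maximal
subgroup `M = M_σ ⋊ K` of type P1 with `M_σ = Q ⋊ D` and `Q ≤ M_F`. -/

namespace Cfsg.Agent.Lib.Helper60.BG152

open Cfsg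
open scoped Pointwise commutatorElement

variable {G : Type*} [Group G]

/-- elements of `Q ⊔ D` when `D` normalizes `Q` -/
theorem exists_mul_of_mem_sup' {Q D : Subgroup G} (hn : D ≤ Subgroup.normalizer (Q : Set G))
    {g : G} (hg : g ∈ Q ⊔ D) : ∃ a ∈ Q, ∃ d ∈ D, g = a * d := by
  have h1 : ((Q ⊔ D : Subgroup G) : Set G) = (Q : Set G) * (D : Set G) :=
    Subgroup.coe_mul_of_right_le_normalizer_left Q D hn
  have hg' : g ∈ ((Q ⊔ D : Subgroup G) : Set G) := hg
  rw [h1] at hg'
  obtain ⟨a, ha, d, hd, rfl⟩ := Set.mem_mul.mp hg'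
  exact ⟨a, ha, d, hd, rfl⟩

/-- the normalizer of `Q` normalizes the centralizer of `Q` -/
theorem normalizer_le_normalizer_centralizer' (Q : Subgroup G) :
    Subgroup.normalizer (Q : Set G) ≤
      Subgroup.normalizer ((Subgroup.centralizer (Q : Set G) : Subgroup G) : Set G) := by
  have key : ∀ g ∈ Subgroup.normalizer (Q : Set G), ∀ c ∈ Subgroup.centralizer (Q : Set G),
      g * c * g⁻¹ ∈ Subgroup.centralizer (Q : Set G) := by
    intro g hg c hc
    rw [Subgroup.mem_centralizer_iff] at hc ⊢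
    intro b hb
    have hb' : g⁻¹ * b * g ∈ Q := by
      have := (Subgroup.mem_normalizer_iff.mp ((Subgroup.normalizer (Q : Set G)).inv_mem hg)
        b).mp hb
      simpa using this
    have h := hc _ hb'
    calc b * (g * c * g⁻¹) = g * ((g⁻¹ * b * g) * c) * g⁻¹ := by group
      _ = g * (c * (g⁻¹ * b * g)) * g⁻¹ := by rw [h]
      _ = g * c * g⁻¹ * b := by group
  intro g hg
  rw [Subgroup.mem_normalizer_iff]
  intro c
  constructor
  · exact key g hg c
  · intro h
    have := key g⁻¹ ((Subgroup.normalizer (Q : Set G)).inv_mem hg) _ h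
    simpa [mul_assoc] using this

/-- `C_{QD}(Q)` is nilpotent when `D` is a nilpotent `q'`-group normalizing the `q`-group `Q` -/
theorem isNilpotent_sup_inf_centralizer [Finite G] {q : ℕ} [Fact q.Prime] {Q D : Subgroup G}
    (hQq : IsPGroup q Q) (hD : Group.IsNilpotent D) (hDq : (Nat.card D).Coprime q)
    (hn : D ≤ Subgroup.normalizer (Q : Set G)) :
    Group.IsNilpotent ↥((Q ⊔ D) ⊓ Subgroup.centralizer (Q : Set G)) := by
  have hle : (Q ⊔ D) ⊓ Subgroup.centralizer (Q : Set G) ≤
      (Q ⊓ Subgroup.centralizer (Q : Set G)) ⊔ (D ⊓ Subgroup.centralizer (Q : Set G)) := by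
    rintro x ⟨hx1, hx2⟩
    obtain ⟨a, ha, d, hd, rfl⟩ := exists_mul_of_mem_sup' hn hx1
    have hxa : a * (a * d) = (a * d) * a := (Subgroup.mem_centralizer_iff.mp hx2) a ha
    have hcomm : Commute a d := by
      have : a * (a * d) = a * (d * a) := by rw [hxa]; group
      exact mul_left_cancel this
    obtain ⟨k, hk⟩ := hQq ⟨a, ha⟩
    have hk' : a ^ q ^ k = 1 := by
      have := congrArg Subtype.val hk
      simpa using this
    have hpow : (a * d) ^ q ^ k = d ^ q ^ k := by
      rw [hcomm.mul_pow, hk', one_mul]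
    have hdk : d ^ q ^ k ∈ Subgroup.centralizer (Q : Set G) := by
      rw [← hpow]
      exact Subgroup.pow_mem _ hx2 _
    have hco : (orderOf d).Coprime (q ^ k) := by
      have h1 : orderOf d ∣ Nat.card D := by
        have := orderOf_dvd_natCard (⟨d, hd⟩ : D)
        rwa [Subgroup.orderOf_mk] at this
      exact (Nat.Coprime.coprime_dvd_left h1 hDq).pow_right k
    have hdC : d ∈ Subgroup.centralizer (Q : Set G) :=
      Cfsg.Agent.Lib.Helper31.mem_of_pow_mem_of_coprime _ d _ hco hdk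
    have haC : a ∈ Subgroup.centralizer (Q : Set G) := by
      have : a = (a * d) * d⁻¹ := by group
      rw [this]
      exact Subgroup.mul_mem _ hx2 (Subgroup.inv_mem _ hdC)
    exact Subgroup.mul_mem_sup ⟨ha, haC⟩ ⟨hd, hdC⟩
  refine isNilpotent_of_le' hle (isNilpotent_sup_of_commute ?_ ?_ ?_)
  · exact isNilpotent_of_le' inf_le_left hQq.isNilpotent
  · exact isNilpotent_of_le' inf_le_left hD
  · rintro a ⟨ha, -⟩ b ⟨-, hb⟩
    exact ((Subgroup.mem_centralizer_iff.mp hb) a ha)

/-- **K-152-L2c** (exact spec signature). -/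
theorem centralizer_le_fittingOf_of_structure {G : Type*} [Group G] [Finite G]
    (hG : IsMinSimpleOddOrder G) {M : Subgroup G} (hM : IsCoatom M) {K Q D : Subgroup G}
    (hKU : IsSigmaDecomposition M K ⊥) (hK1 : K ≠ ⊥) (q : ℕ) (hq : q.Prime)
    (hQn : M ≤ Subgroup.normalizer (Q : Set G)) (hQq : IsPGroup q Q)
    (hcop : (Nat.card Q).Coprime (Q.relIndex M))
    (hKQ : sigmaCore M ⊓ Subgroup.centralizer (K : Set G) ≤ Q) (hQD : Q ⊔ D = sigmaCore M)
    (hD : Group.IsNilpotent D) (hQF : Q ≤ fittingHallOf M) :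
    M ⊓ Subgroup.centralizer (fittingHallOf M : Set G) ≤ fittingOf M := by
  classical
  have hKM : K ≤ M := hKU.hall.1
  have hσM : sigmaCore M ≤ M := sigmaCore_le'' M
  have hMσn : M ≤ Subgroup.normalizer (sigmaCore M : Set G) := le_normalizer_sigmaCore'' M
  have hsolv : Group.IsSolvable ↥M := Cfsg.Agent.Lib.Helper55.ms_solvable hG hM.1
  have hHall := (Cfsg.Agent.S1350.result hG M hM).1
  have hqF : Fact q.Prime := ⟨hq⟩
  have hKs1 : sigmaCore M ⊓ Subgroup.centralizer (K : Set G) ≠ ⊥ :=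
    (Cfsg.Agent.S1354.result hG M hM K hKU.cyclic hKU.hall).1
  have hQ1 : Q ≠ ⊥ := fun h => hKs1 (le_bot_iff.mp (h ▸ hKQ))
  obtain ⟨n, hn⟩ := hQq.exists_card_eq
  have hn0 : n ≠ 0 := by
    rintro rfl
    rw [pow_zero] at hn
    exact hQ1 (Subgroup.eq_bot_of_card_eq Q hn)
  have hqQ : q ∣ Nat.card Q := by rw [hn]; exact dvd_pow_self q hn0
  have hndM : ¬ q ∣ Q.relIndex M := by
    intro h
    have : q ∣ Nat.gcd (Nat.card Q) (Q.relIndex M) := Nat.dvd_gcd hqQ h
    rw [hcop] at this
    exact hq.one_lt.ne' (Nat.dvd_one.mp this)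
  have hQσ : Q ≤ sigmaCore M := hQD ▸ le_sup_left
  have hQM : Q ≤ M := hQσ.trans hσM
  have hnd : ¬ q ∣ Q.relIndex (sigmaCore M) := by
    intro h
    apply hndM
    rw [← Subgroup.relIndex_mul_relIndex Q (sigmaCore M) M hQσ hσM]
    exact h.mul_right _
  have hcopσK : (Nat.card (sigmaCore M)).Coprime (Nat.card K) := by
    apply Nat.coprime_of_dvd
    intro r hr h1 h2
    have hσ := hHall.2.1 r hr h1
    have hκ := hKU.hall.2.1 r hr h2
    exact hκ.2.2.1 hσ
  have hσK : sigmaCore M ⊓ K = ⊥ :=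
    disjoint_iff.mp (Subgroup.disjoint_of_coprime_natCard hcopσK)
  have hMeq : K ⊔ sigmaCore M = M := by
    apply le_antisymm (sup_le hKM hσM)
    intro m hm
    obtain ⟨a, ha, b, hb, rfl⟩ := hKU.compl.2.2.2 m hm
    rw [(Subgroup.mem_bot).mp ha, one_mul]
    exact hb
  have hcardM : Nat.card M = Nat.card (sigmaCore M) * Nat.card K := by
    have h := Cfsg.Agent.Lib.Helper32.card_sup_of_le_normalizer K (sigmaCore M)
      (hKM.trans hMσn) hσK
    rw [hMeq] at h
    exact h
  -- no non-identity element of `K` centralizes `Q`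
  have h30 := (Cfsg.Agent.S1430.result hG M hM K hKU.hall hK1).1
  have h31 := (Cfsg.Agent.S1431.result hG M hM K hKU.hall hK1).2.2.1
  have hCK : ∀ k ∈ K, k ∈ Subgroup.centralizer (Q : Set G) → k = 1 := by
    intro k hk hkC
    by_contra hk1
    have h := h30 k hk hk1
    have hQle : Q ≤ sigmaCore M ⊓ Subgroup.centralizer (K : Set G) := by
      rw [← h]
      intro b hb
      refine ⟨hQσ hb, ?_⟩
      show b ∈ Subgroup.centralizer ({k} : Set G)
      rw [Subgroup.mem_centralizer_iff]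
      intro x hx
      rw [Set.mem_singleton_iff.mp hx]
      exact ((Subgroup.mem_centralizer_iff.mp hkC) b hb).symm
    have hqK : q ∣ Nat.card ↥(sigmaCore M ⊓ Subgroup.centralizer (K : Set G)) :=
      hqQ.trans (Subgroup.card_dvd_of_le hQle)
    have hQ'q : IsPGroup q (Q.subgroupOf (sigmaCore M)) := hQq.comap_subtype
    have hQ'i : ¬ q ∣ (Q.subgroupOf (sigmaCore M)).index := hnd
    have h3 := (h31 q hq hqK (hQ'q.toSylow hQ'i)).2.2
    apply h3
    rw [IsPGroup.toSylow_coe, Subgroup.map_subgroupOf_eq_of_le hQσ]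
    exact hQle
  -- `C_M(Q) ≤ M_σ`
  have hstep1 : M ⊓ Subgroup.centralizer (Q : Set G) ≤ sigmaCore M := by
    rintro x ⟨hxM, hxC⟩
    -- `x ^ |K| ∈ M_σ`
    have hxe : x ^ Nat.card K ∈ sigmaCore M := by
      have hidx : (piCore (sigma M) M).index = Nat.card K := by
        have h1 := Subgroup.card_mul_index (piCore (sigma M) M)
        have h2 : Nat.card (piCore (sigma M) M) = Nat.card (sigmaCore M) :=
          (Subgroup.card_map_of_injective M.subtype_injective).symm
        rw [h2, hcardM] at h1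
        exact Nat.eq_of_mul_eq_mul_left Nat.card_pos h1
      have h3 := Subgroup.pow_index_mem (piCore (sigma M) M) (⟨x, hxM⟩ : M)
      rw [hidx] at h3
      exact ⟨_, h3, by simp⟩
    set y : G := x ^ Nat.card (sigmaCore M) with hy
    have hye : y ^ Nat.card K = 1 := by
      rw [hy, ← pow_mul, mul_comm, pow_mul]
      have h1 : (⟨x ^ Nat.card K, hxe⟩ : sigmaCore M) ^ Nat.card (sigmaCore M) = 1 :=
        pow_card_eq_one'
      have h2 : ((⟨x ^ Nat.card K, hxe⟩ : sigmaCore M) : G) ^ Nat.card (sigmaCore M) = 1 := by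
        rw [← Subgroup.coe_pow, h1, Subgroup.coe_one]
      exact h2
    have hyM : y ∈ M := M.pow_mem hxM _
    have hyC : y ∈ Subgroup.centralizer (Q : Set G) := Subgroup.pow_mem _ hxC _
    have hUc : (Nat.card (sigmaCore M)).Coprime (Nat.card (Subgroup.zpowers y)) := by
      rw [Nat.card_zpowers]
      exact Nat.Coprime.coprime_dvd_right (orderOf_dvd_of_pow_eq_one hye) hcopσK
    obtain ⟨c, hc, hUle⟩ := Cfsg.Agent.Lib.Helper32.exists_conj_ge_of_normal_hall
      (A := ⊥) (H₀ := M) (N := sigmaCore M) (H := K) (U := Subgroup.zpowers y)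
      (by rw [Subgroup.card_bot]; exact Nat.coprime_one_left _) hsolv hσM hMσn bot_le hKM hcardM
      hcopσK bot_le (by rw [Subgroup.zpowers_le]; exact hyM) bot_le hUc
    have hcM : c ∈ M := hc.1
    have hyc : y ∈ MulAut.conj c • K := hUle (Subgroup.mem_zpowers y)
    rw [Subgroup.mem_pointwise_smul_iff_inv_smul_mem] at hyc
    have hyc' : c⁻¹ * y * c ∈ K := by
      simpa [MulAut.smul_def] using hyc
    have hycC : c⁻¹ * y * c ∈ Subgroup.centralizer (Q : Set G) := by
      have hcN := normalizer_le_normalizer_centralizer' Q (hQn (M.inv_mem hcM))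
      have := (Subgroup.mem_normalizer_iff.mp hcN y).mp hyC
      simpa using this
    have hy1 : y = 1 := by
      have h1 := hCK _ hyc' hycC
      have : y = c * (c⁻¹ * y * c) * c⁻¹ := by group
      rw [this, h1]; group
    have hco : (orderOf x).Coprime (Nat.card K) :=
      Nat.Coprime.coprime_dvd_left (orderOf_dvd_of_pow_eq_one hy1) hcopσK
    exact Cfsg.Agent.Lib.Helper31.mem_of_pow_mem_of_coprime _ x _ hco hxe
  -- `C_{M_σ}(Q)` is a nilpotent normal subgroup of `M`
  obtain ⟨D₀, hD₀D, hD₀n, hD₀q, hQD₀, hQD₀i⟩ :=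
    Cfsg.Agent.Lib.Helper28.BG152.exists_coprime_compl q (sigmaCore M) Q D hQq (hσM.trans hQn)
      hnd hQD hD
  have hD₀σ : D₀ ≤ sigmaCore M := hQD₀ ▸ le_sup_right
  have hD₀N : D₀ ≤ Subgroup.normalizer (Q : Set G) := (hD₀σ.trans hσM).trans hQn
  have hnil : Group.IsNilpotent ↥(sigmaCore M ⊓ Subgroup.centralizer (Q : Set G)) := by
    have := isNilpotent_sup_inf_centralizer hQq hD₀n hD₀q hD₀N
    rwa [hQD₀] at this
  have hnorm : M ≤ Subgroup.normalizer
      ((sigmaCore M ⊓ Subgroup.centralizer (Q : Set G) : Subgroup G) : Set G) :=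
    (le_inf hMσn (hQn.trans (normalizer_le_normalizer_centralizer' Q))).trans
      Subgroup.inf_normalizer_le_normalizer_inf
  have hfit : sigmaCore M ⊓ Subgroup.centralizer (Q : Set G) ≤ fittingOf M :=
    le_fittingOf_of_normal_nilpotent (inf_le_left.trans hσM) hnorm hnil
  -- conclusion
  intro x hx
  have hxQ : x ∈ Subgroup.centralizer (Q : Set G) :=
    Subgroup.centralizer_le (show (Q : Set G) ⊆ (fittingHallOf M : Set G) from hQF) hx.2
  exact hfit ⟨hstep1 ⟨hx.1, hxQ⟩, hxQ⟩

end Cfsg.Agent.Lib.Helper60.BG152
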