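import Mathlib

set_option autoImplicit false

namespace Cfsg.Agent.Lib.Helper60

/-- membership in a conjugate subgroup -/
theorem mem_map_conj_iff {J : Type*} [Group J] (H : Subgroup J) (g a : J) :
    a ∈ H.map (MulAut.conj g).toMonoidHom ↔ g⁻¹ * a * g ∈ H := by
  constructor
  · rintro ⟨b, hb, rfl⟩
    simpa [mul_assoc] using hb
  · intro h
    exact ⟨g⁻¹ * a * g, h, by simp [mul_assoc]⟩

/-- The automorphism of a subgroup `T` induced by conjugation with an element normalizing `T`. -/
def conjAut {G : Type*} [Group G] (T : Subgroup G) (n : G)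
    (hn : n ∈ Subgroup.normalizer (T : Set G)) : ↥T ≃* ↥T where
  toFun t := ⟨n * t * n⁻¹, (Subgroup.mem_normalizer_iff.mp hn t).mp t.2⟩
  invFun t := ⟨n⁻¹ * t * n, (Subgroup.mem_normalizer_iff''.mp hn t).mp t.2⟩
  left_inv t := by ext; simp [mul_assoc]
  right_inv t := by ext; simp [mul_assoc]
  map_mul' a b := by ext; simp [mul_assoc]

@[simp] theorem conjAut_apply_coe {G : Type*} [Group G] (T : Subgroup G) (n : G)
    (hn : n ∈ Subgroup.normalizer (T : Set G)) (t : ↥T) :
    ((conjAut T n hn t : ↥T) : G) = n * t * n⁻¹ := rfl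

/-- An element of order two generating a subgroup that is characteristic in `T` is centralized by
the normalizer of `T`. -/
theorem conj_eq_of_char_zpowers_order_two {G : Type*} [Group G] (T : Subgroup G) (j : G)
    (hj : orderOf j = 2) (hjT : j ∈ T)
    (hchar : ((Subgroup.zpowers j).subgroupOf T).Characteristic)
    (n : G) (hn : n ∈ Subgroup.normalizer (T : Set G)) : n * j * n⁻¹ = j := by
  have h1 := (Subgroup.characteristic_iff_map_le.mp hchar) (conjAut T n hn)
  have h2 : (⟨j, hjT⟩ : ↥T) ∈ (Subgroup.zpowers j).subgroupOf T := by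
    rw [Subgroup.mem_subgroupOf]; exact Subgroup.mem_zpowers j
  have h3 : conjAut T n hn ⟨j, hjT⟩ ∈ (Subgroup.zpowers j).subgroupOf T :=
    h1 ⟨_, h2, rfl⟩
  rw [Subgroup.mem_subgroupOf] at h3
  simp only [conjAut_apply_coe] at h3
  obtain ⟨k, hk⟩ := Subgroup.mem_zpowers_iff.mp h3
  rw [← zpow_mod_orderOf, hj] at hk
  push_cast at hk
  have hk2 : k % 2 = 0 ∨ k % 2 = 1 := by omega
  rcases hk2 with h0 | h1'
  · rw [h0, zpow_zero] at hk
    have : j = 1 := by
      have h4 : n⁻¹ * (n * j * n⁻¹) * n = n⁻¹ * 1 * n := by rw [← hk]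
      simpa [mul_assoc] using h4
    rw [this, orderOf_one] at hj
    omega
  · rw [h1', zpow_one] at hk
    exact hk.symm

end Cfsg.Agent.Lib.Helper60
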