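import Mathlib

set_option autoImplicit false

namespace Cfsg.Agent.Lib.Helper60

/-- A nontrivial normal subgroup of a finite `p`-group contains a nontrivial central element. -/
theorem exists_center_mem_of_normal {P : Type*} [Group P] [Finite P] {p : ℕ} [Fact p.Prime]
    (hP : IsPGroup p P) (N : Subgroup P) [N.Normal] (hN : N ≠ ⊥) :
    ∃ z : P, z ∈ N ∧ z ∈ Subgroup.center P ∧ z ≠ 1 := by
  have hPc : IsPGroup p (ConjAct P) := hP.of_equiv ConjAct.toConjAct
  have hNp : IsPGroup p ↥N := hP.to_subgroup N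
  have hnt : Nontrivial ↥N := (Subgroup.nontrivial_iff_ne_bot N).mpr hN
  obtain ⟨n, hn0, hn⟩ := hNp.nontrivial_iff_card.mp hnt
  have hdvd : p ∣ Nat.card ↥N := by rw [hn]; exact dvd_pow_self _ (ne_of_gt hn0)
  have h1 : (1 : ↥N) ∈ MulAction.fixedPoints (ConjAct P) ↥N := by
    intro g
    exact smul_one g
  obtain ⟨b, hb, hb1⟩ := hPc.exists_fixed_point_of_prime_dvd_card_of_fixed_point ↥N hdvd h1
  refine ⟨(b : P), b.2, ?_, ?_⟩
  · rw [Subgroup.mem_center_iff]
    intro g
    have := hb (ConjAct.toConjAct g)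
    have h2 : ((ConjAct.toConjAct g • b : ↥N) : P) = (b : P) := by rw [this]
    rw [ConjAct.Subgroup.val_conj_smul, ConjAct.smul_def] at h2
    simp only [ConjAct.ofConjAct_toConjAct] at h2
    calc g * (b : P) = g * b * g⁻¹ * g := by simp [mul_assoc]
      _ = b * g := by rw [h2]
  · intro h
    apply hb1
    ext
    simp [h]

/-- Version for subgroups of an ambient group: if `P` is a finite `p`-subgroup of `X`, and `K ≤ P`
is a nontrivial subgroup normalized by `P`, then `K` contains a nontrivial element commuting with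
all of `P`. -/
theorem exists_central_mem_of_le_normalizer {X : Type*} [Group X] [Finite X] {p : ℕ}
    [Fact p.Prime] (P K : Subgroup X) (hP : IsPGroup p ↥P) (hKP : K ≤ P)
    (hn : P ≤ Subgroup.normalizer (K : Set X)) (hK : K ≠ ⊥) :
    ∃ z : X, z ∈ K ∧ z ≠ 1 ∧ ∀ x ∈ P, x * z = z * x := by
  have hnorm : (K.subgroupOf P).Normal :=
    (Subgroup.normal_subgroupOf_iff_le_normalizer hKP).mpr hn
  have hne : K.subgroupOf P ≠ ⊥ := by
    intro h
    apply hK
    rw [Subgroup.subgroupOf_eq_bot] at h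
    rw [disjoint_iff, inf_eq_left.mpr hKP] at h
    exact h
  obtain ⟨z, hzK, hzc, hz1⟩ := exists_center_mem_of_normal hP (K.subgroupOf P) hne
  refine ⟨(z : X), ?_, ?_, ?_⟩
  · simpa [Subgroup.mem_subgroupOf] using hzK
  · intro h
    apply hz1
    ext
    simpa using h
  · intro x hx
    rw [Subgroup.mem_center_iff] at hzc
    have := hzc ⟨x, hx⟩
    have h2 := congrArg (fun y : ↥P => (y : X)) this
    simpa using h2

/-- Membership in the image in `X` of the centre of a subgroup `R`. -/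
theorem mem_map_center_iff {X : Type*} [Group X] (R : Subgroup X) (a : X) :
    a ∈ (Subgroup.center ↥R).map R.subtype ↔ a ∈ R ∧ ∀ r ∈ R, r * a = a * r := by
  constructor
  · rintro ⟨z, hz, rfl⟩
    refine ⟨z.2, ?_⟩
    intro r hr
    rw [SetLike.mem_coe, Subgroup.mem_center_iff] at hz
    have := hz ⟨r, hr⟩
    have h2 := congrArg (fun y : ↥R => (y : X)) this
    simpa using h2
  · rintro ⟨haR, hc⟩
    refine ⟨⟨a, haR⟩, ?_, rfl⟩
    rw [SetLike.mem_coe, Subgroup.mem_center_iff]
    intro r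
    ext
    simpa using hc r r.2

/-- The centre of `R` is normalized by anything normalizing `R`. -/
theorem conj_mem_map_center {X : Type*} [Group X] (R : Subgroup X) (n : X)
    (hn : n ∈ Subgroup.normalizer (R : Set X)) (a : X)
    (ha : a ∈ (Subgroup.center ↥R).map R.subtype) :
    n * a * n⁻¹ ∈ (Subgroup.center ↥R).map R.subtype := by
  rw [mem_map_center_iff] at ha ⊢
  obtain ⟨haR, hc⟩ := ha
  refine ⟨(Subgroup.mem_normalizer_iff.mp hn a).mp haR, ?_⟩
  intro r hr
  have hr' : n⁻¹ * r * n ∈ R := (Subgroup.mem_normalizer_iff''.mp hn r).mp hr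
  have := hc _ hr'
  calc r * (n * a * n⁻¹) = n * ((n⁻¹ * r * n) * a) * n⁻¹ := by simp [mul_assoc]
    _ = n * (a * (n⁻¹ * r * n)) * n⁻¹ := by rw [this]
    _ = n * a * n⁻¹ * r := by simp [mul_assoc]

end Cfsg.Agent.Lib.Helper60
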