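import Cfsg.Agent.Lib.Helper56.CharP
import Cfsg.Agent.Lib.Helper56.CharPNormalizer
import Cfsg.Agent.Lib.Helper56.CharPElt
import Cfsg.Agent.Lib.Helper40.Cores
import Cfsg.Agent.Lib.Helper26.NormalPP
import Cfsg.Agent.Lib.Helper60.PGroup
import Cfsg.Agent.S0630

set_option autoImplicit false

namespace Cfsg.Agent.Lib.Helper60.CTC

open Cfsg
open scoped commutatorElement

/-- A group of characteristic `p` has trivial `p'`-core. -/
theorem pPrimeCore_eq_bot_of_charP {X : Type*} [Group X] [Finite X] {p : ℕ} [Fact p.Prime]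
    (h : Subgroup.centralizer (Cfsg.pCore p X : Set X) ≤ Cfsg.pCore p X) :
    Cfsg.pPrimeCore p X = ⊥ := by
  have hKQ : Cfsg.pCore p X ⊓ Cfsg.pPrimeCore p X = ⊥ :=
    Cfsg.Agent.Lib.Helper40.isPGroup_inf_coprime_eq_bot _ _
      (Cfsg.Agent.Lib.Helper40.pCore_isPGroup' p X)
      (Cfsg.Agent.Lib.Helper40.pPrimeCore_card_coprime' p X)
  have hK : Cfsg.pPrimeCore p X ≤ Subgroup.centralizer (Cfsg.pCore p X : Set X) := by
    intro k hk
    rw [Subgroup.mem_centralizer_iff]
    intro q hq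
    have hq' : q ∈ Cfsg.pCore p X := hq
    have h1 : q * k * q⁻¹ * k⁻¹ ∈ Cfsg.pCore p X ⊓ Cfsg.pPrimeCore p X := by
      refine Subgroup.mem_inf.2 ⟨?_, ?_⟩
      · have h2 : k * q⁻¹ * k⁻¹ ∈ Cfsg.pCore p X :=
          (Cfsg.pCore_normal p X).conj_mem _ (inv_mem hq') k
        have h3 := mul_mem hq' h2
        have e : q * (k * q⁻¹ * k⁻¹) = q * k * q⁻¹ * k⁻¹ := by group
        rwa [e] at h3
      · have h2 : q * k * q⁻¹ ∈ Cfsg.pPrimeCore p X :=
          (Cfsg.pPrimeCore_normal p X).conj_mem _ hk q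
        exact mul_mem h2 (inv_mem hk)
    rw [hKQ, Subgroup.mem_bot] at h1
    have e : q * k = (q * k * q⁻¹ * k⁻¹) * (k * q) := by group
    rw [e, h1, one_mul]
  have hle : Cfsg.pPrimeCore p X ≤ Cfsg.pCore p X ⊓ Cfsg.pPrimeCore p X :=
    le_inf (hK.trans h) le_rfl
  rw [hKQ] at hle
  exact le_bot_iff.mp hle

/-- Characteristic `p` implies `p`-constraint. -/
theorem isPConstrained_of_charP {X : Type*} [Group X] [Finite X] {p : ℕ} [Fact p.Prime]
    (h : Subgroup.centralizer (Cfsg.pCore p X : Set X) ≤ Cfsg.pCore p X) :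
    Cfsg.IsPConstrained p X :=
  (Cfsg.Agent.S0630.isPConstrained_iff_of_pPrimeCore_eq_bot (pPrimeCore_eq_bot_of_charP h)).mpr h

/-- `p`-constraint with trivial `p'`-core is characteristic `p`. -/
theorem charP_of_isPConstrained {X : Type*} [Group X] [Finite X] {p : ℕ} [Fact p.Prime]
    (h : Cfsg.IsPConstrained p X) (h0 : Cfsg.pPrimeCore p X = ⊥) :
    Subgroup.centralizer (Cfsg.pCore p X : Set X) ≤ Cfsg.pCore p X :=
  (Cfsg.Agent.S0630.isPConstrained_iff_of_pPrimeCore_eq_bot h0).mp h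

theorem card_mul_relIndex' {X : Type*} [Group X] {H K : Subgroup X} (h : H ≤ K) :
    Nat.card ↥H * H.relIndex K = Nat.card ↥K := by
  rw [← Subgroup.relIndex_bot_left, ← Subgroup.relIndex_bot_left,
    Subgroup.relIndex_mul_relIndex _ _ _ bot_le h]

/-- In a subgroup `Q`, two elements outside a subgroup of relative index at most two differ by
an element of that subgroup. -/
theorem mul_inv_mem_of_relIndex_le_two {X : Type*} [Group X] (H Q : Subgroup X)
    (h : H.relIndex Q ≤ 2) (hne : H.relIndex Q ≠ 0) {a b : X} (ha : a ∈ Q) (hb : b ∈ Q)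
    (haH : a ∉ H) (hbH : b ∉ H) : a * b⁻¹ ∈ H := by
  have hcases : H.relIndex Q = 1 ∨ H.relIndex Q = 2 := by omega
  rcases hcases with h1 | h2
  · exact absurd ((Subgroup.relIndex_eq_one.mp h1) ha) haH
  · have h3 : (H.subgroupOf Q).index = 2 := h2
    have h4 := Subgroup.mul_mem_iff_of_index_two h3 (a := (⟨a, ha⟩ : ↥Q))
      (b := (⟨b, hb⟩ : ↥Q)⁻¹)
    have h5 : (⟨a, ha⟩ : ↥Q) * (⟨b, hb⟩ : ↥Q)⁻¹ ∈ H.subgroupOf Q := by
      rw [h4]
      constructor
      · intro h6
        exact absurd (Subgroup.mem_subgroupOf.mp h6) haH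
      · intro h6
        have h7 := inv_mem h6
        rw [inv_inv] at h7
        exact absurd (Subgroup.mem_subgroupOf.mp h7) hbH
    simpa [Subgroup.mem_subgroupOf] using h5

/-- **Key lemma.** Let `N` be a subgroup of characteristic `2`, `R ≤ N` a `2`-subgroup of index at
most two in a Sylow `2`-subgroup of the whole group, and `Y ≤ N` a subgroup of odd order
normalized by `R`. Then `Y = 1`. -/
theorem odd_eq_bot_of_large {G : Type*} [Group G] [Finite G]
    (N : Subgroup G)
    (hN : Subgroup.centralizer (Cfsg.pCore 2 ↥N : Set ↥N) ≤ Cfsg.pCore 2 ↥N)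
    (S : Sylow 2 G) (R Y : Subgroup G) (hRN : R ≤ N) (hYN : Y ≤ N) (hR2 : IsPGroup 2 ↥R)
    (hcard : Nat.card ↥(S : Subgroup G) ≤ 2 * Nat.card ↥R)
    (hY : (Nat.card ↥Y).Coprime 2) (hRY : R ≤ Subgroup.normalizer (Y : Set G)) : Y = ⊥ := by
  classical
  have : Fact (Nat.Prime 2) := ⟨Nat.prime_two⟩
  set Q' : Subgroup ↥N := Cfsg.pCore 2 ↥N with hQ'
  set R' : Subgroup ↥N := R.subgroupOf N with hR'
  set Y' : Subgroup ↥N := Y.subgroupOf N with hY'
  have hQ'n : Q'.Normal := Cfsg.pCore_normal 2 ↥N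
  have hQ'p : IsPGroup 2 ↥Q' := Cfsg.Agent.Lib.Helper40.pCore_isPGroup' 2 ↥N
  have hR'p : IsPGroup 2 ↥R' := hR2.comap_of_injective N.subtype N.subtype_injective
  have hQR : IsPGroup 2 ↥(R' ⊔ Q' : Subgroup ↥N) := IsPGroup.to_sup_of_normal_right hR'p hQ'p
  have hcardQR : Nat.card ↥(R' ⊔ Q' : Subgroup ↥N) ≤ Nat.card ↥(S : Subgroup G) := by
    have h1 : IsPGroup 2 ↥((R' ⊔ Q').map N.subtype) := hQR.map _
    obtain ⟨P, hP⟩ := h1.exists_le_sylow
    calc Nat.card ↥(R' ⊔ Q' : Subgroup ↥N)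
        = Nat.card ↥((R' ⊔ Q').map N.subtype) :=
          (Subgroup.card_map_of_injective N.subtype_injective).symm
      _ ≤ Nat.card ↥(P : Subgroup G) := Subgroup.card_le_of_le hP
      _ = Nat.card ↥(S : Subgroup G) := by
          rw [Sylow.card_eq_multiplicity, Sylow.card_eq_multiplicity]
  have hcardR : Nat.card ↥R' = Nat.card ↥R :=
    Nat.card_congr (Subgroup.subgroupOfEquivOfLe hRN).toEquiv
  have hcardY : Nat.card ↥Y' = Nat.card ↥Y :=
    Nat.card_congr (Subgroup.subgroupOfEquivOfLe hYN).toEquiv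
  -- the index computation
  have hidx : R'.relIndex Q' ≤ 2 ∧ R'.relIndex Q' ≠ 0 := by
    have e1 : Nat.card ↥Q' * Q'.relIndex (R' ⊔ Q') = Nat.card ↥(R' ⊔ Q' : Subgroup ↥N) :=
      card_mul_relIndex' le_sup_right
    have e2 : Q'.relIndex (R' ⊔ Q') = Q'.relIndex R' := Subgroup.relIndex_sup_right R' Q'
    have e3 : Nat.card ↥(Q' ⊓ R' : Subgroup ↥N) * (Q' ⊓ R').relIndex R' = Nat.card ↥R' :=
      card_mul_relIndex' inf_le_right
    have e4 : (Q' ⊓ R').relIndex R' = Q'.relIndex R' := Subgroup.inf_relIndex_right Q' R'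
    have e5 : Nat.card ↥(Q' ⊓ R' : Subgroup ↥N) * (Q' ⊓ R').relIndex Q' = Nat.card ↥Q' :=
      card_mul_relIndex' inf_le_left
    have e6 : (Q' ⊓ R').relIndex Q' = R'.relIndex Q' := Subgroup.inf_relIndex_left Q' R'
    rw [e2] at e1
    rw [e4] at e3
    rw [e6] at e5
    have hQpos : 0 < Nat.card ↥Q' := Nat.card_pos
    have hRpos : 0 < Nat.card ↥R' := Nat.card_pos
    set c := Nat.card ↥(Q' ⊓ R' : Subgroup ↥N) with hc
    set m := Q'.relIndex R' with hm
    set r := R'.relIndex Q' with hr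
    have hcm : 0 < c * m := by rw [e3]; exact hRpos
    have hr0 : r ≠ 0 := by
      intro h0
      rw [h0, mul_zero] at e5
      omega
    refine ⟨?_, hr0⟩
    by_contra hlt
    have h3 : 3 ≤ r := by omega
    have h4 : c * r * m ≤ 2 * (c * m) := by
      calc c * r * m = Nat.card ↥(R' ⊔ Q' : Subgroup ↥N) := by rw [e5, e1]
        _ ≤ Nat.card ↥(S : Subgroup G) := hcardQR
        _ ≤ 2 * Nat.card ↥R := hcard
        _ = 2 * (c * m) := by rw [e3, hcardR]
    have h5 : 3 * (c * m) ≤ c * r * m := by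
      calc 3 * (c * m) ≤ r * (c * m) := Nat.mul_le_mul_right _ h3
        _ = c * r * m := by ring
    omega
  -- `Q'` and `Y'` meet trivially
  have hQY : Q' ⊓ Y' = ⊥ :=
    Cfsg.Agent.Lib.Helper40.isPGroup_inf_coprime_eq_bot Q' Y' hQ'p (by rw [hcardY]; exact hY)
  rw [eq_bot_iff]
  intro y hy
  rw [Subgroup.mem_bot]
  set y' : ↥N := ⟨y, hYN hy⟩ with hy'
  have hy'Y : y' ∈ Y' := by rw [hY', Subgroup.mem_subgroupOf]; exact hy
  have hxo : (orderOf y').Coprime 2 := by
    have h1 : orderOf y' = orderOf y := by rw [hy', Subgroup.orderOf_mk]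
    have h2 : orderOf (⟨y, hy⟩ : ↥Y) = orderOf y := by rw [Subgroup.orderOf_mk]
    have h3 : orderOf y ∣ Nat.card ↥Y := by rw [← h2]; exact orderOf_dvd_natCard _
    rw [h1]
    exact Nat.Coprime.coprime_dvd_left h3 hY
  have h1 : ∀ a ∈ Q' ⊓ R', a * y' = y' * a := by
    intro a ha
    obtain ⟨haQ, haR⟩ := Subgroup.mem_inf.1 ha
    have haR' : (a : G) ∈ R := by rwa [hR', Subgroup.mem_subgroupOf] at haR
    have hc : a * y' * a⁻¹ * y'⁻¹ ∈ Q' ⊓ Y' := by
      refine Subgroup.mem_inf.2 ⟨?_, ?_⟩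
      · have h2 : y' * a⁻¹ * y'⁻¹ ∈ Q' := hQ'n.conj_mem _ (inv_mem haQ) y'
        have h3 := mul_mem haQ h2
        have e : a * (y' * a⁻¹ * y'⁻¹) = a * y' * a⁻¹ * y'⁻¹ := by group
        rwa [e] at h3
      · have h2 : a * y' * a⁻¹ ∈ Y' := by
          rw [hY', Subgroup.mem_subgroupOf]
          have := (Subgroup.mem_normalizer_iff.mp (hRY haR') y).mp hy
          simpa using this
        exact mul_mem h2 (inv_mem hy'Y)
    rw [hQY, Subgroup.mem_bot] at hc
    have e : a * y' = (a * y' * a⁻¹ * y'⁻¹) * (y' * a) := by group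
    rw [e, hc, one_mul]
  have h2 : ∀ a ∈ Q', ⁅a, y'⁆ ∈ R' := by
    intro a haQ
    by_cases haR : a ∈ R'
    · have h3 := h1 a (Subgroup.mem_inf.2 ⟨haQ, haR⟩)
      have h4 : ⁅a, y'⁆ = 1 := by
        rw [commutatorElement_def, h3]
        group
      rw [h4]
      exact one_mem _
    · have hbQ : y' * a * y'⁻¹ ∈ Q' := hQ'n.conj_mem _ haQ y'
      have hbR : y' * a * y'⁻¹ ∉ R' := by
        intro hb
        have h3 := h1 _ (Subgroup.mem_inf.2 ⟨hbQ, hb⟩)
        apply haR
        have h4 : y' * a * y'⁻¹ = a := by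
          have h5 : y' * a * y'⁻¹ * y' = y' * (y' * a * y'⁻¹) := h3
          have h6 : y' * a = y' * (y' * a * y'⁻¹) := by
            rw [← h5]; group
          exact (mul_left_cancel h6).symm
        rwa [h4] at hb
      have h3 := mul_inv_mem_of_relIndex_le_two R' Q' hidx.1 hidx.2 haQ hbQ haR hbR
      have h4 : ⁅a, y'⁆ = a * (y' * a * y'⁻¹)⁻¹ := by
        rw [commutatorElement_def]; group
      rw [h4]
      exact h3
  have h3 := Cfsg.Agent.Lib.Helper56.eq_one_of_stabilizes hN R' y' hxo h1 h2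
  have h4 := congrArg (fun t : ↥N => (t : G)) h3
  simpa [hy'] using h4

/-- If every `S`-conjugate of `t` is `t` or `t * z`, the centralizer of `t` in `S` has index at most
two in `S`. -/
theorem card_le_two_mul_centralizer {G : Type*} [Group G] [Finite G] (S : Subgroup G) (t z : G)
    (h : ∀ s ∈ S, s * t * s⁻¹ = t ∨ s * t * s⁻¹ = t * z)
    (hz : ∀ s ∈ S, s * z = z * s) (hzz : z * z = 1) :
    Nat.card ↥S ≤ 2 * Nat.card ↥(S ⊓ Subgroup.centralizer ({t} : Set G)) := by
  classical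
  set C : Subgroup G := S ⊓ Subgroup.centralizer ({t} : Set G) with hC
  have hmemC : ∀ s ∈ S, (s ∈ C ↔ s * t * s⁻¹ = t) := by
    intro s hs
    rw [hC, Subgroup.mem_inf, Subgroup.mem_centralizer_singleton_iff]
    constructor
    · rintro ⟨_, h1⟩
      rw [h1]; group
    · intro h1
      refine ⟨hs, ?_⟩
      have : s * t = (s * t * s⁻¹) * s := by group
      rw [this, h1]
  have hCS : C ≤ S := inf_le_left
  by_cases hall : ∀ s ∈ S, s * t * s⁻¹ = t
  · have hSC : S ≤ C := fun s hs => (hmemC s hs).mpr (hall s hs)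
    have : Nat.card ↥S ≤ Nat.card ↥C := Subgroup.card_le_of_le hSC
    omega
  · push Not at hall
    obtain ⟨s₀, hs₀, hs₀t⟩ := hall
    have hs₀' : s₀ * t * s₀⁻¹ = t * z := (h s₀ hs₀).resolve_left hs₀t
    have hz1 : t * z ≠ t := by rw [← hs₀']; exact hs₀t
    have hrel : C.relIndex S = 2 := by
      rw [Subgroup.relIndex_eq_two_iff]
      refine ⟨s₀, hs₀, ?_⟩
      intro b hb
      have hbs : b * s₀ ∈ S := mul_mem hb hs₀
      rw [hmemC b hb, hmemC _ hbs]
      have e : b * s₀ * t * (b * s₀)⁻¹ = b * (s₀ * t * s₀⁻¹) * b⁻¹ := by group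
      rw [e, hs₀']
      have e2 : b * (t * z) * b⁻¹ = (b * t * b⁻¹) * z := by
        have := hz b hb
        calc b * (t * z) * b⁻¹ = b * t * (z * b⁻¹) := by group
          _ = b * t * (b⁻¹ * z) := by
              congr 1
              have h3 : b⁻¹ * (b * z) * b⁻¹ = b⁻¹ * (z * b) * b⁻¹ := by rw [this]
              have h4 : z * b⁻¹ = b⁻¹ * (b * z) * b⁻¹ := by group
              have h5 : b⁻¹ * z = b⁻¹ * (z * b) * b⁻¹ := by group
              rw [h4, h5, h3]
          _ = (b * t * b⁻¹) * z := by group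
      rw [e2]
      rcases h b hb with h1 | h1
      · rw [h1]
        exact Or.inr ⟨rfl, hz1⟩
      · rw [h1]
        refine Or.inl ⟨?_, hz1⟩
        rw [mul_assoc, hzz, mul_one]
    have := card_mul_relIndex' hCS
    rw [hrel] at this
    omega

/-- A normal four-group inside an `SCN` subgroup of rank at least three of a Sylow `2`-subgroup, in
elementwise form: a central involution `z` and a second involution `a` whose conjugates under `S`
are `a` and `a * z`. -/
theorem exists_four {G : Type*} [Group G] [Finite G] (S : Sylow 2 G) (A : Subgroup G)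
    (hA : Cfsg.IsSCN (S : Subgroup G) A) (hA3 : ¬ Cfsg.PRankLE 2 2 ↥A) :
    ∃ z a : G, z ∈ (S : Subgroup G) ∧ a ∈ (S : Subgroup G) ∧ z ≠ 1 ∧ a ≠ 1 ∧ a ≠ z ∧
      z * z = 1 ∧ a * a = 1 ∧ (∀ s ∈ (S : Subgroup G), s * z = z * s) ∧
      (∀ s ∈ (S : Subgroup G), s * a * s⁻¹ = a ∨ s * a * s⁻¹ = a * z) := by
  classical
  have : Fact (Nat.Prime 2) := ⟨Nat.prime_two⟩
  obtain ⟨hAS, hSA, hCA⟩ := hA
  have hAcomm : ∀ x ∈ A, ∀ y ∈ A, x * y = y * x := by
    intro x hx y hy
    have h1 : y ∈ (S : Subgroup G) ⊓ Subgroup.centralizer (A : Set G) := by rw [hCA]; exact hy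
    have h2 := (Subgroup.mem_inf.1 h1).2
    rw [Subgroup.mem_centralizer_iff] at h2
    exact h2 x hx
  -- the elementary abelian subgroup of order at least eight
  unfold Cfsg.PRankLE at hA3
  push Not at hA3
  obtain ⟨E, hEc, hE2, hEcard⟩ := hA3
  -- a nontrivial element `z0` of `E` and an element `u0` outside `⟨z0⟩`
  have hEnt : ∃ z0 ∈ E, z0 ≠ 1 := by
    by_contra hcon
    push Not at hcon
    have hEbot : E = ⊥ := by
      rw [eq_bot_iff]
      intro x hx
      rw [Subgroup.mem_bot]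
      exact hcon x hx
    rw [hEbot, Subgroup.card_bot] at hEcard
    omega
  obtain ⟨z0, hz0E, hz01⟩ := hEnt
  have hz0o : orderOf z0 = 2 := orderOf_eq_prime (hE2 z0 hz0E) hz01
  have hu : ∃ u0 ∈ E, u0 ∉ Subgroup.zpowers z0 := by
    by_contra hcon
    push Not at hcon
    have hle : E ≤ Subgroup.zpowers z0 := hcon
    have h1 : Nat.card ↥E ≤ Nat.card ↥(Subgroup.zpowers z0) := Subgroup.card_le_of_le hle
    rw [Nat.card_zpowers, hz0o] at h1
    omega
  obtain ⟨u0, hu0E, hu0z⟩ := hu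
  -- move to the Sylow subgroup
  have hSp : IsPGroup 2 ↥(S : Subgroup G) := S.isPGroup'
  set A' : Subgroup ↥(S : Subgroup G) := A.subgroupOf (S : Subgroup G) with hA'
  have hA'n : A'.Normal := (Subgroup.normal_subgroupOf_iff_le_normalizer hAS).mpr hSA
  have hmul : ∀ x ∈ A', ∀ y ∈ A', x ^ 2 = 1 → y ^ 2 = 1 → (x * y) ^ 2 = 1 := by
    intro x hx y hy hx2 hy2
    have hxy : Commute x y := by
      apply Subtype.ext
      have := hAcomm (x : G) (Subgroup.mem_subgroupOf.mp hx) (y : G) (Subgroup.mem_subgroupOf.mp hy)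
      simpa using this
    rw [hxy.mul_pow, hx2, hy2, one_mul]
  set z1 : ↥(S : Subgroup G) := ⟨((z0 : ↥A) : G), hAS z0.2⟩ with hz1
  set u1 : ↥(S : Subgroup G) := ⟨((u0 : ↥A) : G), hAS u0.2⟩ with hu1
  have hz1A : z1 ∈ A' := by rw [hA', Subgroup.mem_subgroupOf]; exact z0.2
  have hu1A : u1 ∈ A' := by rw [hA', Subgroup.mem_subgroupOf]; exact u0.2
  have hz1o : orderOf z1 = 2 := by
    rw [hz1, Subgroup.orderOf_mk, Subgroup.orderOf_coe, hz0o]
  have hu12 : u1 ^ 2 = 1 := by
    apply Subtype.ext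
    have h1 := hE2 u0 hu0E
    have h2 := congrArg (fun t : ↥A => (t : G)) h1
    simpa [hu1] using h2
  have hu1z : u1 ∉ Subgroup.zpowers z1 := by
    intro hmem
    apply hu0z
    obtain ⟨k, hk⟩ := Subgroup.mem_zpowers_iff.mp hmem
    rw [Subgroup.mem_zpowers_iff]
    refine ⟨k, ?_⟩
    apply Subtype.ext
    have h2 := congrArg (fun t : ↥(S : Subgroup G) => (t : G)) hk
    simpa [hz1, hu1] using h2
  obtain ⟨B, hBA, hBn, hB2, hBcard⟩ :=
    Cfsg.Agent.Lib.Helper26.exists_normal_sq hSp A' hmul z1 hz1A hz1o u1 hu1A hu12 hu1z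
  have := hBn
  have hBne : B ≠ ⊥ := by
    intro h
    rw [h, Subgroup.card_bot] at hBcard
    omega
  obtain ⟨z, hzB, hzc, hz1'⟩ := exists_center_mem_of_normal hSp B hBne
  -- a second element
  have ha : ∃ a ∈ B, a ≠ 1 ∧ a ≠ z := by
    by_contra hcon
    push Not at hcon
    have hsub : (B : Set ↥(S : Subgroup G)) ⊆ ({1, z} : Finset ↥(S : Subgroup G)) := by
      intro x hx
      by_cases hx1 : x = 1
      · simp [hx1]
      · have := hcon x hx hx1
        simp [this]
    have h1 : Nat.card ↥B ≤ 2 := by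
      have h2 : (B : Set ↥(S : Subgroup G)).ncard ≤ (({1, z} : Finset ↥(S : Subgroup G)) : Set _).ncard :=
        Set.ncard_le_ncard hsub (Finset.finite_toSet _)
      rw [Set.ncard_coe_finset] at h2
      have h3 : ({1, z} : Finset ↥(S : Subgroup G)).card ≤ 2 := Finset.card_le_two
      have h4 : (B : Set ↥(S : Subgroup G)).ncard = Nat.card ↥B := rfl
      omega
    omega
  obtain ⟨a, haB, ha1, haz⟩ := ha
  have hzz : z * z = 1 := by rw [← pow_two]; exact hB2 z hzB
  have haa : a * a = 1 := by rw [← pow_two]; exact hB2 a haB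
  -- `B = {1, z, a, a * z}`
  have haz1 : a * z ≠ 1 := by
    intro h
    apply haz
    have : a * z = z * z := by rw [h, hzz]
    exact mul_right_cancel this
  have haza : a * z ≠ a := by
    intro h
    apply hz1'
    have : a * z = a * 1 := by rw [h, mul_one]
    exact mul_left_cancel this
  have hazz : a * z ≠ z := by
    intro h
    apply ha1
    have : a * z = 1 * z := by rw [h, one_mul]
    exact mul_right_cancel this
  set T : Finset ↥(S : Subgroup G) := {1, z, a, a * z} with hT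
  have hTcard : T.card = 4 := by
    rw [hT]
    rw [Finset.card_insert_of_notMem, Finset.card_insert_of_notMem, Finset.card_insert_of_notMem,
      Finset.card_singleton]
    · simp only [Finset.mem_singleton]
      exact fun h => haza h.symm
    · simp only [Finset.mem_insert, Finset.mem_singleton, not_or]
      exact ⟨fun h => haz h.symm, fun h => hazz h.symm⟩
    · simp only [Finset.mem_insert, Finset.mem_singleton, not_or]
      exact ⟨fun h => hz1' h.symm, fun h => ha1 h.symm, fun h => haz1 h.symm⟩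
  have hTB : (T : Set ↥(S : Subgroup G)) ⊆ (B : Set ↥(S : Subgroup G)) := by
    intro x hx
    rw [hT] at hx
    simp only [Finset.coe_insert, Finset.coe_singleton, Set.mem_insert_iff,
      Set.mem_singleton_iff] at hx
    rcases hx with rfl | rfl | rfl | rfl
    · exact one_mem B
    · exact hzB
    · exact haB
    · exact mul_mem haB hzB
  have hTeq : (T : Set ↥(S : Subgroup G)) = (B : Set ↥(S : Subgroup G)) := by
    apply Set.eq_of_subset_of_ncard_le hTB _ (Set.toFinite _)
    rw [Set.ncard_coe_finset, hTcard]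
    have h4 : (B : Set ↥(S : Subgroup G)).ncard = Nat.card ↥B := rfl
    rw [h4, hBcard]
    norm_num
  have hzcomm : ∀ s : ↥(S : Subgroup G), s * z = z * s := by
    intro s
    exact (Subgroup.mem_center_iff.mp hzc s)
  refine ⟨(z : G), (a : G), z.2, a.2, ?_, ?_, ?_, ?_, ?_, ?_, ?_⟩
  · intro h; exact hz1' (Subtype.ext h)
  · intro h; exact ha1 (Subtype.ext h)
  · intro h; exact haz (Subtype.ext h)
  · have := congrArg (fun t : ↥(S : Subgroup G) => (t : G)) hzz
    simpa using this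
  · have := congrArg (fun t : ↥(S : Subgroup G) => (t : G)) haa
    simpa using this
  · intro s hs
    have := congrArg (fun t : ↥(S : Subgroup G) => (t : G)) (hzcomm ⟨s, hs⟩)
    simpa using this
  · intro s hs
    set s' : ↥(S : Subgroup G) := ⟨s, hs⟩ with hs'
    have hconj : s' * a * s'⁻¹ ∈ B := hBn.conj_mem a haB s'
    have hconj' : s' * a * s'⁻¹ ∈ (T : Set ↥(S : Subgroup G)) := by rw [hTeq]; exact hconj
    rw [hT] at hconj'
    simp only [Finset.coe_insert, Finset.coe_singleton, Set.mem_insert_iff,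
      Set.mem_singleton_iff] at hconj'
    rcases hconj' with h | h | h | h
    · exfalso
      apply ha1
      have : a = s'⁻¹ * (s' * a * s'⁻¹) * s' := by group
      rw [this, h]; group
    · exfalso
      apply haz
      have e : a = s'⁻¹ * (s' * a * s'⁻¹) * s' := by group
      rw [e, h, mul_assoc, ← hzcomm s']
      group
    · left
      have := congrArg (fun t : ↥(S : Subgroup G) => (t : G)) h
      simpa [hs'] using this
    · right
      have := congrArg (fun t : ↥(S : Subgroup G) => (t : G)) h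
      simpa [hs'] using this

end Cfsg.Agent.Lib.Helper60.CTC
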