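import Mathlib
import Cfsg.Agent.Lib.Helper60.Basic

set_option autoImplicit false

namespace Cfsg.Agent.Lib.Helper60

variable {G : Type*} [Group G]

local notation:max "cj[" g "] " X:max => Subgroup.map (MulEquiv.toMonoidHom (MulAut.conj g)) X

theorem cj_mul (g h : G) (X : Subgroup G) : cj[g * h] X = cj[g] (cj[h] X) := by
  ext a
  simp only [mem_map_conj_iff]
  simp [mul_assoc]

theorem cj_one (X : Subgroup G) : cj[(1 : G)] X = X := by
  ext a
  simp [mem_map_conj_iff]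

theorem cj_inv_cj (g : G) (X : Subgroup G) : cj[g⁻¹] (cj[g] X) = X := by
  rw [← cj_mul, inv_mul_cancel, cj_one]

theorem cj_cj_inv (g : G) (X : Subgroup G) : cj[g] (cj[g⁻¹] X) = X := by
  rw [← cj_mul, mul_inv_cancel, cj_one]

theorem cj_mono (g : G) {X Y : Subgroup G} (h : X ≤ Y) : cj[g] X ≤ cj[g] Y :=
  Subgroup.map_mono h

theorem cj_inj (g : G) {X Y : Subgroup G} (h : cj[g] X = cj[g] Y) : X = Y := by
  rw [← cj_inv_cj g X, h, cj_inv_cj]

theorem cj_le_iff (g : G) (X Y : Subgroup G) : cj[g] X ≤ Y ↔ X ≤ cj[g⁻¹] Y := by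
  constructor
  · intro h
    have := cj_mono g⁻¹ h
    rwa [cj_inv_cj] at this
  · intro h
    have := cj_mono g h
    rwa [cj_cj_inv] at this

theorem card_cj (g : G) (X : Subgroup G) : Nat.card ↥(cj[g] X) = Nat.card ↥X :=
  Subgroup.card_map_of_injective (MulAut.conj g).injective

theorem cj_eq_of_le [Finite G] (g : G) (X : Subgroup G) (h : cj[g] X ≤ X) : cj[g] X = X :=
  Subgroup.eq_of_le_of_card_ge h (le_of_eq (card_cj g X).symm)

theorem eq_of_le_of_card_eq_cj [Finite G] (g : G) (X Y : Subgroup G) (h : cj[g] X ≤ Y)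
    (hc : Nat.card ↥Y = Nat.card ↥X) : cj[g] X = Y :=
  Subgroup.eq_of_le_of_card_ge h (by rw [card_cj, hc])

theorem mem_normalizer_iff_cj (g : G) (X : Subgroup G) :
    g ∈ Subgroup.normalizer (X : Set G) ↔ cj[g] X = X :=
  Subgroup.mem_normalizer_iff_map_conj_eq

theorem sylow_smul_eq_cj {p : ℕ} (P : Sylow p G) (g : G) :
    ((g • P : Sylow p G) : Subgroup G) = cj[g] (P : Subgroup G) := by
  ext a
  rw [mem_map_conj_iff]
  rw [Sylow.coe_subgroup_smul]
  constructor
  · rintro ⟨b, hb, rfl⟩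
    have hb' : b ∈ (P : Subgroup G) := hb
    simpa [MulAut.smul_def, mul_assoc] using hb'
  · intro hb
    exact ⟨_, hb, by simp [MulAut.smul_def, mul_assoc]⟩

/-- the normalizer of a conjugate -/
theorem cj_le_normalizer_cj (g : G) {H X : Subgroup G}
    (h : H ≤ Subgroup.normalizer (X : Set G)) :
    cj[g] H ≤ Subgroup.normalizer ((cj[g] X : Subgroup G) : Set G) := by
  rw [Subgroup.le_normalizer_iff]
  intro t ht x hx
  rw [mem_map_conj_iff] at ht hx ⊢
  have := (Subgroup.le_normalizer_iff.mp h) _ ht _ hx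
  have e : g⁻¹ * (t * x * t⁻¹) * g = g⁻¹ * t * g * (g⁻¹ * x * g) * (g⁻¹ * t * g)⁻¹ := by
    simp [mul_assoc]
  rw [e]; exact this

end Cfsg.Agent.Lib.Helper60
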