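import Mathlib

set_option autoImplicit false

/-!
# Groups `G` with `G/Q` dihedral of order `2r`

`Q` a normal `2`-subgroup, `r` an odd prime, `R` a Sylow `r`-subgroup with `C_Q(R) = 1`.
-/

namespace Cfsg.Agent.Lib.Helper60.DihedralQuot

open DihedralGroup

/-! ### facts on the dihedral group of order `2r` -/

section Dih

variable {r : ℕ} [Fact r.Prime]

theorem two_ne_zero_zmod (hr : r ≠ 2) : (2 : ZMod r) ≠ 0 := by
  intro h
  have h2 : ((2 : ℕ) : ZMod r) = 0 := by exact_mod_cast h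
  rw [ZMod.natCast_eq_zero_iff] at h2
  exact hr ((Nat.prime_dvd_prime_iff_eq (Fact.out : r.Prime) Nat.prime_two).1 h2)

theorem odd_of_ne_two (hr : r ≠ 2) : Odd r := (Fact.out : r.Prime).odd_of_ne_two hr

theorem sq_eq_one_imp (hr : r ≠ 2) (d : DihedralGroup r) (h2 : d * d = 1) (h1 : d ≠ 1) :
    ∃ i, d = sr i := by
  cases d with
  | r i =>
    exfalso
    apply h1
    rw [DihedralGroup.r_mul_r, DihedralGroup.one_def] at h2
    have h3 : i + i = 0 := by injection h2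
    have h4 : (2 : ZMod r) * i = 0 := by rw [two_mul]; exact h3
    have h5 : i = 0 := by
      rcases mul_eq_zero.1 h4 with h | h
      · exact absurd h (two_ne_zero_zmod hr)
      · exact h
    rw [h5, DihedralGroup.one_def]
  | sr i => exact ⟨i, rfl⟩

theorem odd_pow_imp (d : DihedralGroup r) (m : ℕ) (hm : Odd m) (hd : d ^ m = 1) (h1 : d ≠ 1) :
    ∃ k, k ≠ 0 ∧ d = DihedralGroup.r k := by
  cases d with
  | r k =>
    refine ⟨k, ?_, rfl⟩
    intro hk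
    apply h1
    rw [hk, DihedralGroup.one_def]
  | sr i =>
    exfalso
    have h2 : orderOf (sr i : DihedralGroup r) = 2 := DihedralGroup.orderOf_sr i
    have h3 : 2 ∣ m := by rw [← h2]; exact orderOf_dvd_of_pow_eq_one hd
    exact (Nat.not_even_iff_odd.2 hm) (even_iff_two_dvd.2 h3)

/-- the rotation subgroup -/
def rot (n : ℕ) : Subgroup (DihedralGroup n) where
  carrier := {d | ∃ k, d = DihedralGroup.r k}
  mul_mem' := by
    rintro _ _ ⟨i, rfl⟩ ⟨j, rfl⟩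
    exact ⟨i + j, DihedralGroup.r_mul_r i j⟩
  one_mem' := ⟨0, DihedralGroup.one_def⟩
  inv_mem' := by
    rintro _ ⟨i, rfl⟩
    exact ⟨-i, DihedralGroup.inv_r i⟩

theorem mem_rot {n : ℕ} (d : DihedralGroup n) : d ∈ rot n ↔ ∃ k, d = DihedralGroup.r k := Iff.rfl

instance rot_normal (n : ℕ) : (rot n).Normal := by
  constructor
  rintro _ ⟨k, rfl⟩ g
  cases g with
  | r i =>
    refine ⟨k, ?_⟩
    rw [DihedralGroup.inv_r, DihedralGroup.r_mul_r, DihedralGroup.r_mul_r]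
    congr 1
    abel
  | sr i =>
    refine ⟨-k, ?_⟩
    rw [DihedralGroup.inv_sr, DihedralGroup.sr_mul_r, DihedralGroup.sr_mul_sr]
    congr 1
    abel

theorem sr_conj_r {n : ℕ} (i k : ZMod n) :
    (sr i : DihedralGroup n) * DihedralGroup.r k * (sr i)⁻¹ = DihedralGroup.r (-k) := by
  rw [DihedralGroup.inv_sr, DihedralGroup.sr_mul_r, DihedralGroup.sr_mul_sr]
  congr 1
  abel

end Dih

/-! ### the key computation -/

section Key

variable {G : Type*} [Group G]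

/-- If the involution-like element `a` inverts `ρ`, and `ρ` has no fixed points on the finite
normal subgroup `Q`, then every element of `Q` inverted by `t = ρ a` is of the form
`w⁻¹ t w t⁻¹` with `w ∈ C_Q(a)`. -/
theorem key (Q : Subgroup G) [hQn : Q.Normal] [Finite Q] (a ρ : G) (hinv : a * ρ * a⁻¹ = ρ⁻¹)
    (hfpf : ∀ q ∈ Q, q * ρ = ρ * q → q = 1) (z : G) (hz : z ∈ Q)
    (hzt : (ρ * a) * z * (ρ * a)⁻¹ = z⁻¹) :
    ∃ w ∈ Q, a * w * a⁻¹ = w ∧ z = w⁻¹ * (ρ * a) * w * (ρ * a)⁻¹ := by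
  let ψ : Q → Q := fun q => ⟨(q : G)⁻¹ * ρ * q * ρ⁻¹, by
    have h1 : ρ * (q : G) * ρ⁻¹ ∈ Q := hQn.conj_mem _ q.2 ρ
    have h2 : (q : G)⁻¹ ∈ Q := Q.inv_mem q.2
    have h3 : (q : G)⁻¹ * ρ * q * ρ⁻¹ = (q : G)⁻¹ * (ρ * q * ρ⁻¹) := by group
    rw [h3]; exact Q.mul_mem h2 h1⟩
  have hinj : Function.Injective ψ := by
    intro q q' h
    have h' : (q : G)⁻¹ * ρ * q * ρ⁻¹ = (q' : G)⁻¹ * ρ * q' * ρ⁻¹ := congrArg Subtype.val h
    have h3 : (q : G)⁻¹ * ρ * q = (q' : G)⁻¹ * ρ * q' := mul_right_cancel h'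
    have h2 : ((q' : G) * (q : G)⁻¹) * ρ = ρ * ((q' : G) * (q : G)⁻¹) := by
      calc (q' : G) * (q : G)⁻¹ * ρ = q' * ((q : G)⁻¹ * ρ * q) * (q : G)⁻¹ := by group
        _ = q' * ((q' : G)⁻¹ * ρ * q') * (q : G)⁻¹ := by rw [h3]
        _ = ρ * ((q' : G) * (q : G)⁻¹) := by group
    have h4 := hfpf _ (Q.mul_mem q'.2 (Q.inv_mem q.2)) h2
    have h5 : (q' : G) = q := by rwa [mul_inv_eq_one] at h4
    exact Subtype.ext h5.symm
  have hsurj : Function.Surjective ψ := Finite.injective_iff_surjective.1 hinj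
  obtain ⟨w, hw⟩ := hsurj ⟨z, hz⟩
  have hw' : (w : G)⁻¹ * ρ * w * ρ⁻¹ = z := congrArg Subtype.val hw
  have hw'Q : a * (w : G) * a⁻¹ ∈ Q := hQn.conj_mem _ w.2 a
  have e1 : a * ρ⁻¹ * a⁻¹ = ρ := by
    have h : (a * ρ * a⁻¹)⁻¹ = (ρ⁻¹)⁻¹ := by rw [hinv]
    rw [inv_inv] at h
    calc a * ρ⁻¹ * a⁻¹ = (a * ρ * a⁻¹)⁻¹ := by group
      _ = ρ := h
  have h1 : (ρ * a) * z * (ρ * a)⁻¹ = ρ * (a * (w : G) * a⁻¹)⁻¹ * ρ⁻¹ * (a * (w : G) * a⁻¹) := by
    rw [← hw']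
    calc (ρ * a) * ((w : G)⁻¹ * ρ * w * ρ⁻¹) * (ρ * a)⁻¹
        = ρ * (a * (w : G)⁻¹ * a⁻¹) * (a * ρ * a⁻¹) * (a * w * a⁻¹) * (a * ρ⁻¹ * a⁻¹) * ρ⁻¹ := by
          group
      _ = ρ * (a * (w : G)⁻¹ * a⁻¹) * ρ⁻¹ * (a * w * a⁻¹) * ρ * ρ⁻¹ := by rw [hinv, e1]
      _ = ρ * (a * (w : G) * a⁻¹)⁻¹ * ρ⁻¹ * (a * (w : G) * a⁻¹) := by group
  have h2 : z⁻¹ = ρ * (w : G)⁻¹ * ρ⁻¹ * w := by rw [← hw']; group
  have h3 : ρ * (a * (w : G) * a⁻¹)⁻¹ * ρ⁻¹ * (a * (w : G) * a⁻¹) = ρ * (w : G)⁻¹ * ρ⁻¹ * w := by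
    rw [← h1, ← h2, hzt]
  have h6 : (a * (w : G) * a⁻¹)⁻¹ * ρ * (a * (w : G) * a⁻¹) = (w : G)⁻¹ * ρ * w := by
    have h5 : (a * (w : G) * a⁻¹)⁻¹ * ρ⁻¹ * (a * (w : G) * a⁻¹) = (w : G)⁻¹ * ρ⁻¹ * w := by
      have h : ρ⁻¹ * (ρ * (a * (w : G) * a⁻¹)⁻¹ * ρ⁻¹ * (a * (w : G) * a⁻¹))
          = ρ⁻¹ * (ρ * (w : G)⁻¹ * ρ⁻¹ * w) := by rw [h3]
      calc (a * (w : G) * a⁻¹)⁻¹ * ρ⁻¹ * (a * (w : G) * a⁻¹)
          = ρ⁻¹ * (ρ * (a * (w : G) * a⁻¹)⁻¹ * ρ⁻¹ * (a * (w : G) * a⁻¹)) := by group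
        _ = ρ⁻¹ * (ρ * (w : G)⁻¹ * ρ⁻¹ * w) := h
        _ = (w : G)⁻¹ * ρ⁻¹ * w := by group
    have h : ((a * (w : G) * a⁻¹)⁻¹ * ρ⁻¹ * (a * (w : G) * a⁻¹))⁻¹ = ((w : G)⁻¹ * ρ⁻¹ * w)⁻¹ := by
      rw [h5]
    calc (a * (w : G) * a⁻¹)⁻¹ * ρ * (a * (w : G) * a⁻¹)
        = ((a * (w : G) * a⁻¹)⁻¹ * ρ⁻¹ * (a * (w : G) * a⁻¹))⁻¹ := by group
      _ = ((w : G)⁻¹ * ρ⁻¹ * w)⁻¹ := h
      _ = (w : G)⁻¹ * ρ * w := by group
  have h4 : ((a * (w : G) * a⁻¹) * (w : G)⁻¹) * ρ = ρ * ((a * (w : G) * a⁻¹) * (w : G)⁻¹) := by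
    calc (a * (w : G) * a⁻¹) * (w : G)⁻¹ * ρ
        = (a * (w : G) * a⁻¹) * ((w : G)⁻¹ * ρ * w) * (w : G)⁻¹ := by group
      _ = (a * (w : G) * a⁻¹) * ((a * (w : G) * a⁻¹)⁻¹ * ρ * (a * (w : G) * a⁻¹)) * (w : G)⁻¹ := by
          rw [h6]
      _ = ρ * ((a * (w : G) * a⁻¹) * (w : G)⁻¹) := by group
  have h7 := hfpf _ (Q.mul_mem hw'Q (Q.inv_mem w.2)) h4
  have h8 : a * (w : G) * a⁻¹ = w := by rwa [mul_inv_eq_one] at h7
  refine ⟨w, w.2, h8, ?_⟩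
  rw [← hw']
  have h9 : a * (w : G) = w * a := by
    calc a * (w : G) = (a * w * a⁻¹) * a := by group
      _ = w * a := by rw [h8]
  calc (w : G)⁻¹ * ρ * w * ρ⁻¹ = (w : G)⁻¹ * ρ * (w * a) * a⁻¹ * ρ⁻¹ := by group
    _ = (w : G)⁻¹ * ρ * (a * w) * a⁻¹ * ρ⁻¹ := by rw [h9]
    _ = (w : G)⁻¹ * (ρ * a) * w * (ρ * a)⁻¹ := by group

end Key


/-! ### the main setting -/

section Main

set_option linter.unusedSectionVars false
set_option linter.unusedVariables false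

variable {G : Type*} [Group G] [Finite G] {r : ℕ} [Fact r.Prime]

/-- `π : G → D_{2r}` surjective with kernel the `2`-group `Q`, `r` odd, and the Sylow
`r`-subgroup `R` has no fixed points on `Q`. -/
structure Setup (Q : Subgroup G) (π : G →* DihedralGroup r) (R : Sylow r G) : Prop where
  hr : r ≠ 2
  surj : Function.Surjective π
  ker : π.ker = Q
  two : IsPGroup 2 Q
  fpf : Q ⊓ Subgroup.centralizer ((R : Subgroup G) : Set G) = ⊥

namespace Setup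

variable {Q : Subgroup G} {π : G →* DihedralGroup r} {R : Sylow r G}

theorem mem_Q_iff (h : Setup Q π R) (x : G) : x ∈ Q ↔ π x = 1 := by
  rw [← h.ker, MonoidHom.mem_ker]

theorem normal (h : Setup Q π R) : Q.Normal := by
  rw [← h.ker]; infer_instance

theorem inf_eq_bot (h : Setup Q π R) : Q ⊓ (R : Subgroup G) = ⊥ := by
  have hdisj : Disjoint Q (R : Subgroup G) :=
    IsPGroup.disjoint_of_ne 2 r (Ne.symm h.hr) _ _ h.two R.isPGroup'
  exact disjoint_iff.1 hdisj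

theorem eq_of_map_eq (h : Setup Q π R) {x y : G} (hx : x ∈ (R : Subgroup G))
    (hy : y ∈ (R : Subgroup G)) (hxy : π x = π y) : x = y := by
  have h1 : x * y⁻¹ ∈ Q := by
    rw [h.mem_Q_iff, map_mul, map_inv, hxy, mul_inv_cancel]
  have h2 : x * y⁻¹ ∈ (R : Subgroup G) :=
    (R : Subgroup G).mul_mem hx ((R : Subgroup G).inv_mem hy)
  have h3 : x * y⁻¹ ∈ Q ⊓ (R : Subgroup G) := ⟨h1, h2⟩
  rw [h.inf_eq_bot, Subgroup.mem_bot] at h3
  exact mul_inv_eq_one.1 h3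

theorem map_mem_rot (h : Setup Q π R) {x : G} (hx : x ∈ (R : Subgroup G)) :
    ∃ k, π x = DihedralGroup.r k := by
  by_cases h1 : π x = 1
  · exact ⟨0, by rw [h1, DihedralGroup.one_def]⟩
  · obtain ⟨n, hn⟩ := R.isPGroup' ⟨x, hx⟩
    have hn' : x ^ (r ^ n) = 1 := by
      have h0 := congrArg Subtype.val hn
      simpa using h0
    have h2 : (π x) ^ (r ^ n) = 1 := by rw [← map_pow, hn', map_one]
    obtain ⟨k, -, hk⟩ := odd_pow_imp (π x) (r ^ n) ((odd_of_ne_two h.hr).pow) h2 h1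
    exact ⟨k, hk⟩

theorem exists_ne_one (h : Setup Q π R) : ∃ ρ ∈ (R : Subgroup G), ρ ≠ 1 := by
  have h1 : Nat.card (DihedralGroup r) ∣ Nat.card G := Subgroup.card_dvd_of_surjective π h.surj
  rw [DihedralGroup.nat_card] at h1
  have h2 : r ∣ Nat.card G := dvd_trans (dvd_mul_left r 2) h1
  have h3 : (R : Subgroup G) ≠ ⊥ := Sylow.ne_bot_of_dvd_card R h2
  obtain ⟨x, hx⟩ := (Subgroup.ne_bot_iff_exists_ne_one.1 h3)
  refine ⟨x, x.2, ?_⟩
  intro h4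
  exact hx (Subtype.ext h4)

/-- a nontrivial element of `R` maps to a nontrivial rotation -/
theorem exists_gen (h : Setup Q π R) :
    ∃ ρ ∈ (R : Subgroup G), ∃ k : ZMod r, k ≠ 0 ∧ π ρ = DihedralGroup.r k := by
  obtain ⟨ρ, hρ, hρ1⟩ := h.exists_ne_one
  obtain ⟨k, hk⟩ := h.map_mem_rot hρ
  refine ⟨ρ, hρ, k, ?_, hk⟩
  intro hk0
  apply hρ1
  apply h.eq_of_map_eq hρ (R : Subgroup G).one_mem
  rw [hk, hk0, map_one, DihedralGroup.one_def]

theorem exists_pow_map (h : Setup Q π R) {ρ : G} {k : ZMod r} (hk : k ≠ 0)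
    (hρk : π ρ = DihedralGroup.r k) (j : ZMod r) : ∃ m : ℕ, π (ρ ^ m) = DihedralGroup.r j := by
  refine ⟨(j / k).val, ?_⟩
  rw [map_pow, hρk, DihedralGroup.r_pow, ZMod.natCast_zmod_val, mul_div_cancel₀ _ hk]

theorem exists_pow (h : Setup Q π R) {ρ : G} (hρ : ρ ∈ (R : Subgroup G)) {k : ZMod r} (hk : k ≠ 0)
    (hρk : π ρ = DihedralGroup.r k) {x : G} (hx : x ∈ (R : Subgroup G)) : ∃ m : ℕ, x = ρ ^ m := by
  obtain ⟨j, hj⟩ := h.map_mem_rot hx
  obtain ⟨m, hm⟩ := h.exists_pow_map hk hρk j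
  refine ⟨m, ?_⟩
  apply h.eq_of_map_eq hx ((R : Subgroup G).pow_mem hρ m)
  rw [hj, hm]

/-- Frattini argument: the normaliser of `R` covers the quotient -/
theorem exists_normalizer_map (h : Setup Q π R) (d : DihedralGroup r) :
    ∃ n ∈ Subgroup.normalizer ((R : Subgroup G) : Set G), π n = d := by
  obtain ⟨ρ, hρ, k, hk, hρk⟩ := h.exists_gen
  obtain ⟨g, hg⟩ := h.surj d
  have hRK : (R : Subgroup G) ≤ (rot r).comap π := by
    intro x hx
    rw [Subgroup.mem_comap, mem_rot]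
    exact h.map_mem_rot hx
  have htop : Subgroup.normalizer ((R : Subgroup G) : Set G) ⊔ (rot r).comap π = ⊤ :=
    Sylow.normalizer_sup_eq_top' R hRK
  have hg' : g ∈ Subgroup.normalizer ((R : Subgroup G) : Set G) ⊔ (rot r).comap π := by
    rw [htop]; exact Subgroup.mem_top g
  rw [← SetLike.mem_coe, Subgroup.mul_normal, Set.mem_mul] at hg'
  obtain ⟨n, hn, y, hy, hny⟩ := hg'
  have hy' : ∃ j, π y = DihedralGroup.r j := by
    have h0 : π y ∈ rot r := Subgroup.mem_comap.1 hy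
    exact (mem_rot _).1 h0
  obtain ⟨j, hj⟩ := hy'
  obtain ⟨m, hm⟩ := h.exists_pow_map hk hρk j
  refine ⟨n * ρ ^ m, ?_, ?_⟩
  · exact Subgroup.mul_mem _ hn (Subgroup.le_normalizer ((R : Subgroup G).pow_mem hρ m))
  · rw [map_mul, hm, ← hj, ← map_mul, hny, hg]

theorem normalizer_inf (h : Setup Q π R) {n : G}
    (hn : n ∈ Subgroup.normalizer ((R : Subgroup G) : Set G)) (hnQ : n ∈ Q) : n = 1 := by
  have h1 : n ∈ Q ⊓ Subgroup.centralizer ((R : Subgroup G) : Set G) := by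
    refine Subgroup.mem_inf.2 ⟨hnQ, ?_⟩
    rw [Subgroup.mem_centralizer_iff]
    intro x hx
    have hx' : x ∈ (R : Subgroup G) := hx
    have h2 : n * x * n⁻¹ ∈ (R : Subgroup G) := (Subgroup.mem_normalizer_iff.1 hn x).1 hx'
    have h3 : n * x * n⁻¹ = x := by
      apply h.eq_of_map_eq h2 hx'
      rw [map_mul, map_mul, map_inv, (h.mem_Q_iff n).1 hnQ, one_mul, inv_one, mul_one]
    calc x * n = (n * x * n⁻¹) * n := by rw [h3]
      _ = n * x := by group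
  rw [h.fpf, Subgroup.mem_bot] at h1
  exact h1

/-- `N_G(R)` is dihedral of order `2r` -/
theorem normalizer_equiv (h : Setup Q π R) :
    Nonempty (↥(Subgroup.normalizer ((R : Subgroup G) : Set G)) ≃* DihedralGroup r) := by
  refine ⟨MulEquiv.ofBijective
    (π.comp (Subgroup.normalizer ((R : Subgroup G) : Set G)).subtype) ⟨?_, ?_⟩⟩
  · rw [injective_iff_map_eq_one]
    intro n hn
    have h1 : π (n : G) = 1 := hn
    have h2 : (n : G) = 1 := h.normalizer_inf n.2 ((h.mem_Q_iff _).2 h1)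
    exact Subtype.ext h2
  · intro d
    obtain ⟨n, hn, hnd⟩ := h.exists_normalizer_map d
    exact ⟨⟨n, hn⟩, hnd⟩

/-- an element of square one outside `Q` maps to a reflection -/
theorem map_eq_sr_of_sq (h : Setup Q π R) {a : G} (haa : a * a = 1) (haQ : a ∉ Q) :
    ∃ i, π a = sr i := by
  apply sq_eq_one_imp h.hr
  · rw [← map_mul, haa, map_one]
  · intro h1; exact haQ ((h.mem_Q_iff a).2 h1)

theorem inverts (h : Setup Q π R) {a : G}
    (ha : a ∈ Subgroup.normalizer ((R : Subgroup G) : Set G)) {i : ZMod r} (hai : π a = sr i)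
    {x : G} (hx : x ∈ (R : Subgroup G)) : a * x * a⁻¹ = x⁻¹ := by
  have h2 : a * x * a⁻¹ ∈ (R : Subgroup G) := (Subgroup.mem_normalizer_iff.1 ha x).1 hx
  obtain ⟨k, hk⟩ := h.map_mem_rot hx
  apply h.eq_of_map_eq h2 ((R : Subgroup G).inv_mem hx)
  rw [map_mul, map_mul, map_inv, map_inv, hai, hk, sr_conj_r, DihedralGroup.inv_r]

theorem fpf_gen (h : Setup Q π R) {ρ : G} (hρ : ρ ∈ (R : Subgroup G)) {k : ZMod r} (hk : k ≠ 0)
    (hρk : π ρ = DihedralGroup.r k) : ∀ q ∈ Q, q * ρ = ρ * q → q = 1 := by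
  intro q hq hc
  have h1 : q ∈ Q ⊓ Subgroup.centralizer ((R : Subgroup G) : Set G) := by
    refine Subgroup.mem_inf.2 ⟨hq, ?_⟩
    rw [Subgroup.mem_centralizer_iff]
    intro x hx
    have hx' : x ∈ (R : Subgroup G) := hx
    obtain ⟨m, rfl⟩ := h.exists_pow hρ hk hρk hx'
    have h0 : Commute q (ρ ^ m) := (show Commute q ρ from hc).pow_right m
    exact h0.eq.symm
  rw [h.fpf, Subgroup.mem_bot] at h1
  exact h1

/-- involutions with the same image, one of them in `N_G(R)`, are conjugate under `Q` -/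
theorem conj_of_map_eq (h : Setup Q π R) {a b : G}
    (ha : a ∈ Subgroup.normalizer ((R : Subgroup G) : Set G)) (haa : a * a = 1) {i : ZMod r}
    (hai : π a = sr i) (hbb : b * b = 1) (hab : π b = π a) : ∃ w ∈ Q, b = w⁻¹ * a * w := by
  obtain ⟨ρ, hρ, k, hk, hρk⟩ := h.exists_gen
  have hQn := h.normal
  have hinv : a * ρ * a⁻¹ = ρ⁻¹ := h.inverts ha hai hρ
  have ha_inv : a⁻¹ = a := inv_eq_of_mul_eq_one_left haa
  have hb_inv : b⁻¹ = b := inv_eq_of_mul_eq_one_left hbb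
  have hinv0 : (ρ⁻¹ * a) * ρ * (ρ⁻¹ * a)⁻¹ = ρ⁻¹ := by
    calc (ρ⁻¹ * a) * ρ * (ρ⁻¹ * a)⁻¹ = ρ⁻¹ * (a * ρ * a⁻¹) * ρ := by group
      _ = ρ⁻¹ * ρ⁻¹ * ρ := by rw [hinv]
      _ = ρ⁻¹ := by group
  have hz : b * a⁻¹ ∈ Q := by rw [h.mem_Q_iff, map_mul, map_inv, hab, mul_inv_cancel]
  have e : ρ * (ρ⁻¹ * a) = a := by group
  have hzt : (ρ * (ρ⁻¹ * a)) * (b * a⁻¹) * (ρ * (ρ⁻¹ * a))⁻¹ = (b * a⁻¹)⁻¹ := by
    rw [e, ha_inv]
    calc a * (b * a) * a = a * b * (a * a) := by group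
      _ = a * b := by rw [haa, mul_one]
      _ = (b * a)⁻¹ := by rw [mul_inv_rev, ha_inv, hb_inv]
  obtain ⟨w, hw, -, hzw⟩ := key Q (ρ⁻¹ * a) ρ hinv0 (h.fpf_gen hρ hk hρk) (b * a⁻¹) hz hzt
  refine ⟨w, hw, ?_⟩
  rw [e] at hzw
  calc b = (b * a⁻¹) * a := by group
    _ = (w⁻¹ * a * w * a⁻¹) * a := by rw [hzw]
    _ = w⁻¹ * a * w := by group

theorem sq_of_orderOf {a : G} (ha2 : orderOf a = 2) : a * a = 1 := by
  rw [← pow_two, ← ha2, pow_orderOf_eq_one]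

theorem ne_one_of_orderOf {a : G} (ha2 : orderOf a = 2) : a ≠ 1 := by
  intro h1
  rw [h1, orderOf_one] at ha2
  omega

/-- every involution outside `Q` is conjugate to any involution of `N_G(R)` -/
theorem conj_involution (h : Setup Q π R) {a : G}
    (ha : a ∈ Subgroup.normalizer ((R : Subgroup G) : Set G)) (ha2 : orderOf a = 2) {b : G}
    (hb2 : orderOf b = 2) (hbQ : b ∉ Q) : ∃ g, g * a * g⁻¹ = b := by
  have haa : a * a = 1 := sq_of_orderOf ha2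
  have hbb : b * b = 1 := sq_of_orderOf hb2
  have ha1 : a ≠ 1 := ne_one_of_orderOf ha2
  have haQ : a ∉ Q := fun hq => ha1 (h.normalizer_inf ha hq)
  obtain ⟨i, hai⟩ := h.map_eq_sr_of_sq haa haQ
  obtain ⟨j, hbj⟩ := h.map_eq_sr_of_sq hbb hbQ
  have h2ne := two_ne_zero_zmod h.hr
  obtain ⟨n, hn, hnm⟩ := h.exists_normalizer_map (DihedralGroup.r ((i - j) / 2))
  have hmm : (i - j) / 2 + (i - j) / 2 = i - j := by rw [← two_mul, mul_div_cancel₀ _ h2ne]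
  have ha' : n * a * n⁻¹ ∈ Subgroup.normalizer ((R : Subgroup G) : Set G) :=
    Subgroup.mul_mem _ (Subgroup.mul_mem _ hn ha) (Subgroup.inv_mem _ hn)
  have ha'a' : (n * a * n⁻¹) * (n * a * n⁻¹) = 1 := by
    calc (n * a * n⁻¹) * (n * a * n⁻¹) = n * (a * a) * n⁻¹ := by group
      _ = 1 := by rw [haa]; group
  have ha'j : π (n * a * n⁻¹) = sr j := by
    rw [map_mul, map_mul, map_inv, hnm, hai, DihedralGroup.inv_r, DihedralGroup.r_mul_sr,
      DihedralGroup.sr_mul_r]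
    congr 1
    linear_combination (-1 : ZMod r) * hmm
  obtain ⟨w, hw, hbw⟩ := h.conj_of_map_eq ha' ha'a' ha'j hbb (hbj.trans ha'j.symm)
  refine ⟨w⁻¹ * n, ?_⟩
  rw [hbw]; group

theorem mem_inf_centralizer {Q : Subgroup G} {a x : G} :
    x ∈ Q ⊓ Subgroup.centralizer ({a} : Set G) ↔ x ∈ Q ∧ x * a = a * x := by
  rw [Subgroup.mem_inf, Subgroup.mem_centralizer_singleton_iff]

/-- `|C_Q(a)|² = |Q|` for an involution `a` of `N_G(R)` -/
theorem card_centralizer_sq (h : Setup Q π R) {a : G}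
    (ha : a ∈ Subgroup.normalizer ((R : Subgroup G) : Set G)) (ha2 : orderOf a = 2) :
    Nat.card ↥(Q ⊓ Subgroup.centralizer ({a} : Set G)) ^ 2 = Nat.card ↥Q := by
  obtain ⟨ρ, hρ, k, hk, hρk⟩ := h.exists_gen
  have hQn := h.normal
  have haa : a * a = 1 := sq_of_orderOf ha2
  have ha1 : a ≠ 1 := ne_one_of_orderOf ha2
  have haQ : a ∉ Q := fun hq => ha1 (h.normalizer_inf ha hq)
  obtain ⟨i, hai⟩ := h.map_eq_sr_of_sq haa haQ
  have hinv : a * ρ * a⁻¹ = ρ⁻¹ := h.inverts ha hai hρ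
  have hfpf := h.fpf_gen hρ hk hρk
  have htt : (ρ * a) * (ρ * a) = 1 := by
    calc (ρ * a) * (ρ * a) = ρ * (a * ρ * a⁻¹) * (a * a) := by group
      _ = 1 := by rw [hinv, haa]; group
  have htQ : ρ * a ∉ Q := by
    rw [h.mem_Q_iff, map_mul, hρk, hai, DihedralGroup.r_mul_sr, DihedralGroup.one_def]
    intro h1
    cases h1
  have ht1 : ρ * a ≠ 1 := fun h1 => htQ (h1 ▸ Q.one_mem)
  have ht2 : orderOf (ρ * a) = 2 := orderOf_eq_prime (by rw [pow_two]; exact htt) ht1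
  have ht_inv : (ρ * a)⁻¹ = ρ * a := inv_eq_of_mul_eq_one_left htt
  obtain ⟨g, hg⟩ := h.conj_involution ha ha2 ht2 htQ
  have hAB : Nat.card ↥(Q ⊓ Subgroup.centralizer ({a} : Set G))
      = Nat.card ↥(Q ⊓ Subgroup.centralizer ({ρ * a} : Set G)) := by
    apply Nat.card_congr
    refine
      { toFun := fun x => ⟨g * (x : G) * g⁻¹, ?_⟩
        invFun := fun y => ⟨g⁻¹ * (y : G) * g, ?_⟩
        left_inv := ?_
        right_inv := ?_ }
    · have hx := mem_inf_centralizer.1 x.2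
      refine mem_inf_centralizer.2 ⟨hQn.conj_mem _ hx.1 g, ?_⟩
      rw [← hg]
      calc g * (x : G) * g⁻¹ * (g * a * g⁻¹) = g * ((x : G) * a) * g⁻¹ := by group
        _ = g * (a * (x : G)) * g⁻¹ := by rw [hx.2]
        _ = g * a * g⁻¹ * (g * (x : G) * g⁻¹) := by group
    · have hy := mem_inf_centralizer.1 y.2
      refine mem_inf_centralizer.2 ⟨?_, ?_⟩
      · have h0 := hQn.conj_mem _ hy.1 g⁻¹
        rwa [inv_inv] at h0
      · have hy2 : (y : G) * (g * a * g⁻¹) = (g * a * g⁻¹) * (y : G) := by rw [hg]; exact hy.2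
        calc g⁻¹ * (y : G) * g * a = g⁻¹ * ((y : G) * (g * a * g⁻¹)) * g := by group
          _ = g⁻¹ * ((g * a * g⁻¹) * (y : G)) * g := by rw [hy2]
          _ = a * (g⁻¹ * (y : G) * g) := by group
    · intro x
      apply Subtype.ext
      show g⁻¹ * (g * (x : G) * g⁻¹) * g = x
      group
    · intro y
      apply Subtype.ext
      show g * (g⁻¹ * (y : G) * g) * g⁻¹ = y
      group
  have hprod : Nat.card (↥(Q ⊓ Subgroup.centralizer ({ρ * a} : Set G)) ×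
      ↥(Q ⊓ Subgroup.centralizer ({a} : Set G))) = Nat.card ↥Q := by
    apply Nat.card_congr
    apply Equiv.ofBijective (fun p => (⟨(p.1 : G) * (p.2 : G),
      Q.mul_mem (mem_inf_centralizer.1 p.1.2).1 (mem_inf_centralizer.1 p.2.2).1⟩ : Q))
    constructor
    · rintro ⟨b₁, w₁⟩ ⟨b₂, w₂⟩ hbw
      have hbw' : (b₁ : G) * (w₁ : G) = (b₂ : G) * (w₂ : G) := congrArg Subtype.val hbw
      have hb₁ := mem_inf_centralizer.1 b₁.2
      have hb₂ := mem_inf_centralizer.1 b₂.2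
      have hw₁ := mem_inf_centralizer.1 w₁.2
      have hw₂ := mem_inf_centralizer.1 w₂.2
      have e1 : (b₂ : G)⁻¹ * (b₁ : G) = (w₂ : G) * (w₁ : G)⁻¹ := by
        calc (b₂ : G)⁻¹ * (b₁ : G) = (b₂ : G)⁻¹ * ((b₁ : G) * (w₁ : G)) * (w₁ : G)⁻¹ := by group
          _ = (b₂ : G)⁻¹ * ((b₂ : G) * (w₂ : G)) * (w₁ : G)⁻¹ := by rw [hbw']
          _ = (w₂ : G) * (w₁ : G)⁻¹ := by group
      have hc1 : Commute ((b₂ : G)⁻¹ * (b₁ : G)) (ρ * a) :=
        (show Commute (b₂ : G) (ρ * a) from hb₂.2).inv_left.mul_left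
          (show Commute (b₁ : G) (ρ * a) from hb₁.2)
      have hc2 : Commute ((b₂ : G)⁻¹ * (b₁ : G)) a := by
        rw [e1]
        exact (show Commute (w₂ : G) a from hw₂.2).mul_left
          (show Commute (w₁ : G) a from hw₁.2).inv_left
      have hc3 : Commute ((b₂ : G)⁻¹ * (b₁ : G)) ((ρ * a) * a⁻¹) := hc1.mul_right hc2.inv_right
      have h0 : (ρ * a) * a⁻¹ = ρ := by group
      rw [h0] at hc3
      have h1 := hfpf _ (Q.mul_mem (Q.inv_mem hb₂.1) hb₁.1) hc3.eq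
      have hb : (b₁ : G) = b₂ := by
        have h0 := inv_mul_eq_one.1 h1
        exact h0.symm
      have hw : (w₁ : G) = w₂ := by
        rw [hb] at hbw'
        exact mul_left_cancel hbw'
      exact Prod.ext (Subtype.ext hb) (Subtype.ext hw)
    · rintro ⟨q, hq⟩
      have hz : (q⁻¹ * (ρ * a) * q * (ρ * a)⁻¹) ∈ Q := by
        have h0 : q⁻¹ * (ρ * a) * q * (ρ * a)⁻¹ = q⁻¹ * ((ρ * a) * q * (ρ * a)⁻¹) := by group
        rw [h0]
        exact Q.mul_mem (Q.inv_mem hq) (hQn.conj_mem _ hq _)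
      have hzt : (ρ * a) * (q⁻¹ * (ρ * a) * q * (ρ * a)⁻¹) * (ρ * a)⁻¹
          = (q⁻¹ * (ρ * a) * q * (ρ * a)⁻¹)⁻¹ := by
        rw [ht_inv]
        calc (ρ * a) * (q⁻¹ * (ρ * a) * q * (ρ * a)) * (ρ * a)
            = (ρ * a) * q⁻¹ * (ρ * a) * q * ((ρ * a) * (ρ * a)) := by group
          _ = (ρ * a) * q⁻¹ * (ρ * a) * q := by rw [htt, mul_one]
          _ = (ρ * a)⁻¹ * q⁻¹ * (ρ * a)⁻¹ * q := by rw [ht_inv]
          _ = (q⁻¹ * (ρ * a) * q * (ρ * a))⁻¹ := by group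
      obtain ⟨w, hw, hwa, hzw⟩ := key Q a ρ hinv hfpf _ hz hzt
      have hconj : q⁻¹ * (ρ * a) * q = w⁻¹ * (ρ * a) * w := by
        have h0 := congrArg (fun y => y * (ρ * a)) hzw
        simpa [mul_assoc] using h0
      have hb : q * w⁻¹ ∈ Q ⊓ Subgroup.centralizer ({ρ * a} : Set G) := by
        refine mem_inf_centralizer.2 ⟨Q.mul_mem hq (Q.inv_mem hw), ?_⟩
        calc q * w⁻¹ * (ρ * a) = q * (w⁻¹ * (ρ * a) * w) * w⁻¹ := by group
          _ = q * (q⁻¹ * (ρ * a) * q) * w⁻¹ := by rw [hconj]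
          _ = (ρ * a) * (q * w⁻¹) := by group
      have hwA : w ∈ Q ⊓ Subgroup.centralizer ({a} : Set G) := by
        refine mem_inf_centralizer.2 ⟨hw, ?_⟩
        calc w * a = (a * w * a⁻¹) * a := by rw [hwa]
          _ = a * w := by group
      refine ⟨(⟨q * w⁻¹, hb⟩, ⟨w, hwA⟩), ?_⟩
      apply Subtype.ext
      show q * w⁻¹ * w = q
      group
  rw [pow_two, ← hprod, Nat.card_prod, hAB]

/-- all conclusions together -/
theorem main (h : Setup Q π R) :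
    Nonempty (↥(Subgroup.normalizer ((R : Subgroup G) : Set G)) ≃* DihedralGroup r) ∧
    ∀ a : G, a ∈ Subgroup.normalizer ((R : Subgroup G) : Set G) → orderOf a = 2 →
      (∀ b : G, orderOf b = 2 → b ∉ Q → ∃ g : G, g * a * g⁻¹ = b) ∧
      Nat.card ↥(Q ⊓ Subgroup.centralizer ({a} : Set G)) ^ 2 = Nat.card ↥Q :=
  ⟨h.normalizer_equiv, fun _ ha ha2 =>
    ⟨fun _ hb2 hbQ => h.conj_involution ha ha2 hb2 hbQ, h.card_centralizer_sq ha ha2⟩⟩

end Setup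

end Main

end Cfsg.Agent.Lib.Helper60.DihedralQuot
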