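import Mathlib
import Cfsg.Agent.Lib.Helper96.FC91Defs
import Cfsg.Agent.Lib.Helper97.UniqueOrderP
import Cfsg.Agent.Lib.Helper20.QuaternionFacts
import Cfsg.Agent.Lib.Helper01.FCStructA

/-!
# K-S4291-QUAT (keystone 429105, architect helper96): commutator subgroup of a non-cyclic 2-group with
one involution.
-/

set_option autoImplicit false
set_option linter.style.haveILetI false

namespace Cfsg.Agent.Lib.Helper60.FC91

open QuaternionGroup
open Cfsg.Agent.Lib.Helper96.FC91
open scoped commutatorElement

universe u

/-- the parity map of a quaternion group -/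
def quatParFun (m : ℕ) : QuaternionGroup m → Multiplicative (ZMod 2 × ZMod 2)
  | a i => Multiplicative.ofAdd (ZMod.castHom (dvd_mul_right 2 m) (ZMod 2) i, 0)
  | xa i => Multiplicative.ofAdd (ZMod.castHom (dvd_mul_right 2 m) (ZMod 2) i, 1)

theorem quatParFun_a (m : ℕ) (i : ZMod (2 * m)) :
    quatParFun m (a i) = Multiplicative.ofAdd (ZMod.castHom (dvd_mul_right 2 m) (ZMod 2) i, 0) := rfl

theorem quatParFun_xa (m : ℕ) (i : ZMod (2 * m)) :
    quatParFun m (xa i) = Multiplicative.ofAdd (ZMod.castHom (dvd_mul_right 2 m) (ZMod 2) i, 1) := rfl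

theorem two_eq_zero_zmod_two : (2 : ZMod 2) = 0 := by decide

/-- the parity homomorphism of a quaternion group `Q_{4m}`, `m` even -/
def quatPar (m : ℕ) (hm : 2 ∣ m) : QuaternionGroup m →* Multiplicative (ZMod 2 × ZMod 2) :=
  MonoidHom.mk' (quatParFun m) (by
    have h20 := two_eq_zero_zmod_two
    have hcm : ZMod.castHom (dvd_mul_right 2 m) (ZMod 2) (m : ZMod (2 * m)) = 0 := by
      rw [map_natCast]
      exact (ZMod.natCast_eq_zero_iff m 2).mpr hm
    intro g h
    rcases g with i | i <;> rcases h with j | j
    · rw [a_mul_a, quatParFun_a, quatParFun_a, quatParFun_a, ← ofAdd_add, Prod.mk_add_mk, map_add,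
        add_zero]
    · rw [a_mul_xa, quatParFun_a, quatParFun_xa, quatParFun_xa, ← ofAdd_add, Prod.mk_add_mk, map_sub,
        zero_add]
      congr 2
      linear_combination (-(ZMod.castHom (dvd_mul_right 2 m) (ZMod 2) i)) * h20
    · rw [xa_mul_a, quatParFun_a, quatParFun_xa, quatParFun_xa, ← ofAdd_add, Prod.mk_add_mk, map_add,
        add_zero]
    · rw [xa_mul_xa, quatParFun_a, quatParFun_xa, quatParFun_xa, ← ofAdd_add, Prod.mk_add_mk, map_sub,
        map_add, hcm]
      congr 1
      apply Prod.ext
      · show 0 + ZMod.castHom (dvd_mul_right 2 m) (ZMod 2) j -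
          ZMod.castHom (dvd_mul_right 2 m) (ZMod 2) i =
          ZMod.castHom (dvd_mul_right 2 m) (ZMod 2) i + ZMod.castHom (dvd_mul_right 2 m) (ZMod 2) j
        linear_combination (-(ZMod.castHom (dvd_mul_right 2 m) (ZMod 2) i)) * h20
      · show (0 : ZMod 2) = 1 + 1
        decide)

theorem quatPar_apply (m : ℕ) (hm : 2 ∣ m) (g : QuaternionGroup m) :
    quatPar m hm g = quatParFun m g := rfl

theorem sq_eq_one_target (x : Multiplicative (ZMod 2 × ZMod 2)) : x ^ 2 = 1 := by
  revert x
  decide

/-- every rotation by an even angle is a commutator -/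
theorem a_two_mul_eq_commutator (m : ℕ) (k : ZMod (2 * m)) :
    (a (2 * k) : QuaternionGroup m) = ⁅a k, xa 0⁆ := by
  have h2 : (2 : ZMod (2 * m)) * (m : ZMod (2 * m)) = 0 := by
    have := ZMod.natCast_self (2 * m)
    push_cast at this
    exact this
  rw [commutatorElement_def, Cfsg.Agent.Lib.Helper20.quat_inv_a, Cfsg.Agent.Lib.Helper20.quat_inv_xa,
    a_mul_xa, xa_mul_a, xa_mul_xa]
  congr 1
  linear_combination (-1 : ZMod (2 * m)) * h2

/-- facts on the commutator subgroup of `Q_{4m}`, `m` even -/
theorem quat_commutator_facts (m : ℕ) [NeZero m] (hm : 2 ∣ m) :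
    IsCyclic (commutator (QuaternionGroup m)) ∧
      (∀ t : QuaternionGroup m, t ^ 2 ∈ commutator (QuaternionGroup m)) ∧
      (commutator (QuaternionGroup m)).index = 4 := by
  classical
  have hle1 : commutator (QuaternionGroup m) ≤ (quatPar m hm).ker :=
    Abelianization.commutator_subset_ker _
  have hle2 : (quatPar m hm).ker ≤ commutator (QuaternionGroup m) := by
    intro g hg
    rw [MonoidHom.mem_ker, quatPar_apply] at hg
    rcases g with i | i
    · rw [quatParFun_a] at hg
      have h1 : (ZMod.castHom (dvd_mul_right 2 m) (ZMod 2) i, (0 : ZMod 2)) = 0 := hg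
      have h2 : ZMod.castHom (dvd_mul_right 2 m) (ZMod 2) i = 0 := congrArg Prod.fst h1
      haveI : NeZero (2 * m) := ⟨by have := NeZero.ne m; omega⟩
      have h3 : ((i.val : ℕ) : ZMod 2) = 0 := by
        rw [← map_natCast (ZMod.castHom (dvd_mul_right 2 m) (ZMod 2)), ZMod.natCast_zmod_val]
        exact h2
      rw [ZMod.natCast_eq_zero_iff] at h3
      obtain ⟨t, ht⟩ := h3
      have hi : i = 2 * (t : ZMod (2 * m)) := by
        rw [← ZMod.natCast_zmod_val i, ht]
        push_cast
        rfl
      rw [hi, a_two_mul_eq_commutator, commutator_def]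
      exact Subgroup.commutator_mem_commutator (Subgroup.mem_top _) (Subgroup.mem_top _)
    · exfalso
      rw [quatParFun_xa] at hg
      have h1 : (ZMod.castHom (dvd_mul_right 2 m) (ZMod 2) i, (1 : ZMod 2)) = 0 := hg
      have h2 : (1 : ZMod 2) = 0 := congrArg Prod.snd h1
      exact absurd h2 (by decide)
  have heq : commutator (QuaternionGroup m) = (quatPar m hm).ker := le_antisymm hle1 hle2
  refine ⟨?_, ?_, ?_⟩
  · have hrot : commutator (QuaternionGroup m) ≤ Cfsg.Agent.Lib.Helper20.quatRot m := by
      rw [commutator_def, Subgroup.commutator_le]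
      intro g _ h _
      exact Cfsg.Agent.Lib.Helper20.quat_commutator_eq_a g h
    haveI := Cfsg.Agent.Lib.Helper01.quatRot_isCyclic m
    exact isCyclic_of_injective (Subgroup.inclusion hrot) (Subgroup.inclusion_injective hrot)
  · intro t
    rw [heq, MonoidHom.mem_ker, map_pow]
    exact sq_eq_one_target _
  · rw [heq, Subgroup.index_ker]
    have hsurj : Function.Surjective (quatPar m hm) := by
      have hc1 : ZMod.castHom (dvd_mul_right 2 m) (ZMod 2) (1 : ZMod (2 * m)) = 1 := map_one _
      have hc0 : ZMod.castHom (dvd_mul_right 2 m) (ZMod 2) (0 : ZMod (2 * m)) = 0 := map_zero _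
      have key : ∀ u v : ZMod 2, ∃ g, quatPar m hm g = Multiplicative.ofAdd (u, v) := by
        intro u v
        fin_cases u <;> fin_cases v
        · exact ⟨a 0, by rw [quatPar_apply, quatParFun_a, hc0]; rfl⟩
        · exact ⟨xa 0, by rw [quatPar_apply, quatParFun_xa, hc0]; rfl⟩
        · exact ⟨a 1, by rw [quatPar_apply, quatParFun_a, hc1]; rfl⟩
        · exact ⟨xa 1, by rw [quatPar_apply, quatParFun_xa, hc1]; rfl⟩
      intro y
      exact key (Multiplicative.toAdd y).1 (Multiplicative.toAdd y).2
    rw [MonoidHom.range_eq_top.mpr hsurj, Subgroup.card_top, Nat.card_eq_fintype_card]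
    decide

/-- the commutator subgroup is contained in the preimage of the commutator subgroup -/
theorem commutator_le_comap {A B : Type*} [Group A] [Group B] (f : A →* B) :
    commutator A ≤ (commutator B).comap f := by
  rw [commutator_def, Subgroup.commutator_le]
  intro g _ h _
  rw [Subgroup.mem_comap, map_commutatorElement, commutator_def]
  exact Subgroup.commutator_mem_commutator (Subgroup.mem_top _) (Subgroup.mem_top _)

/-- transport of the three facts along an isomorphism -/
theorem facts_of_equiv {G H : Type*} [Group G] [Group H] (e : G ≃* H)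
    (h : IsCyclic (commutator H) ∧ (∀ t : H, t ^ 2 ∈ commutator H) ∧ (commutator H).index = 4) :
    IsCyclic (commutator G) ∧ (∀ t : G, t ^ 2 ∈ commutator G) ∧ (commutator G).index = 4 := by
  have hcomap : commutator G = (commutator H).comap e.toMonoidHom := by
    apply le_antisymm (commutator_le_comap _)
    intro x hx
    have h1 : e x ∈ commutator H := hx
    have h2 := commutator_le_comap e.symm.toMonoidHom h1
    rw [Subgroup.mem_comap] at h2
    have h3 : e.symm.toMonoidHom (e x) = x := e.symm_apply_apply x
    rw [h3] at h2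
    exact h2
  refine ⟨?_, ?_, ?_⟩
  · haveI := h.1
    let φ : commutator G →* commutator H :=
      (e.toMonoidHom.comp (commutator G).subtype).codRestrict _ (fun v =>
        (commutator_le_comap e.toMonoidHom) v.2)
    have hφ : Function.Injective φ := by
      intro x y hxy
      have h1 := congrArg Subtype.val hxy
      exact Subtype.ext (e.injective h1)
    exact isCyclic_of_injective φ hφ
  · intro t
    rw [hcomap, Subgroup.mem_comap, map_pow]
    exact h.2.1 _
  · rw [hcomap, Subgroup.index_comap_of_surjective _ e.surjective]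
    exact h.2.2

/-- K-QUAT. -/
theorem commutator_facts_of_oneInv {T : Type u} [Group T] [Finite T] (hT : IsPGroup 2 T) (hinv : OneInv T)
    (hnc : ¬ IsCyclic T) :
    IsCyclic (commutator T) ∧ (∀ t : T, t ^ 2 ∈ commutator T) ∧ (commutator T).index = 4 := by
  have hU : Cfsg.Agent.Lib.Helper97.UniqueOrderP 2 T := by
    intro x y hx hy
    rw [hinv y x hy hx]
    exact Subgroup.mem_zpowers x
  obtain ⟨n, ⟨e⟩⟩ := Cfsg.Agent.Lib.Helper97.quaternion_of_uniqueOrderP_two hT hU hnc
  have hn : n ≠ 0 := by
    rintro rfl
    apply hnc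
    haveI : IsCyclic (QuaternionGroup (2 ^ 0)) := by
      rw [pow_zero]
      exact QuaternionGroup.quaternionGroup_one_isCyclic
    exact isCyclic_of_surjective e.symm e.symm.surjective
  haveI : NeZero (2 ^ n) := ⟨by positivity⟩
  exact facts_of_equiv e (quat_commutator_facts (2 ^ n) (dvd_pow_self 2 hn))

end Cfsg.Agent.Lib.Helper60.FC91
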