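import Mathlib

/-!
# Feit–Higman (S1142): shared definitions for the linear-algebra part

Route: Kilmoyer–Solomon.  `X = A_{s₁}`, `Y = A_{s₂}` are the 0/1 matrices of the double cosets
`B s₁ B`, `B s₂ B` acting on `ℝ^(G/B)`.  They are symmetric, satisfy the quadratic relations
`X² = q₁ + (q₁-1) X`, `Y² = q₂ + (q₂-1) Y`, the braid relation of length `n` (`|W| = 2n`) and
`tr (A_w) = 0` for `w ≠ 1`.  For every 2-dimensional (symmetric) representation `(T₁,T₂)` of the same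
relations, `P = Σ_w q_w⁻¹ χ(T_w) A_w` satisfies `P² = (D/2) P`, `tr P = 2|G/B|`, so `4|G/B|/D ∈ ℕ` where
`D = Σ_w q_w⁻¹ χ(T_w)²` is computed in closed form; Niven's theorem finishes.
-/

set_option autoImplicit false

namespace Cfsg.Agent.Lib.Helper60.FH

open Matrix

/-- alternating product `x * y * x * ...` with `k` factors, starting with `x`:
`altL x y 0 = 1`, `altL x y (k+1) = x * altL y x k`. -/
def altL {M : Type*} [Monoid M] : M → M → ℕ → M
  | _, _, 0 => 1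
  | x, y, k + 1 => x * altL y x k

@[simp] theorem altL_zero {M : Type*} [Monoid M] (x y : M) : altL x y 0 = 1 := by
  simp [altL]

theorem altL_succ {M : Type*} [Monoid M] (x y : M) (k : ℕ) :
    altL x y (k + 1) = x * altL y x k := by
  simp [altL]

@[simp] theorem altL_one {M : Type*} [Monoid M] (x y : M) : altL x y 1 = x := by
  simp [altL]

/-- The relations of the Hecke algebra of the dihedral group of order `2n` with parameters `q1, q2`,
for a pair of real symmetric matrices. -/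
structure Rel {ι : Type*} [Fintype ι] [DecidableEq ι] (q1 q2 : ℝ) (n : ℕ)
    (x y : Matrix ι ι ℝ) : Prop where
  symm_x : xᵀ = x
  symm_y : yᵀ = y
  sq_x : x * x = q1 • (1 : Matrix ι ι ℝ) + (q1 - 1) • x
  sq_y : y * y = q2 • (1 : Matrix ι ι ℝ) + (q2 - 1) • y
  braid : altL x y n = altL y x n

/-- `Ssum φ = Σ_{w ∈ W} q_w⁻¹ φ(T_w) A_w`, where `W` (dihedral of order `2n`) is enumerated as
`v_k = altL y x k` (`0 ≤ k < n`) and `u_{k+1} = altL x y (k+1)` (`0 ≤ k < n`); `A_w`, `T_w`, `q_w` are the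
corresponding alternating products of `(x,y)`, `(t1,t2)`, `(q1,q2)`. -/
noncomputable def Ssum {ι κ : Type*} [Fintype ι] [DecidableEq ι] [Fintype κ] [DecidableEq κ]
    (q1 q2 : ℝ) (n : ℕ) (x y : Matrix ι ι ℝ) (t1 t2 : Matrix κ κ ℝ)
    (φ : Matrix κ κ ℝ → ℝ) : Matrix ι ι ℝ :=
  ∑ k ∈ Finset.range n,
    (((altL q2 q1 k)⁻¹ * φ (altL t2 t1 k)) • altL y x k +
      ((altL q1 q2 (k + 1))⁻¹ * φ (altL t1 t2 (k + 1))) • altL x y (k + 1))

/-- `Dsum = Σ_{w ∈ W} q_w⁻¹ χ(T_w)²` -/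
noncomputable def Dsum {κ : Type*} [Fintype κ] [DecidableEq κ]
    (q1 q2 : ℝ) (n : ℕ) (t1 t2 : Matrix κ κ ℝ) : ℝ :=
  ∑ k ∈ Finset.range n,
    ((altL q2 q1 k)⁻¹ * (Matrix.trace (altL t2 t1 k)) ^ 2 +
      (altL q1 q2 (k + 1))⁻¹ * (Matrix.trace (altL t1 t2 (k + 1))) ^ 2)

/-- `Q = √(q1 q2)` -/
noncomputable def Qr (q1 q2 : ℝ) : ℝ := Real.sqrt (q1 * q2)

/-- the angle `θ_j = 2πj/n` -/
noncomputable def theta (n j : ℕ) : ℝ := 2 * Real.pi * j / n

/-- `κ = cos² φ`, `φ` the angle between the `q1`-eigenline of `T1` and the `q2`-eigenline of `T2` -/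
noncomputable def kap (q1 q2 θ : ℝ) : ℝ :=
  (2 * Qr q1 q2 * Real.cos θ + q1 + q2) / ((q1 + 1) * (q2 + 1))

/-- `σ = cos φ sin φ` -/
noncomputable def sig (q1 q2 θ : ℝ) : ℝ := Real.sqrt (kap q1 q2 θ * (1 - kap q1 q2 θ))

/-- first generator of the 2-dimensional representation -/
noncomputable def T1 (q1 : ℝ) : Matrix (Fin 2) (Fin 2) ℝ := !![q1, 0; 0, -1]

/-- second generator of the 2-dimensional representation: `(q2+1) Π - 1`,
`Π = !![κ, σ; σ, 1-κ]` a rank one projection; `tr (T1 T2) = 2 Q cos θ`. -/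
noncomputable def T2 (q1 q2 θ : ℝ) : Matrix (Fin 2) (Fin 2) ℝ :=
  !![(q2 + 1) * kap q1 q2 θ - 1, (q2 + 1) * sig q1 q2 θ;
     (q2 + 1) * sig q1 q2 θ, (q2 + 1) * (1 - kap q1 q2 θ) - 1]

/-- `p_m = Q^(m-1) sin(mθ)/sin θ`, written without natural subtraction -/
noncomputable def pseq (q1 q2 θ : ℝ) (m : ℕ) : ℝ :=
  (Qr q1 q2) ^ m * Real.sin (m * θ) / (Qr q1 q2 * Real.sin θ)

/-- closed form of the Schur-type sum `Dsum` for the representation `(T1, T2 θ)` -/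
noncomputable def Dclosed (q1 q2 : ℝ) (n : ℕ) (θ : ℝ) : ℝ :=
  n * (q1 + q2 + 2 * Qr q1 q2 * Real.cos θ) * (q1 * q2 + 1 - 2 * Qr q1 q2 * Real.cos θ) /
    (2 * q1 * q2 * (Real.sin θ) ^ 2)

end Cfsg.Agent.Lib.Helper60.FH
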