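import Cfsg.Agent.Lib.Helper08.BNPairExchange
import Cfsg.Agent.Lib.Helper60.FHDefs

/-!
# Feit–Higman (S1142): the 0/1 matrices of `B`-double cosets on `G ⧸ B`
-/

set_option autoImplicit false

namespace Cfsg.Agent.Lib.Helper60.FH

open Cfsg Cfsg.Agent.Lib.Helper08

variable {G : Type*} [Group G] (P : Cfsg.BNPair G)

/-- the 0/1 matrix of the double coset `B g B` acting on functions on `G ⧸ B`:
the `(xB, yB)` entry is `1` iff `x⁻¹ y ∈ B g B`. -/
noncomputable def adj (g : G) : Matrix (G ⧸ P.B) (G ⧸ P.B) ℝ := fun x y =>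
  haveI := Classical.propDecidable (DC P g (x.out⁻¹ * y.out))
  if DC P g (x.out⁻¹ * y.out) then 1 else 0

theorem DC_out_iff (g x y : G) :
    DC P g ((QuotientGroup.mk x : G ⧸ P.B).out⁻¹ * (QuotientGroup.mk y : G ⧸ P.B).out) ↔
      DC P g (x⁻¹ * y) := by
  have hx : x⁻¹ * (QuotientGroup.mk x : G ⧸ P.B).out ∈ P.B :=
    QuotientGroup.eq.1 (QuotientGroup.out_eq' (QuotientGroup.mk x : G ⧸ P.B)).symm
  have hy : y⁻¹ * (QuotientGroup.mk y : G ⧸ P.B).out ∈ P.B :=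
    QuotientGroup.eq.1 (QuotientGroup.out_eq' (QuotientGroup.mk y : G ⧸ P.B)).symm
  set x' := (QuotientGroup.mk x : G ⧸ P.B).out
  set y' := (QuotientGroup.mk y : G ⧸ P.B).out
  have e : x'⁻¹ * y' = (x⁻¹ * x')⁻¹ * (x⁻¹ * y) * (y⁻¹ * y') := by group
  constructor
  · intro h
    have e2 : x⁻¹ * y = (x⁻¹ * x') * (x'⁻¹ * y') * (y⁻¹ * y')⁻¹ := by group
    rw [e2]
    exact DC_mul_right P (P.B.inv_mem hy) (DC_mul_left P hx h)
  · intro h
    rw [e]
    exact DC_mul_right P hy (DC_mul_left P (P.B.inv_mem hx) h)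

theorem adj_apply_mk (g x y : G) [Decidable (DC P g (x⁻¹ * y))] :
    adj P g (QuotientGroup.mk x) (QuotientGroup.mk y) = if DC P g (x⁻¹ * y) then 1 else 0 := by
  unfold adj
  simp only [DC_out_iff]

theorem adj_apply_mk_of_dc {g x y : G} (h : DC P g (x⁻¹ * y)) :
    adj P g (QuotientGroup.mk x) (QuotientGroup.mk y) = 1 := by
  classical
  rw [adj_apply_mk, if_pos h]

theorem adj_apply_mk_of_not_dc {g x y : G} (h : ¬ DC P g (x⁻¹ * y)) :
    adj P g (QuotientGroup.mk x) (QuotientGroup.mk y) = 0 := by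
  classical
  rw [adj_apply_mk, if_neg h]

end Cfsg.Agent.Lib.Helper60.FH
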