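import Cfsg.Agent.Lib.Helper60.FHDefs
import Cfsg.Agent.Lib.Helper83.FHE
import Cfsg.Agent.Lib.Helper83.FHF

/-!
# Feit–Higman (S1142), keystone G: `P² = (D/2) P` and the multiplicity
-/

set_option autoImplicit false

namespace Cfsg.Agent.Lib.Helper60.FH

open Matrix
open Cfsg.Agent.Lib.Helper83.FH

section

variable {ι κ : Type*} [Fintype ι] [DecidableEq ι] [Fintype κ] [DecidableEq κ]

theorem trace_idem_nat (E : Matrix ι ι ℝ) (hE : E * E = E) :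
    ∃ m : ℕ, Matrix.trace E = (m : ℝ) := by
  have hf : IsIdempotentElem (Matrix.toLin' E) := by
    show Matrix.toLin' E ∘ₗ Matrix.toLin' E = Matrix.toLin' E
    rw [← Matrix.toLin'_mul, hE]
  have h1 := (LinearMap.IsIdempotentElem.isProj_range _ hf).trace
  refine ⟨Module.finrank ℝ (LinearMap.range (Matrix.toLin' E)), ?_⟩
  rw [← h1, LinearMap.trace_eq_matrix_trace ℝ (Pi.basisFun ℝ ι), LinearMap.toMatrix_eq_toMatrix',
    LinearMap.toMatrix'_toLin']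

theorem Ssum_add (q1 q2 : ℝ) (n : ℕ) (x y : Matrix ι ι ℝ) (t1 t2 : Matrix κ κ ℝ)
    (φ1 φ2 : Matrix κ κ ℝ → ℝ) :
    Ssum q1 q2 n x y t1 t2 (fun T => φ1 T + φ2 T) =
      Ssum q1 q2 n x y t1 t2 φ1 + Ssum q1 q2 n x y t1 t2 φ2 := by
  unfold Ssum
  rw [← Finset.sum_add_distrib]
  refine Finset.sum_congr rfl fun k _ => ?_
  simp only [mul_add, add_smul]
  abel

theorem Ssum_smul (q1 q2 : ℝ) (n : ℕ) (x y : Matrix ι ι ℝ) (t1 t2 : Matrix κ κ ℝ)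
    (c : ℝ) (φ : Matrix κ κ ℝ → ℝ) :
    Ssum q1 q2 n x y t1 t2 (fun T => c * φ T) = c • Ssum q1 q2 n x y t1 t2 φ := by
  unfold Ssum
  rw [Finset.smul_sum]
  refine Finset.sum_congr rfl fun k _ => ?_
  rw [smul_add, smul_smul, smul_smul]
  congr 2 <;> ring

/-- `M ↦ Ssum (T ↦ φ (Mᵀ * T))` as a linear map -/
noncomputable def SsumL (q1 q2 : ℝ) (n : ℕ) (x y : Matrix ι ι ℝ) (t1 t2 : Matrix κ κ ℝ)
    (φ : Matrix κ κ ℝ →ₗ[ℝ] ℝ) : Matrix κ κ ℝ →ₗ[ℝ] Matrix ι ι ℝ where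
  toFun M := Ssum q1 q2 n x y t1 t2 (fun T => φ (Mᵀ * T))
  map_add' M M' := by
    rw [← Ssum_add]
    congr 1
    funext T
    rw [transpose_add, add_mul, map_add]
  map_smul' c M := by
    rw [RingHom.id_apply, ← Ssum_smul]
    congr 1
    funext T
    rw [transpose_smul, smul_mul_assoc, map_smul, smul_eq_mul]

theorem SsumL_apply (q1 q2 : ℝ) (n : ℕ) (x y : Matrix ι ι ℝ) (t1 t2 : Matrix κ κ ℝ)
    (φ : Matrix κ κ ℝ →ₗ[ℝ] ℝ) (M : Matrix κ κ ℝ) :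
    SsumL q1 q2 n x y t1 t2 φ M = Ssum q1 q2 n x y t1 t2 (fun T => φ (Mᵀ * T)) := rfl

/-- iterated left intertwining -/
theorem altL_mul_Ssum (q1 q2 : ℝ) (hq1 : q1 ≠ 0) (hq2 : q2 ≠ 0) (n : ℕ)
    (hq : altL q1 q2 n = altL q2 q1 n) (x y : Matrix ι ι ℝ) (t1 t2 : Matrix κ κ ℝ)
    (hx : Rel q1 q2 n x y) (ht : Rel q1 q2 n t1 t2) (k : ℕ) :
    ∀ φ : Matrix κ κ ℝ →ₗ[ℝ] ℝ,
      altL x y k * Ssum q1 q2 n x y t1 t2 φ = SsumL q1 q2 n x y t1 t2 φ (altL t1 t2 k) ∧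
      altL y x k * Ssum q1 q2 n x y t1 t2 φ = SsumL q1 q2 n x y t1 t2 φ (altL t2 t1 k) := by
  induction k with
  | zero =>
    intro φ
    simp only [altL_zero, one_mul, SsumL_apply, transpose_one]
    trivial
  | succ k ih =>
    intro φ
    obtain ⟨ih1, ih2⟩ := ih φ
    constructor
    · rw [altL_succ x, mul_assoc, ih2, SsumL_apply]
      have := (mul_Ssum q1 q2 hq1 hq2 n hq x y t1 t2 hx ht
        (φ.comp (LinearMap.mulLeft ℝ (altL t2 t1 k)ᵀ))).1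
      simp only [LinearMap.coe_comp, Function.comp_def, LinearMap.mulLeft_apply] at this
      rw [this, SsumL_apply, altL_succ t1, transpose_mul, ht.symm_x]
      simp only [mul_assoc]
    · rw [altL_succ y, mul_assoc, ih1, SsumL_apply]
      have := (mul_Ssum q1 q2 hq1 hq2 n hq x y t1 t2 hx ht
        (φ.comp (LinearMap.mulLeft ℝ (altL t1 t2 k)ᵀ))).2
      simp only [LinearMap.coe_comp, Function.comp_def, LinearMap.mulLeft_apply] at this
      rw [this, SsumL_apply, altL_succ t2, transpose_mul, ht.symm_y]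
      simp only [mul_assoc]

/-- `Ssum φ * ...`: product of `Ssum ψ` (any coefficient functional `ψ`) with `Ssum φ` -/
theorem Ssum_mul_Ssum (q1 q2 : ℝ) (hq1 : q1 ≠ 0) (hq2 : q2 ≠ 0) (n : ℕ)
    (hq : altL q1 q2 n = altL q2 q1 n) (x y : Matrix ι ι ℝ) (t1 t2 : Matrix κ κ ℝ)
    (hx : Rel q1 q2 n x y) (ht : Rel q1 q2 n t1 t2) (ψ : Matrix κ κ ℝ → ℝ)
    (φ : Matrix κ κ ℝ →ₗ[ℝ] ℝ) :
    Ssum q1 q2 n x y t1 t2 ψ * Ssum q1 q2 n x y t1 t2 φ =
      SsumL q1 q2 n x y t1 t2 φ (Ssum q1 q2 n t1 t2 t1 t2 ψ) := by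
  conv_lhs => rw [Ssum]
  conv_rhs => rw [Ssum]
  rw [Finset.sum_mul, map_sum]
  refine Finset.sum_congr rfl fun k _ => ?_
  rw [add_mul, smul_mul_assoc, smul_mul_assoc, map_add, map_smul, map_smul,
    (altL_mul_Ssum q1 q2 hq1 hq2 n hq x y t1 t2 hx ht k φ).2,
    (altL_mul_Ssum q1 q2 hq1 hq2 n hq x y t1 t2 hx ht (k + 1) φ).1]

end

section main

variable {ι : Type*} [Fintype ι] [DecidableEq ι]

theorem trace_Ssum_trace (q1 q2 : ℝ) (n : ℕ) (hn : 1 ≤ n) (x y : Matrix ι ι ℝ)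
    (t1 t2 : Matrix (Fin 2) (Fin 2) ℝ)
    (htr : ∀ k, 1 ≤ k → k ≤ n → Matrix.trace (altL x y k) = 0 ∧ Matrix.trace (altL y x k) = 0) :
    Matrix.trace (Ssum q1 q2 n x y t1 t2 Matrix.trace) = 2 * (Fintype.card ι : ℝ) := by
  unfold Ssum
  rw [Matrix.trace_sum]
  obtain ⟨n', rfl⟩ : ∃ n', n = n' + 1 := ⟨n - 1, by omega⟩
  rw [Finset.sum_range_succ']
  have h0 : ∀ k ∈ Finset.range n',
      Matrix.trace (((altL q2 q1 (k + 1))⁻¹ * Matrix.trace (altL t2 t1 (k + 1))) • altL y x (k + 1) +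
        ((altL q1 q2 (k + 1 + 1))⁻¹ * Matrix.trace (altL t1 t2 (k + 1 + 1))) • altL x y (k + 1 + 1)) = 0 := by
    intro k hk
    rw [Finset.mem_range] at hk
    rw [Matrix.trace_add, Matrix.trace_smul, Matrix.trace_smul, (htr (k + 1) (by omega) (by omega)).2,
      (htr (k + 1 + 1) (by omega) (by omega)).1]
    simp
  rw [Finset.sum_eq_zero h0, zero_add, Matrix.trace_add, Matrix.trace_smul, Matrix.trace_smul,
    (htr (0 + 1) (by omega) (by omega)).1]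
  simp [Matrix.trace_one]

theorem trace_Ssum_self (q1 q2 : ℝ) (n : ℕ) (t1 t2 : Matrix (Fin 2) (Fin 2) ℝ) :
    Matrix.trace (Ssum q1 q2 n t1 t2 t1 t2 Matrix.trace) = Dsum q1 q2 n t1 t2 := by
  unfold Ssum Dsum
  rw [Matrix.trace_sum]
  refine Finset.sum_congr rfl fun k _ => ?_
  rw [Matrix.trace_add, Matrix.trace_smul, Matrix.trace_smul]
  simp only [smul_eq_mul]
  ring

theorem exists_mult' (q1 q2 : ℝ) (hq1 : 0 < q1) (hq2 : 0 < q2) (n : ℕ) (hn : 1 ≤ n)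
    (hq : altL q1 q2 n = altL q2 q1 n) (x y : Matrix ι ι ℝ) (t1 t2 : Matrix (Fin 2) (Fin 2) ℝ)
    (hx : Rel q1 q2 n x y) (ht : Rel q1 q2 n t1 t2)
    (htr : ∀ k, 1 ≤ k → k ≤ n → Matrix.trace (altL x y k) = 0 ∧ Matrix.trace (altL y x k) = 0)
    (hirr : ∀ Z : Matrix (Fin 2) (Fin 2) ℝ, Z * t1 = t1 * Z → Z * t2 = t2 * Z → ∃ c : ℝ, Z = c • 1) :
    ∃ m : ℕ, (m : ℝ) * Dsum q1 q2 n t1 t2 = 4 * (Fintype.card ι : ℝ) := by
  have hq1' := hq1.ne'
  have hq2' := hq2.ne'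
  set z := Ssum q1 q2 n t1 t2 t1 t2 Matrix.trace with hz
  set P := Ssum q1 q2 n x y t1 t2 Matrix.trace with hP
  -- `z` is symmetric and central
  have hzT : zᵀ = z := Ssum_transpose q1 q2 n t1 t2 t1 t2 ht ht Matrix.trace (fun T => Matrix.trace_transpose T)
  have hcomm : ∀ t : Matrix (Fin 2) (Fin 2) ℝ, tᵀ = t →
      t * z = Ssum q1 q2 n t1 t2 t1 t2 (fun T => Matrix.trace (t * T)) → z * t = t * z := by
    intro t htT h
    have hsym : (t * z)ᵀ = t * z := by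
      rw [h]
      refine Ssum_transpose q1 q2 n t1 t2 t1 t2 ht ht _ (fun T => ?_)
      rw [← Matrix.trace_transpose (t * T), transpose_mul, htT, Matrix.trace_mul_comm]
    rw [transpose_mul, hzT, htT] at hsym
    exact hsym
  have hz1 : z * t1 = t1 * z := hcomm t1 ht.symm_x
    (mul_Ssum q1 q2 hq1' hq2' n hq t1 t2 t1 t2 ht ht (Matrix.traceLinearMap (Fin 2) ℝ ℝ)).1
  have hz2 : z * t2 = t2 * z := hcomm t2 ht.symm_y
    (mul_Ssum q1 q2 hq1' hq2' n hq t1 t2 t1 t2 ht ht (Matrix.traceLinearMap (Fin 2) ℝ ℝ)).2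
  obtain ⟨c, hc⟩ := hirr z hz1 hz2
  -- `2c = Dsum`
  have hD : 2 * c = Dsum q1 q2 n t1 t2 := by
    rw [← trace_Ssum_self, ← hz, hc, Matrix.trace_smul, Matrix.trace_one]
    simp [mul_comm]
  -- `P * P = c • P`
  have hPP : P * P = c • P := by
    have h := Ssum_mul_Ssum q1 q2 hq1' hq2' n hq x y t1 t2 hx ht Matrix.trace
      (Matrix.traceLinearMap (Fin 2) ℝ ℝ)
    rw [← hz, hc, SsumL_apply] at h
    have e : (fun T : Matrix (Fin 2) (Fin 2) ℝ =>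
        (Matrix.traceLinearMap (Fin 2) ℝ ℝ) ((c • (1 : Matrix (Fin 2) (Fin 2) ℝ))ᵀ * T)) =
        fun T => c * Matrix.trace T := by
      funext T
      simp
    rw [e, Ssum_smul] at h
    exact h
  have hPT : Pᵀ = P := Ssum_transpose q1 q2 n x y t1 t2 hx ht Matrix.trace
    (fun T => Matrix.trace_transpose T)
  have htrP : Matrix.trace P = 2 * (Fintype.card ι : ℝ) := trace_Ssum_trace q1 q2 n hn x y t1 t2 htr
  by_cases hι : Fintype.card ι = 0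
  · exact ⟨0, by simp [hι]⟩
  have hNpos : (0 : ℝ) < Fintype.card ι := by exact_mod_cast Nat.pos_of_ne_zero hι
  -- `c ≠ 0`
  have hc0 : c ≠ 0 := by
    intro h0
    rw [h0, zero_smul] at hPP
    have : Pᴴ * P = 0 := by
      rw [Matrix.conjTranspose_eq_transpose_of_trivial, hPT]; exact hPP
    have hP0 : P = 0 := Matrix.conjTranspose_mul_self_eq_zero.1 this
    rw [hP0, Matrix.trace_zero] at htrP
    linarith
  -- the idempotent
  have hE : (c⁻¹ • P) * (c⁻¹ • P) = c⁻¹ • P := by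
    rw [smul_mul_smul_comm, hPP, smul_smul]
    congr 1
    field_simp
  obtain ⟨m, hm⟩ := trace_idem_nat (c⁻¹ • P) hE
  refine ⟨m, ?_⟩
  rw [← hm, Matrix.trace_smul, htrP, ← hD, smul_eq_mul]
  field_simp
  norm_num

end main

end Cfsg.Agent.Lib.Helper60.FH
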