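import Cfsg.Agent.Lib.Helper60.FHLA
import Cfsg.Agent.Lib.Helper97.FHA
import Cfsg.Agent.Lib.Helper15.FHB
import Cfsg.Agent.Lib.Helper26.FHC
import Cfsg.Agent.Lib.Helper09.FHD

/-!
# Feit–Higman (S1142): group side and the final theorem
-/

set_option autoImplicit false

namespace Cfsg.Agent.Lib.Helper60.FH

open Cfsg Cfsg.Agent.Lib.Helper08 Matrix
open Cfsg.Agent.Lib.Helper97.FH
open Cfsg.Agent.Lib.Helper15.FH Cfsg.Agent.Lib.Helper26.FH Cfsg.Agent.Lib.Helper09.FH

/-! ## group side: the matrices attached to a rank 2 BN-pair -/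

section gs

variable {G : Type*} [Group G] (P : Cfsg.BNPair G)

theorem altL_mem_N {a b : G} (ha : a ∈ P.N) (hb : b ∈ P.N) (k : ℕ) :
    altL a b k ∈ P.N ∧ altL b a k ∈ P.N := by
  induction k with
  | zero => simp [P.N.one_mem]
  | succ k ih =>
    rw [altL_succ, altL_succ]
    exact ⟨P.N.mul_mem ha ih.2, P.N.mul_mem hb ih.1⟩

theorem gs_main [Finite G] (h2 : P.rank = 2) [Fintype (G ⧸ P.B)] [DecidableEq (G ⧸ P.B)] :
    ∃ (q1 q2 n : ℕ) (x y : Matrix (G ⧸ P.B) (G ⧸ P.B) ℝ), 2 ≤ q1 ∧ 2 ≤ q2 ∧ 2 ≤ n ∧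
      ((P.B ⊓ P.N).subgroupOf P.N).index = 2 * n ∧ Rel (q1 : ℝ) (q2 : ℝ) n x y ∧
      ∀ k, 1 ≤ k → k ≤ n → Matrix.trace (altL x y k) = 0 ∧ Matrix.trace (altL y x k) = 0 := by
  have hcard : Nat.card P.S = 2 := h2
  obtain ⟨a', b', hab', huniv⟩ := Nat.card_eq_two_iff.1 hcard
  set a : G := a'.1 with ha_def
  set b : G := b'.1 with hb_def
  have hab : a ≠ b := fun h => hab' (Subtype.ext h)
  have haS : a ∈ P.S := a'.2
  have hbS : b ∈ P.S := b'.2
  have hS : P.S = {a, b} := by
    ext s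
    constructor
    · intro hs
      have : (⟨s, hs⟩ : P.S) ∈ ({a', b'} : Set P.S) := by rw [huniv]; trivial
      rcases this with h | h
      · left; exact congrArg Subtype.val h
      · right; exact congrArg Subtype.val h
    · rintro (rfl | rfl)
      · exact haS
      · exact hbS
  obtain ⟨n, hn2, hidx, hlen, heqv⟩ := weyl_dihedral P hab hS
  obtain ⟨q1, hq1, hsq1⟩ := adj_sq P haS
  obtain ⟨q2, hq2, hsq2⟩ := adj_sq P hbS
  have haN : a ∈ P.N := P.subset haS
  have hbN : b ∈ P.N := P.subset hbS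
  -- alternating products of the matrices are the matrices of alternating products
  have key : ∀ k, k ≤ n → altL (adj P a) (adj P b) k = adj P (altL a b k) ∧
      altL (adj P b) (adj P a) k = adj P (altL b a k) := by
    intro k
    induction k with
    | zero =>
      intro _
      simp only [altL_zero]
      exact ⟨(adj_one P).symm, (adj_one P).symm⟩
    | succ k ih =>
      intro hk
      obtain ⟨ih1, ih2⟩ := ih (by omega)
      have hl := hlen k (by omega)
      have hl' := hlen (k + 1) hk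
      constructor
      · rw [altL_succ (adj P a), ih2, altL_succ a]
        refine adj_mul P haS (altL_mem_N P haN hbN k).2 ?_
        rw [← altL_succ, hl'.1, hl.2]; omega
      · rw [altL_succ (adj P b), ih1, altL_succ b]
        refine adj_mul P hbS (altL_mem_N P haN hbN k).1 ?_
        rw [← altL_succ, hl'.2, hl.1]; omega
  refine ⟨q1, q2, n, adj P a, adj P b, hq1, hq2, hn2, hidx,
    ⟨adj_transpose_S P haS, adj_transpose_S P hbS, hsq1, hsq2, ?_⟩, ?_⟩
  · rw [(key n le_rfl).1, (key n le_rfl).2]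
    exact adj_congr P (Eqv_toDC P heqv)
  · intro k hk1 hkn
    have hnotB : ∀ g : G, len P g = k → g ∉ P.B := fun g hg hB => by
      have := len_eq_zero_of_mem_B P hB
      omega
    rw [(key k hkn).1, (key k hkn).2]
    exact ⟨trace_adj P (hnotB _ (hlen k hkn).1), trace_adj P (hnotB _ (hlen k hkn).2)⟩

end gs

theorem feit_higman {G : Type*} [Group G] [Finite G] (P : Cfsg.BNPair G) (h2 : P.rank = 2) :
    ((P.B ⊓ P.N).subgroupOf P.N).index ∈ ({4, 6, 8, 12, 16} : Set ℕ) := by
  classical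
  have : Fintype (G ⧸ P.B) := Fintype.ofFinite _
  obtain ⟨q1, q2, n, x, y, hq1, hq2, hn, hidx, hrel, htr⟩ := gs_main P h2
  have := la_main q1 q2 n hq1 hq2 hn x y hrel htr
  rw [hidx]
  rcases this with rfl | rfl | rfl | rfl | rfl <;> simp

end Cfsg.Agent.Lib.Helper60.FH
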