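import Cfsg.Agent.Lib.Helper60.FHG
import Cfsg.Agent.Lib.Helper91.FHK
import Cfsg.Agent.Lib.Helper22.FHH1
import Cfsg.Agent.Lib.Helper91.FHH2
import Cfsg.Agent.Lib.Helper53.FHI
import Cfsg.Agent.Lib.Helper71.FHJ

/-!
# Feit–Higman (S1142): the linear algebra main theorem
-/

set_option autoImplicit false

namespace Cfsg.Agent.Lib.Helper60.FH

open Matrix

/-! ## linear algebra main theorem -/

theorem altL_comm_even (a b : ℝ) (m : ℕ) : altL a b (2 * m) = altL b a (2 * m) := by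
  induction m with
  | zero => simp
  | succ m ih =>
    have e : 2 * (m + 1) = (2 * m + 1) + 1 := by ring
    rw [e, altL_succ, altL_succ, altL_succ, altL_succ, ih]
    ring

theorem la_main {ι : Type*} [Fintype ι] [DecidableEq ι] [Nonempty ι] (q1 q2 n : ℕ)
    (h1 : 2 ≤ q1) (h2 : 2 ≤ q2) (hn : 2 ≤ n) (x y : Matrix ι ι ℝ)
    (hx : Rel (q1 : ℝ) (q2 : ℝ) n x y)
    (htr : ∀ k, 1 ≤ k → k ≤ n → Matrix.trace (altL x y k) = 0 ∧ Matrix.trace (altL y x k) = 0) :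
    n = 2 ∨ n = 3 ∨ n = 4 ∨ n = 6 ∨ n = 8 := by
  have hq1 : (0 : ℝ) < q1 := by exact_mod_cast (by omega : 0 < q1)
  have hq2 : (0 : ℝ) < q2 := by exact_mod_cast (by omega : 0 < q2)
  have hoddR : Odd n → (q1 : ℝ) = q2 := fun ho =>
    Cfsg.Agent.Lib.Helper91.FH.q_eq_of_odd (q1 : ℝ) q2 hq1.ne' hq2.ne' n ho x y hx
      (by have := (htr 1 (le_refl 1) (by omega)).2; simpa using this)
  have hodd : Odd n → q1 = q2 := fun ho => by exact_mod_cast hoddR ho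
  have hq : altL (q1 : ℝ) q2 n = altL (q2 : ℝ) q1 n := by
    rcases Nat.even_or_odd n with he | ho
    · obtain ⟨m, rfl⟩ := he
      rw [← two_mul]
      exact altL_comm_even _ _ m
    · rw [hoddR ho]
  refine Cfsg.Agent.Lib.Helper71.FH.nt q1 q2 n h1 h2 hn hodd ?_
  intro j hj hjn
  obtain ⟨hT, hirr⟩ := Cfsg.Agent.Lib.Helper22.FH.rep_rel (q1 : ℝ) q2 hq1 hq2 n j hj hjn hoddR
  have hθ0 : 0 < theta n j := by
    unfold theta
    have : (0 : ℝ) < j := by exact_mod_cast (by omega : 0 < j)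
    have : (0 : ℝ) < n := by exact_mod_cast (by omega : 0 < n)
    positivity
  have hθ1 : theta n j < Real.pi := by
    unfold theta
    have hn0 : (0 : ℝ) < n := by exact_mod_cast (by omega : 0 < n)
    rw [div_lt_iff₀ hn0]
    have : (2 * (j : ℝ)) < n := by exact_mod_cast hjn
    nlinarith [Real.pi_pos]
  obtain ⟨c1, c2, c3, c4⟩ := Cfsg.Agent.Lib.Helper91.FH.rep_char (q1 : ℝ) q2 hq1 hq2 (theta n j) hθ0 hθ1
  obtain ⟨m, hm⟩ := exists_mult' (q1 : ℝ) q2 hq1 hq2 n (by omega) hq x y (T1 q1) (T2 q1 q2 (theta n j))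
    hx hT htr hirr
  have hD : Dsum (q1 : ℝ) q2 n (T1 q1) (T2 q1 q2 (theta n j)) = Dclosed q1 q2 n (theta n j) :=
    Cfsg.Agent.Lib.Helper53.FH.dsum_closed (q1 : ℝ) q2 hq1 hq2 n j hj hjn hoddR
      (fun k => Matrix.trace (altL (T1 (q1 : ℝ)) (T2 q1 q2 (theta n j)) k))
      (fun k => Matrix.trace (altL (T2 (q1 : ℝ) q2 (theta n j)) (T1 q1) k)) c1 c2 c3 c4
  rw [hD] at hm
  have hN : (0 : ℝ) < (Fintype.card ι : ℝ) := by exact_mod_cast Fintype.card_pos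
  have hm0 : (m : ℝ) ≠ 0 := by
    intro h0
    rw [h0, zero_mul] at hm
    linarith
  refine ⟨4 * (Fintype.card ι : ℚ) / (m : ℚ), ?_⟩
  push_cast
  field_simp
  linarith

end Cfsg.Agent.Lib.Helper60.FH
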