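import Mathlib

/-! K-GS leaf AS2 (S4840): `O^p(Γ)` exists for a finite group: a normal subgroup of `p`-power index contained
in every normal subgroup of `p`-power index (take one of least order; the class is closed under `⊓`). -/

set_option autoImplicit false

namespace Cfsg.Agent.Lib.Helper60.GS

universe u

variable {Γ V : Type u} [Group Γ] [Finite Γ] [CommGroup V] [Finite V]

omit [Finite Γ] in
/-- normal subgroups of `p`-power index are closed under intersection -/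
theorem ppow_index_inf (p : ℕ) [Fact p.Prime] (K₁ K₂ : Subgroup Γ) [K₁.Normal] [K₂.Normal]
    (h₁ : ∃ a : ℕ, K₁.index = p ^ a) (h₂ : ∃ a : ℕ, K₂.index = p ^ a) :
    ∃ a : ℕ, (K₁ ⊓ K₂).index = p ^ a := by
  have hp : p.Prime := Fact.out
  obtain ⟨a, ha⟩ := h₁
  obtain ⟨b, hb⟩ := h₂
  have h1 : (K₁ ⊓ K₂).relIndex K₁ * K₁.index = (K₁ ⊓ K₂).index :=
    Subgroup.relIndex_mul_index inf_le_left
  have h2 : (K₁ ⊓ K₂).relIndex K₁ = K₂.relIndex K₁ := Subgroup.inf_relIndex_left K₁ K₂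
  have h3 : K₂.relIndex K₁ ∣ K₂.index := Subgroup.relIndex_dvd_index_of_normal K₂ K₁
  rw [hb] at h3
  obtain ⟨c, -, hc⟩ := (Nat.dvd_prime_pow hp).mp h3
  refine ⟨c + a, ?_⟩
  rw [← h1, h2, hc, ha, pow_add]

theorem exists_min_normal_ppow_index (p : ℕ) [Fact p.Prime] :
    ∃ K : Subgroup Γ, K.Normal ∧ (∃ a : ℕ, K.index = p ^ a) ∧
      ∀ K' : Subgroup Γ, K'.Normal → (∃ a : ℕ, K'.index = p ^ a) → K ≤ K' := by
  let S : Set (Subgroup Γ) := {K | K.Normal ∧ ∃ a : ℕ, K.index = p ^ a}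
  have hne : S.Nonempty := ⟨⊤, inferInstance, 0, by simp⟩
  obtain ⟨K, hKS, hmin⟩ :=
    WellFounded.has_min (InvImage.wf (fun K : Subgroup Γ => Nat.card K) Nat.lt_wfRel.wf) S hne
  obtain ⟨hKn, hKi⟩ := hKS
  refine ⟨K, hKn, hKi, ?_⟩
  intro K' hK'n hK'i
  have hinf : K ⊓ K' ∈ S := ⟨inferInstance, ppow_index_inf p K K' hKi hK'i⟩
  have h1 : ¬ Nat.card ↥(K ⊓ K') < Nat.card ↥K := hmin _ hinf
  have h2 : K ⊓ K' = K :=
    Subgroup.eq_of_le_of_card_ge inf_le_left (not_lt.mp h1)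
  exact inf_eq_left.mp h2

end Cfsg.Agent.Lib.Helper60.GS
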