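import Mathlib

/-! K-GAG leaf G09 (S4839): two involutions generating a non-2-group: some nontrivial element of odd
order is inverted by the first one. `c = a b` is inverted by `a`; its odd part is nontrivial, since
otherwise `⟨a⟩⟨c⟩ ⊇ ⟨a, b⟩` would be a 2-group. -/

set_option autoImplicit false

namespace Cfsg.Agent.Lib.Helper60.Gag

theorem dihedral_odd {Γ : Type*} [Group Γ] [Finite Γ] (a b : Γ) (ha : a * a = 1) (hb : b * b = 1)
    (h : ¬ IsPGroup 2 (Subgroup.closure ({a, b} : Set Γ))) :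
    ∃ x : Γ, x ≠ 1 ∧ Odd (orderOf x) ∧ a * x * a⁻¹ = x⁻¹ := by
  have hainv : a⁻¹ = a := inv_eq_of_mul_eq_one_right ha
  have hbinv : b⁻¹ = b := inv_eq_of_mul_eq_one_right hb
  set c : Γ := a * b with hc
  have hac : a * c * a⁻¹ = c⁻¹ := by
    rw [hc, mul_inv_rev, hainv, hbinv]
    calc a * (a * b) * a = (a * a) * b * a := by group
      _ = b * a := by rw [ha, one_mul]
  have hcpos : 0 < orderOf c := orderOf_pos c
  obtain ⟨e, t, htodd, het⟩ := Nat.exists_eq_two_pow_mul_odd (n := orderOf c) hcpos.ne'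
  set x : Γ := c ^ (2 ^ e) with hx
  have hxt : x ^ t = 1 := by
    rw [hx, ← pow_mul, ← het, pow_orderOf_eq_one]
  have hxodd : Odd (orderOf x) := Odd.of_dvd_nat htodd (orderOf_dvd_of_pow_eq_one hxt)
  have hax : a * x * a⁻¹ = x⁻¹ := by
    rw [hx, ← conj_pow, hac, inv_pow]
  refine ⟨x, ?_, hxodd, hax⟩
  intro hx1
  apply h
  -- `c` is a 2-element
  have hc2 : c ^ (2 ^ e) = 1 := hx1
  have hPa : IsPGroup 2 (Subgroup.zpowers a) := by
    apply IsPGroup.of_card_dvd_pow (n := 1)
    rw [Nat.card_zpowers, pow_one]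
    apply orderOf_dvd_of_pow_eq_one
    rw [pow_two, ha]
  have hPc : IsPGroup 2 (Subgroup.zpowers c) := by
    apply IsPGroup.of_card_dvd_pow (n := e)
    rw [Nat.card_zpowers]
    exact orderOf_dvd_of_pow_eq_one hc2
  have hfw : ∀ g ∈ Subgroup.zpowers c, a * g * a⁻¹ ∈ Subgroup.zpowers c := by
    intro g hg
    obtain ⟨k, rfl⟩ := Subgroup.mem_zpowers_iff.mp hg
    rw [← conj_zpow, hac]
    exact Subgroup.zpow_mem _ (Subgroup.inv_mem _ (Subgroup.mem_zpowers c)) k
  have hnorm : Subgroup.zpowers a ≤ Subgroup.normalizer (Subgroup.zpowers c : Set Γ) := by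
    rw [Subgroup.zpowers_le, Subgroup.mem_set_normalizer_iff]
    intro g
    constructor
    · exact hfw g
    · intro hg
      have h2 := hfw _ hg
      have h3 : a * (a * g * a⁻¹) * a⁻¹ = g := by
        rw [hainv]
        calc a * (a * g * a) * a = (a * a) * g * (a * a) := by group
          _ = g := by rw [ha, one_mul, mul_one]
      rw [h3] at h2
      exact h2
  have hsup : IsPGroup 2 (Subgroup.zpowers a ⊔ Subgroup.zpowers c : Subgroup Γ) :=
    IsPGroup.to_sup_of_normal_right' hPa hPc hnorm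
  apply hsup.to_le
  rw [Subgroup.closure_le]
  intro g hg
  rcases hg with rfl | rfl
  · exact (le_sup_left : Subgroup.zpowers g ≤ _) (Subgroup.mem_zpowers g)
  · -- `b = a⁻¹ * c`
    have hbc : g = a⁻¹ * c := by rw [hc]; group
    rw [SetLike.mem_coe, hbc]
    exact Subgroup.mul_mem _
      ((le_sup_left : Subgroup.zpowers a ≤ _) (Subgroup.inv_mem _ (Subgroup.mem_zpowers a)))
      ((le_sup_right : Subgroup.zpowers c ≤ _) (Subgroup.mem_zpowers c))

end Cfsg.Agent.Lib.Helper60.Gag
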