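import Mathlib
import Cfsg.Agent.Lib.Helper80.IndDegree
import Cfsg.Agent.Lib.Helper83.Constituent

/-!
# Isaacs-Passman `(b!)²` (S4463), Lemma L2 (helper60)

If `ψ ∈ Irr(H)` has the largest possible degree `b = b(G)`, then `ψ` vanishes off
`core_G(H)` and `|H : core_G(H)| ≤ b²`.
-/

set_option autoImplicit false
set_option linter.style.haveILetI false

namespace Cfsg.Agent.Lib.Helper60.IP

open Cfsg
open scoped ComplexConjugate

universe u

variable {G : Type u} [Group G]

/-- an irreducible character of `H` of degree `b(G)` extends to `G`. -/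
theorem exists_extension_of_max_degree [Fintype G] (H : Subgroup G) [Fintype H] (b : ℕ)
    (hG : ∀ χ : IrrCharacter G, charDegree (χ : G → ℂ) ≤ b)
    (ψ : IrrCharacter H) (hψ : charDegree (ψ : H → ℂ) = b) :
    ∃ χ : IrrCharacter G, (fun h : H => (χ : G → ℂ) h) = (ψ : H → ℂ) := by
  classical
  have hψc := Helper83.IrrCharacter_isCharacter ψ
  have hΘc : IsCharacter G (indFun H (ψ : H → ℂ)) := Helper34.isCharacter_indFun H hψc
  have hψ1 : (ψ : H → ℂ) 1 ≠ 0 := Helper83.irr_degree_ne_zero ψ
  have hΘ1 : indFun H (ψ : H → ℂ) 1 ≠ 0 := by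
    rw [Helper83.indFun_one_eq]
    apply mul_ne_zero _ hψ1
    have : H.index ≠ 0 := Subgroup.index_ne_zero_of_finite
    exact_mod_cast this
  obtain ⟨χ, hχ⟩ := Helper83.exists_constituent hΘc hΘ1
  have hχc := Helper83.IrrCharacter_isCharacter χ
  have hres : IsCharacter H (fun h : H => (χ : G → ℂ) h) := Helper83.isCharacter_restrict H hχc
  rw [Helper34.classInner_indFun_left H _ _ (Helper83.char_isClassFunction hχc)] at hχ
  have hχ' : classInner (fun h : H => (χ : G → ℂ) h) (ψ : H → ℂ) ≠ 0 := by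
    rw [← Helper83.classInner_conj_symm]
    simpa using hχ
  have hdeg : charDegree (fun h : H => (χ : G → ℂ) h) ≤ charDegree (ψ : H → ℂ) := by
    have e : charDegree (fun h : H => (χ : G → ℂ) h) = charDegree (χ : G → ℂ) := by
      have h1 := Helper83.charDegree_cast hres
      have h2 := Helper83.charDegree_cast hχc
      have : ((charDegree (fun h : H => (χ : G → ℂ) h) : ℕ) : ℂ) =
          ((charDegree (χ : G → ℂ) : ℕ) : ℂ) := by
        rw [h1, h2]; rfl
      exact_mod_cast this
    rw [e, hψ]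
    exact hG χ
  exact ⟨χ, Helper83.eq_of_constituent_of_degree_le hres ψ hχ' hdeg⟩

/-- **Lemma A'**: an irreducible character of `H` of degree `b(G)` vanishes off the core. -/
theorem eq_zero_of_not_mem_normalCore [Fintype G] (H : Subgroup G) [Fintype H] (b : ℕ)
    (hG : ∀ χ : IrrCharacter G, charDegree (χ : G → ℂ) ≤ b)
    (ψ : IrrCharacter H) (hψ : charDegree (ψ : H → ℂ) = b) (h : H)
    (hh : (h : G) ∉ H.normalCore) : (ψ : H → ℂ) h = 0 := by
  classical
  obtain ⟨χ, hχ⟩ := exists_extension_of_max_degree H b hG ψ hψ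
  by_contra hne
  have hirr : IsIrrCharacter H (fun h : H => (χ : G → ℂ) h) := by
    rw [hχ]; exact ψ.2
  have hne' : (χ : G → ℂ) (h : G) ≠ 0 := by
    have := congrFun hχ h
    rw [this]; exact hne
  obtain ⟨ξ, -, hlt⟩ := Helper80.exists_larger_constituent H χ hirr h.2 hh hne'
  have hχc := Helper83.IrrCharacter_isCharacter χ
  have hψc := Helper83.IrrCharacter_isCharacter ψ
  have e : charDegree (χ : G → ℂ) = b := by
    have h1 := Helper83.charDegree_cast hχc
    have h2 := Helper83.charDegree_cast hψc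
    have h3 : (χ : G → ℂ) 1 = (ψ : H → ℂ) 1 := by
      have := congrFun hχ 1
      simpa using this
    have : ((charDegree (χ : G → ℂ) : ℕ) : ℂ) = ((charDegree (ψ : H → ℂ) : ℕ) : ℂ) := by
      rw [h1, h2, h3]
    rw [← hψ]
    exact_mod_cast this
  have := hG ξ
  omega

/-- **Lemma L2**: `|H| ≤ |core_G(H)| · b²` when `H` has an irreducible character of degree
`b = b(G)`. -/
theorem card_le_card_normalCore_mul [Finite G] (H : Subgroup G) (b : ℕ)
    (hG : ∀ χ : IrrCharacter G, charDegree (χ : G → ℂ) ≤ b)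
    (ψ : IrrCharacter H) (hψ : charDegree (ψ : H → ℂ) = b) :
    Nat.card H ≤ Nat.card H.normalCore * b ^ 2 := by
  classical
  haveI : Fintype G := Fintype.ofFinite G
  haveI : Fintype H := Fintype.ofFinite H
  have hψc := Helper83.IrrCharacter_isCharacter ψ
  have hvan := eq_zero_of_not_mem_normalCore H b hG ψ hψ
  -- norm of `ψ`
  have hnorm : ∑ h : H, (ψ : H → ℂ) h * conj ((ψ : H → ℂ) h) = (Nat.card H : ℂ) := by
    have h1 := Helper83.irr_inner_self ψ
    rw [Helper83.classInner_def] at h1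
    have hH : (Nat.card H : ℂ) ≠ 0 := by exact_mod_cast (Nat.card_pos (α := H)).ne'
    field_simp at h1
    rw [h1]
  have hnormR : ∑ h : H, ‖(ψ : H → ℂ) h‖ ^ 2 = (Nat.card H : ℝ) := by
    have : ((∑ h : H, ‖(ψ : H → ℂ) h‖ ^ 2 : ℝ) : ℂ) = ((Nat.card H : ℝ) : ℂ) := by
      push_cast
      rw [← hnorm]
      apply Finset.sum_congr rfl
      intro h _
      rw [Complex.mul_conj, Complex.normSq_eq_norm_sq]
      push_cast
      rfl
    exact_mod_cast this
  -- bound each term
  have hb1 : ∀ h : H, ‖(ψ : H → ℂ) h‖ ^ 2 ≤ if (h : G) ∈ H.normalCore then (b : ℝ) ^ 2 else 0 := by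
    intro h
    split_ifs with hh
    · have h1 := Helper80.char_norm_le_re hψc h
      have h2 : ((ψ : H → ℂ) 1).re = (b : ℝ) := by
        rw [← Helper83.charDegree_cast hψc, hψ]
        simp
      rw [h2] at h1
      have h0 : 0 ≤ ‖(ψ : H → ℂ) h‖ := norm_nonneg _
      nlinarith
    · rw [hvan h hh]; simp
  have hsum : (Nat.card H : ℝ) ≤ ∑ h : H, (if (h : G) ∈ H.normalCore then (b : ℝ) ^ 2 else 0) := by
    rw [← hnormR]
    exact Finset.sum_le_sum (fun h _ => hb1 h)
  rw [← Finset.sum_filter, Finset.sum_const, nsmul_eq_mul] at hsum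
  have hcard : (Finset.univ.filter (fun h : H => (h : G) ∈ H.normalCore)).card =
      Nat.card H.normalCore := by
    rw [← Fintype.card_subtype, ← Nat.card_eq_fintype_card]
    have hle : H.normalCore ≤ H := Subgroup.normalCore_le H
    exact Nat.card_congr (Subgroup.subgroupOfEquivOfLe hle).toEquiv
  rw [hcard] at hsum
  exact_mod_cast hsum

end Cfsg.Agent.Lib.Helper60.IP
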