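import Mathlib
import Cfsg.Prelude.Def_Blocks
import Cfsg.Agent.Lib.Helper70.IPDefs
import Cfsg.Agent.Lib.Helper60.IPCore

/-!
# Pack K-IP (S4463), leaf 446309 IP-L2 `core_index_le` (helper60)
-/

set_option autoImplicit false

namespace Cfsg.Agent.Lib.Helper60.IP

open Cfsg Cfsg.Agent.Lib.Helper70.IP

universe u

/-- 446309 IP-L2: Lemma A'. -/
theorem core_index_le {G : Type u} [Group G] [Finite G] (b : ℕ) (hb : DegLE G b)
    (H : Subgroup G) (ψ : IrrCharacter H) (hψ : charDegree (ψ : H → ℂ) = b) :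
    Nat.card H ≤ b ^ 2 * Nat.card H.normalCore := by
  rw [mul_comm]
  exact card_le_card_normalCore_mul H b hb ψ hψ

end Cfsg.Agent.Lib.Helper60.IP
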