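import Mathlib

set_option autoImplicit false

namespace Cfsg.Agent.Lib.Helper60

/-- Structure of the modular `2`-group `M_{2^(n+1)}`: `a ^ 2` is central and there is a subgroup
`M` of index two all of whose elements have order at most `2 ^ (n - 1)`, while the elements
outside `M` have larger order. -/
theorem modular_structure {S : Type*} [Group S] [Finite S] (n : ℕ) (hn : 3 ≤ n)
    (hS : Nat.card S = 2 ^ (n + 1)) (a b : S) (hao : orderOf a = 2 ^ n) (hbo : orderOf b = 2)
    (hrel : b * a * b⁻¹ = a ^ (2 ^ (n - 1) + 1)) :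
    (∀ s : S, a ^ 2 * s = s * a ^ 2) ∧
    ∃ M : Subgroup S, M.index = 2 ∧ (∀ y, y ∉ M → 2 ^ (n - 1) < orderOf y) ∧
      (∀ m ∈ M, m ^ (2 ^ (n - 1)) = 1) := by
  obtain ⟨m, rfl⟩ : ∃ m, n = m + 3 := ⟨n - 3, by omega⟩
  have hn1 : m + 3 - 1 = m + 2 := by omega
  rw [hn1] at hrel ⊢
  set E : ℕ := 2 ^ (m + 2) with hE
  have hEE : 2 ^ (m + 3) = E + E := by rw [hE, pow_succ 2 (m + 2)]; omega
  have hEF : E = 2 * 2 ^ (m + 1) := by rw [hE, pow_succ 2 (m + 1)]; omega
  have h2n : a ^ (2 ^ (m + 3)) = 1 := by rw [← hao, pow_orderOf_eq_one]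
  have hred : ∀ q x : ℕ, a ^ (2 ^ (m + 3) * q + x) = a ^ x := by
    intro q x
    rw [pow_add, pow_mul, h2n, one_pow, one_mul]
  have hbb : b * b = 1 := by rw [← pow_two, ← hbo, pow_orderOf_eq_one]
  have hbinv : b⁻¹ = b := inv_eq_of_mul_eq_one_left hbb
  set z : S := a ^ E with hz
  have hz1 : z ≠ 1 := by
    intro h
    have h1 : orderOf a ∣ E := orderOf_dvd_of_pow_eq_one h
    rw [hao] at h1
    have h2 := Nat.le_of_dvd (by positivity) h1
    have h3 : 2 ^ (m + 2) < 2 ^ (m + 3) := Nat.pow_lt_pow_right (by norm_num) (by omega)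
    omega
  have hzz : z * z = 1 := by rw [hz, ← pow_add, ← hEE, h2n]
  have hzpow : ∀ i : ℕ, z ^ i = 1 ∨ z ^ i = z := by
    intro i
    rcases Nat.even_or_odd' i with ⟨l, rfl | rfl⟩
    · left; rw [pow_mul, pow_two, hzz, one_pow]
    · right; rw [pow_succ, pow_mul, pow_two, hzz, one_pow, one_mul]
  have hba : ∀ i : ℕ, b * a ^ i = a ^ ((E + 1) * i) * b := by
    intro i
    have h1 : (b * a * b⁻¹) ^ i = b * a ^ i * b⁻¹ := conj_pow
    rw [hrel, ← pow_mul] at h1
    rw [h1, inv_mul_cancel_right]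
  -- normal form
  have hNF : ∀ s : S, ∃ i : ℕ, s = a ^ i ∨ s = a ^ i * b := by
    set A : Subgroup S := Subgroup.zpowers a with hA
    have hAcard : Nat.card A = 2 ^ (m + 3) := by rw [hA, Nat.card_zpowers, hao]
    have hAidx : A.index = 2 := by
      have h := A.card_mul_index
      rw [hAcard, hS, pow_succ 2 (m + 3)] at h
      exact Nat.eq_of_mul_eq_mul_left (by positivity) h
    have hmemA : ∀ s ∈ A, ∃ i : ℕ, s = a ^ i := by
      intro s hs
      rw [hA, ← mem_powers_iff_mem_zpowers, Submonoid.mem_powers_iff] at hs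
      obtain ⟨i, hi⟩ := hs
      exact ⟨i, hi.symm⟩
    have hbA : b ∉ A := by
      intro hb
      obtain ⟨i, hi⟩ := hmemA b hb
      have h1 : b * a * b⁻¹ = a := by
        rw [hi, ← pow_succ, pow_succ', mul_inv_cancel_right]
      rw [hrel, pow_succ] at h1
      have h2 : a ^ E = 1 := by
        have := mul_right_cancel (b := a) (a := a ^ E) (c := 1) (by rw [h1, one_mul])
        exact this
      exact hz1 h2
    intro s
    by_cases hs : s ∈ A
    · obtain ⟨i, hi⟩ := hmemA s hs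
      exact ⟨i, Or.inl hi⟩
    · have h1 : s * b ∈ A := (Subgroup.mul_mem_iff_of_index_two hAidx).mpr (iff_of_false hs hbA)
      obtain ⟨i, hi⟩ := hmemA _ h1
      refine ⟨i, Or.inr ?_⟩
      rw [← hi, mul_assoc, hbb, mul_one]
  have hbz : b * z = z * b := by
    rw [hz, hba E]
    congr 1
    have : (E + 1) * E = 2 ^ (m + 3) * 2 ^ (m + 1) + E := by
      rw [hEE, hEF]; ring
    rw [this, hred]
  have hba2 : b * a ^ 2 = a ^ 2 * b := by
    rw [hba 2]
    congr 1
    have : (E + 1) * 2 = 2 ^ (m + 3) * 1 + 2 := by rw [hEE]; ring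
    rw [this, hred]
  have hapow : ∀ i j : ℕ, a ^ i * a ^ j = a ^ j * a ^ i := by
    intro i j; rw [← pow_add, ← pow_add, add_comm]
  -- the key facts for every element
  have hkey : ∀ s : S, ∃ i : ℕ, b * s = z ^ i * (s * b) ∧ s ^ E = z ^ i ∧
      a ^ 2 * s = s * a ^ 2 ∧ z * s = s * z := by
    intro s
    obtain ⟨i, rfl | rfl⟩ := hNF s
    · refine ⟨i, ?_, ?_, hapow _ _, hapow _ _⟩
      · rw [hba i, hz, ← pow_mul, ← mul_assoc, ← pow_add]
        congr 2; ring
      · rw [hz, ← pow_mul, ← pow_mul, mul_comm]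
    · refine ⟨i, ?_, ?_, ?_, ?_⟩
      · rw [← mul_assoc, hba i, mul_assoc (a ^ i) b b, hbb, mul_one, mul_assoc, hbb, mul_one,
          hz, ← pow_mul, ← pow_add]
        congr 1; ring
      · have hsq : (a ^ i * b) ^ 2 = a ^ (i + (E + 1) * i) := by
          rw [pow_two, mul_assoc, ← mul_assoc b (a ^ i) b, hba i, mul_assoc, hbb, mul_one,
            ← pow_add]
        have h1 : (a ^ i * b) ^ E = a ^ ((i + (E + 1) * i) * 2 ^ (m + 1)) := by
          rw [show (a ^ i * b) ^ E = ((a ^ i * b) ^ 2) ^ (2 ^ (m + 1)) by rw [← pow_mul, ← hEF],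
            hsq, ← pow_mul]
        rw [h1, hz, ← pow_mul]
        have : (i + (E + 1) * i) * 2 ^ (m + 1) = 2 ^ (m + 3) * (2 ^ m * i) + E * i := by
          have h3 : (2 : ℕ) ^ (m + 3) = 8 * 2 ^ m := by rw [pow_add]; ring
          have h4 : (2 : ℕ) ^ (m + 2) = 4 * 2 ^ m := by rw [pow_add]; ring
          have h5 : (2 : ℕ) ^ (m + 1) = 2 * 2 ^ m := by rw [pow_add]; ring
          rw [hE, h3, h4, h5]; ring
        rw [this, hred]
      · rw [← mul_assoc, hapow 2 i, mul_assoc, mul_assoc, hba2]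
      · rw [← mul_assoc, hz, hapow E i, mul_assoc, mul_assoc, ← hz, hbz]
  have hdich : ∀ s : S, (b * s = s * b ∧ s ^ E = 1) ∨ (b * s = z * (s * b) ∧ s ^ E = z) := by
    intro s
    obtain ⟨i, h1, h2, -, -⟩ := hkey s
    rcases hzpow i with h | h
    · left; rw [h] at h1 h2; rw [one_mul] at h1; exact ⟨h1, h2⟩
    · right; rw [h] at h1 h2; exact ⟨h1, h2⟩
  have hzc : ∀ s : S, z * s = s * z := fun s => (hkey s).choose_spec.2.2.2
  have ha2c : ∀ s : S, a ^ 2 * s = s * a ^ 2 := fun s => (hkey s).choose_spec.2.2.1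
  have hzne : ∀ x : S, z * x ≠ x := by
    intro x h
    apply hz1
    have := mul_right_cancel (b := x) (a := z) (c := 1) (by rw [h, one_mul])
    exact this
  refine ⟨ha2c, Subgroup.centralizer {b}, ?_, ?_, ?_⟩
  · rw [Subgroup.index_eq_two_iff]
    refine ⟨a, fun s => ?_⟩
    simp only [Subgroup.mem_centralizer_singleton_iff]
    -- `a * b = z * (b * a)`
    have hab : a * b = z * (b * a) := by
      have h1 := hba 1
      rw [pow_one, mul_one, pow_succ', ← hz] at h1
      rw [h1, ← mul_assoc, ← mul_assoc, hzc a, mul_assoc a z z, hzz, mul_one]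
    have h1 : s * a * b = z * (s * b) * a := by
      rw [mul_assoc s a b, hab, ← mul_assoc s z, ← hzc s, mul_assoc z s, ← mul_assoc s b a,
        ← mul_assoc]
    have h3 : b * (s * a) = b * s * a := (mul_assoc _ _ _).symm
    rcases hdich s with ⟨h, -⟩ | ⟨h, -⟩
    · right
      refine ⟨h.symm, ?_⟩
      intro h2
      rw [h1, h3, h] at h2
      exact hzne _ (mul_right_cancel h2)
    · left
      refine ⟨?_, ?_⟩
      · rw [h1, h3, h]
      · intro h2
        rw [← h2] at h
        exact hzne _ h.symm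
  · intro y hy
    rw [Subgroup.mem_centralizer_singleton_iff] at hy
    rcases hdich y with ⟨h, -⟩ | ⟨-, h⟩
    · exact absurd h.symm hy
    · have h1 : orderOf y ∣ 2 ^ (m + 3 + 1) := by rw [← hS]; exact orderOf_dvd_natCard y
      obtain ⟨l, -, hl⟩ := (Nat.dvd_prime_pow Nat.prime_two).mp h1
      rw [hl]
      apply Nat.pow_lt_pow_right (by norm_num)
      by_contra hcon
      have h2 : orderOf y ∣ E := by rw [hl, hE]; exact pow_dvd_pow 2 (by omega)
      have h3 : y ^ E = 1 := orderOf_dvd_iff_pow_eq_one.mp h2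
      exact hz1 (h ▸ h3)
  · intro x hx
    rw [Subgroup.mem_centralizer_singleton_iff] at hx
    rcases hdich x with ⟨-, h⟩ | ⟨h, -⟩
    · exact h
    · exfalso
      rw [← hx] at h
      exact hzne _ h.symm

end Cfsg.Agent.Lib.Helper60
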