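import Mathlib
import Cfsg.Agent.Lib.Helper22.NseDefs
import Cfsg.Agent.S0497

/-!
# K-NSE-D6 `recog_A6` (S3431 pack): a group of order 360 with 80 elements of order 3,
144 elements of order 5 and all element orders `≤ 5` is isomorphic to `A_6`.
-/

set_option autoImplicit false
set_option linter.style.haveILetI false

namespace Cfsg.Agent.Lib.Helper60.Nse

open Cfsg.Agent.Lib.Helper22.Nse

/-- an element whose order is prime to the index of a normal subgroup lies in it. -/
theorem d6_mem_of_coprime {G : Type*} [Group G] [Finite G] (K : Subgroup G) [K.Normal] (w : G)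
    (h : (orderOf w).Coprime K.index) : w ∈ K := by
  rw [← QuotientGroup.eq_one_iff]
  have h1 : orderOf (w : G ⧸ K) ∣ orderOf w := by
    apply orderOf_dvd_of_pow_eq_one
    rw [← QuotientGroup.mk_pow, pow_orderOf_eq_one, QuotientGroup.mk_one]
  have h2 : orderOf (w : G ⧸ K) ∣ K.index := by
    rw [Subgroup.index_eq_card]
    exact orderOf_dvd_natCard _
  have h3 : orderOf (w : G ⧸ K) ∣ 1 := by
    have := Nat.dvd_gcd h1 h2
    rwa [Nat.Coprime.gcd_eq_one h] at this
  exact orderOf_eq_one_iff.1 (Nat.dvd_one.1 h3)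

/-- lower bound for the order of a subgroup containing all elements of order `m`. -/
theorem d6_card_ge {G : Type*} [Group G] [Finite G] (K : Subgroup G) (m : ℕ) (hm : m ≠ 1)
    (h : ∀ g : G, orderOf g = m → g ∈ K) :
    Cfsg.Agent.S3995.s G m + 1 ≤ Nat.card K := by
  classical
  have hfin : (K : Set G).Finite := Set.toFinite _
  have hsub : {g : G | orderOf g = m} ∪ {1} ⊆ (K : Set G) := by
    intro g hg
    rcases hg with hg | hg
    · exact h g hg
    · rw [Set.mem_singleton_iff] at hg
      rw [hg]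
      exact K.one_mem
  have hdisj : Disjoint {g : G | orderOf g = m} ({1} : Set G) := by
    rw [Set.disjoint_singleton_right]
    intro h1
    rw [Set.mem_ofPred_eq, orderOf_one] at h1
    exact hm h1.symm
  have h1 := Set.ncard_le_ncard hsub hfin
  rw [Set.ncard_union_eq hdisj (Set.toFinite _) (Set.toFinite _), Set.ncard_singleton] at h1
  have h2 : Set.ncard {g : G | orderOf g = m} = Cfsg.Agent.S3995.s G m := by
    unfold Cfsg.Agent.S3995.s
    rw [← Nat.card_coe_set_eq]
    rfl
  have h3 : Set.ncard (K : Set G) = Nat.card K := by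
    rw [← Nat.card_coe_set_eq]
    rfl
  rw [h2, h3] at h1
  exact h1

/-- the case `5 ∣ |K|`. -/
theorem d6_case_five {G : Type*} [Group G] [Finite G] (hN : Nat.card G = 360)
    (h3 : Cfsg.Agent.S3995.s G 3 = 80) (h5 : Cfsg.Agent.S3995.s G 5 = 144)
    (K : Subgroup G) [K.Normal] (hK5 : 5 ∣ Nat.card K) : K = ⊤ := by
  by_contra htop
  have hci : Nat.card K * K.index = 360 := by rw [Subgroup.card_mul_index, hN]
  have hidx1 : K.index ≠ 1 := fun h => htop (Subgroup.index_eq_one.1 h)
  have hidx0 : K.index ≠ 0 := Subgroup.index_ne_zero_of_finite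
  -- 5 does not divide the index
  have h5i : ¬ 5 ∣ K.index := by
    intro h
    have : 5 * 5 ∣ Nat.card K * K.index := Nat.mul_dvd_mul hK5 h
    rw [hci] at this
    omega
  have hmem5 : ∀ g : G, orderOf g = 5 → g ∈ K := by
    intro g hg
    apply d6_mem_of_coprime
    rw [hg]
    exact (Nat.Prime.coprime_iff_not_dvd (by norm_num)).2 h5i
  have hge := d6_card_ge K 5 (by norm_num) hmem5
  rw [h5] at hge
  have hidx2 : K.index = 2 := by
    have : K.index ≤ 2 := by
      by_contra h
      push Not at h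
      nlinarith
    omega
  have hmem3 : ∀ g : G, orderOf g = 3 → g ∈ K := by
    intro g hg
    apply d6_mem_of_coprime
    rw [hg, hidx2]
    norm_num
  -- count both kinds of elements
  classical
  have hsub : ({g : G | orderOf g = 5} ∪ {g : G | orderOf g = 3}) ∪ {1} ⊆ (K : Set G) := by
    intro g hg
    rcases hg with (hg | hg) | hg
    · exact hmem5 g hg
    · exact hmem3 g hg
    · rw [Set.mem_singleton_iff] at hg
      rw [hg]
      exact K.one_mem
  have hd1 : Disjoint {g : G | orderOf g = 5} {g : G | orderOf g = 3} := by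
    rw [Set.disjoint_left]
    intro g h1 h2
    rw [Set.mem_ofPred_eq] at h1 h2
    omega
  have hd2 : Disjoint ({g : G | orderOf g = 5} ∪ {g : G | orderOf g = 3}) ({1} : Set G) := by
    rw [Set.disjoint_singleton_right]
    intro h1
    rcases h1 with h1 | h1 <;> rw [Set.mem_ofPred_eq, orderOf_one] at h1 <;> omega
  have hle := Set.ncard_le_ncard hsub (Set.toFinite _)
  rw [Set.ncard_union_eq hd2 (Set.toFinite _) (Set.toFinite _),
    Set.ncard_union_eq hd1 (Set.toFinite _) (Set.toFinite _), Set.ncard_singleton] at hle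
  have e5 : Set.ncard {g : G | orderOf g = 5} = 144 := by
    rw [← h5]; unfold Cfsg.Agent.S3995.s; rw [← Nat.card_coe_set_eq]; rfl
  have e3 : Set.ncard {g : G | orderOf g = 3} = 80 := by
    rw [← h3]; unfold Cfsg.Agent.S3995.s; rw [← Nat.card_coe_set_eq]; rfl
  have eK : Set.ncard (K : Set G) = Nat.card K := by
    rw [← Nat.card_coe_set_eq]; rfl
  rw [e5, e3, eK] at hle
  rw [hidx2] at hci
  omega

/-- the case `5 ∤ |K|`. -/
theorem d6_case_not_five {G : Type*} [Group G] [Finite G] (hN : Nat.card G = 360)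
    (hsp : ∀ m, Cfsg.Agent.S3995.s G m ≠ 0 → m ≤ 5)
    (K : Subgroup G) [K.Normal] (hK5 : ¬ 5 ∣ Nat.card K) : K = ⊥ := by
  by_contra hbot
  have hK1 : Nat.card K ≠ 1 := fun h => hbot (Subgroup.card_eq_one.1 h)
  obtain ⟨r, hr, hrK⟩ := Nat.exists_prime_and_dvd hK1
  have hrf : Fact r.Prime := ⟨hr⟩
  have hKdvd : Nat.card K ∣ 360 := hN ▸ Subgroup.card_subgroup_dvd_card K
  have hK72 : Nat.card K ∣ 72 := by
    have h360 : (360 : ℕ) = 72 * 5 := by norm_num
    rw [h360] at hKdvd
    exact (Nat.Coprime.dvd_mul_right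
      ((Nat.Prime.coprime_iff_not_dvd (by norm_num)).2 hK5).symm).1 hKdvd
  -- a Sylow r-subgroup of K and its normalizer
  obtain ⟨P⟩ : Nonempty (Sylow r K) := inferInstance
  set T : Subgroup G := (P : Subgroup K).map K.subtype with hT
  have hfr : Subgroup.normalizer (T : Set G) ⊔ K = ⊤ := Sylow.normalizer_sup_eq_top P
  have hTK : T ≤ K := by
    rw [hT]
    intro g hg
    obtain ⟨k, _, rfl⟩ := Subgroup.mem_map.1 hg
    exact k.2
  have hTcard : Nat.card T = Nat.card (P : Subgroup K) := by
    rw [hT]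
    exact Subgroup.card_map_of_injective K.subtype_injective
  have hTpow : ∃ a, Nat.card T = r ^ a := by
    rw [hTcard]
    exact (IsPGroup.iff_card.1 P.isPGroup')
  have hTdvdK : Nat.card T ∣ Nat.card K := by
    rw [hTcard]
    exact Subgroup.card_subgroup_dvd_card _
  have hrT : r ∣ Nat.card T := by
    rw [hTcard]
    exact P.dvd_card_of_dvd_card hrK
  have hT72 : Nat.card T ∣ 72 := hTdvdK.trans hK72
  -- |T| is not 1 mod 5
  have hTmod : Nat.card T % 5 ≠ 1 := by
    obtain ⟨a, ha⟩ := hTpow
    have hle : Nat.card T ≤ 72 := Nat.le_of_dvd (by norm_num) hT72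
    have hr72 : r ∣ 72 := hrT.trans hT72
    have hr23 : r = 2 ∨ r = 3 := by
      have h72 : (72 : ℕ) = 2 ^ 3 * 3 ^ 2 := by norm_num
      rw [h72] at hr72
      rcases (Nat.Prime.dvd_mul hr).1 hr72 with h | h
      · left; exact (Nat.prime_dvd_prime_iff_eq hr (by norm_num)).1 (hr.dvd_of_dvd_pow h)
      · right; exact (Nat.prime_dvd_prime_iff_eq hr (by norm_num)).1 (hr.dvd_of_dvd_pow h)
    intro hmod
    rcases hr23 with rfl | rfl
    · -- 2^a ∣ 72 = 8 * 9
      rw [ha] at hT72 hmod
      have h8 : 2 ^ a ∣ 8 := by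
        have h72 : (72 : ℕ) = 8 * 9 := by norm_num
        rw [h72] at hT72
        exact (Nat.Coprime.dvd_mul_right (Nat.Coprime.pow_left a (by norm_num))).1 hT72
      have hle8 : 2 ^ a ≤ 8 := Nat.le_of_dvd (by norm_num) h8
      have ha3 : a ≤ 3 := by
        by_contra h
        push Not at h
        have : 2 ^ 4 ≤ 2 ^ a := Nat.pow_le_pow_right (by norm_num) h
        omega
      interval_cases a <;> omega
    · rw [ha] at hT72 hmod
      have h9 : 3 ^ a ∣ 9 := by
        have h72 : (72 : ℕ) = 9 * 8 := by norm_num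
        rw [h72] at hT72
        exact (Nat.Coprime.dvd_mul_right (Nat.Coprime.pow_left a (by norm_num))).1 hT72
      have hle9 : 3 ^ a ≤ 9 := Nat.le_of_dvd (by norm_num) h9
      have ha2 : a ≤ 2 := by
        by_contra h
        push Not at h
        have : 3 ^ 3 ≤ 3 ^ a := Nat.pow_le_pow_right (by norm_num) h
        omega
      interval_cases a <;> omega
  -- 5 divides the order of the normalizer
  have h5quot : 5 ∣ Nat.card (G ⧸ K) := by
    have h1 : Nat.card K * Nat.card (G ⧸ K) = 360 := by
      rw [← Subgroup.index_eq_card, Subgroup.card_mul_index, hN]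
    have h2 : 5 ∣ Nat.card K * Nat.card (G ⧸ K) := by rw [h1]; norm_num
    rcases (Nat.Prime.dvd_mul (by norm_num)).1 h2 with h | h
    · exact absurd h hK5
    · exact h
  have hsurj : Function.Surjective ((QuotientGroup.mk' K).comp (Subgroup.normalizer (T : Set G)).subtype) := by
    intro q
    obtain ⟨g, rfl⟩ := QuotientGroup.mk'_surjective K q
    have hg : g ∈ Subgroup.normalizer (T : Set G) ⊔ K := by rw [hfr]; exact Subgroup.mem_top g
    have hg' : g ∈ ((Subgroup.normalizer (T : Set G) ⊔ K : Subgroup G) : Set G) := hg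
    rw [Subgroup.mul_normal] at hg'
    obtain ⟨m, hm, k, hk, rfl⟩ := Set.mem_mul.1 hg'
    refine ⟨⟨m, hm⟩, ?_⟩
    simp only [MonoidHom.coe_comp, Function.comp_apply, Subgroup.coe_subtype,
      QuotientGroup.mk'_apply]
    rw [QuotientGroup.mk_mul, (QuotientGroup.eq_one_iff k).2 hk, mul_one]
  have h5norm : 5 ∣ Nat.card (Subgroup.normalizer (T : Set G)) :=
    h5quot.trans (Subgroup.card_dvd_of_surjective _ hsurj)
  haveI : Fact (Nat.Prime 5) := ⟨by norm_num⟩
  obtain ⟨⟨y, hyN⟩, hy⟩ := exists_prime_orderOf_dvd_card' 5 h5norm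
  have hyo : orderOf y = 5 := by
    rw [← hy]
    exact (Subgroup.orderOf_mk y hyN).symm
  -- action of ⟨y⟩ on T by conjugation
  have hnorm : ∀ g : Subgroup.zpowers y, ∀ t : T, (g : G) * (t : G) * (g : G)⁻¹ ∈ T := by
    intro g t
    have hg : (g : G) ∈ Subgroup.normalizer (T : Set G) :=
      (Subgroup.zpowers_le.2 hyN) g.2
    exact (Subgroup.mem_normalizer_iff.1 hg (t : G)).1 t.2
  letI act : MulAction (Subgroup.zpowers y) T :=
    { smul := fun g t => ⟨(g : G) * (t : G) * (g : G)⁻¹, hnorm g t⟩
      one_smul := fun t => Subtype.ext (by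
        change ((1 : Subgroup.zpowers y) : G) * (t : G) * ((1 : Subgroup.zpowers y) : G)⁻¹ = t
        simp)
      mul_smul := fun g h t => Subtype.ext (by
        change ((g * h : Subgroup.zpowers y) : G) * (t : G) * ((g * h : Subgroup.zpowers y) : G)⁻¹
          = (g : G) * ((h : G) * (t : G) * (h : G)⁻¹) * (g : G)⁻¹
        simp [mul_assoc]) }
  have hpg : IsPGroup 5 (Subgroup.zpowers y) := by
    apply IsPGroup.of_card (n := 1)
    rw [Nat.card_zpowers, hyo, pow_one]
  have hmodeq := hpg.card_modEq_card_fixedPoints T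
  -- a nontrivial fixed point
  have hex : ∃ t : T, t ≠ 1 ∧ t ∈ MulAction.fixedPoints (Subgroup.zpowers y) T := by
    by_contra hno
    push Not at hno
    have hfp : MulAction.fixedPoints (Subgroup.zpowers y) T = {1} := by
      ext t
      constructor
      · intro ht
        by_contra h1
        exact hno t h1 ht
      · intro ht
        rw [Set.mem_singleton_iff] at ht
        rw [ht]
        intro g
        apply Subtype.ext
        change (g : G) * ((1 : T) : G) * (g : G)⁻¹ = ((1 : T) : G)
        simp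
    rw [hfp] at hmodeq
    have : Nat.card (({1} : Set T)) = 1 := by
      rw [Nat.card_coe_set_eq, Set.ncard_singleton]
    rw [this] at hmodeq
    exact hTmod hmodeq
  obtain ⟨t, ht1, htfix⟩ := hex
  have hcomm : Commute y (t : G) := by
    have := htfix ⟨y, Subgroup.mem_zpowers y⟩
    have h2 : y * (t : G) * y⁻¹ = (t : G) := congrArg Subtype.val this
    have h3 : y * (t : G) = (t : G) * y := by
      calc y * (t : G) = (y * (t : G) * y⁻¹) * y := by group
        _ = (t : G) * y := by rw [h2]
    exact h3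
  have hto : orderOf (t : G) ∣ 72 := by
    have : orderOf (t : G) ∣ Nat.card T := by
      rw [Subgroup.orderOf_coe t]
      exact orderOf_dvd_natCard t
    exact this.trans hT72
  have hto1 : orderOf (t : G) ≠ 1 := by
    intro h
    apply ht1
    apply Subtype.ext
    exact orderOf_eq_one_iff.1 h
  have hcop : (orderOf y).Coprime (orderOf (t : G)) := by
    rw [hyo]
    have h72 : Nat.Coprime 5 72 := by norm_num
    exact Nat.Coprime.coprime_dvd_right hto h72
  have hord := hcomm.orderOf_mul_eq_mul_orderOf_of_coprime hcop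
  rw [hyo] at hord
  have hto2 : 2 ≤ orderOf (t : G) := by
    have : orderOf (t : G) ≠ 0 := (orderOf_pos _).ne'
    omega
  have hs : Cfsg.Agent.S3995.s G (orderOf (y * (t : G))) ≠ 0 :=
    (Cfsg.Agent.S3995.s_ne_zero_iff _).2 ⟨_, rfl⟩
  have := hsp _ hs
  rw [hord] at this
  omega

theorem recog_A6 {G : Type*} [Group G] [Finite G] (hN : Nat.card G = 360)
    (h3 : Cfsg.Agent.S3995.s G 3 = 80)
    (h5 : Cfsg.Agent.S3995.s G 5 = 144) (hsp : ∀ m, Cfsg.Agent.S3995.s G m ≠ 0 → m ≤ 5) :
    Nonempty (G ≃* ↥(alternatingGroup (Fin 6))) := by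
  haveI : Nontrivial G := by
    rw [← Finite.one_lt_card_iff_nontrivial, hN]
    norm_num
  haveI : IsSimpleGroup G :=
    { eq_bot_or_eq_top_of_normal := fun K hK => by
        haveI := hK
        by_cases h : 5 ∣ Nat.card K
        · right; exact d6_case_five hN h3 h5 K h
        · left; exact d6_case_not_five hN hsp K h }
  exact Cfsg.Agent.S0497.result hN

end Cfsg.Agent.Lib.Helper60.Nse
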