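import Mathlib

set_option autoImplicit false

/-!
# K-OPb-8 (keystone 598908, for helper69, S5989/S5991): `exists_bad_partition`, a pure multiset lemma

`d` even: `μ = 2^d`; `d` odd, `m % 4 = 3`: `μ = 1 1 2^(d-1)`; `d` odd, `m % 4 = 1`: `μ = 3 3 2^(d-3)`.
-/

namespace Cfsg.Agent.Lib.Helper60.OPb

/-- the sum of a multiset whose members lie in `{a, 2}` -/
private theorem sum_of_subset_pair (ν : Multiset ℕ) (a : ℕ) (ha : a ≠ 2) (h : ∀ e ∈ ν, e = a ∨ e = 2) :
    ν.sum = ν.count a * a + ν.count 2 * 2 := by
  have hsub : ν.toFinset ⊆ ({a, 2} : Finset ℕ) := by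
    intro e he
    rw [Multiset.mem_toFinset] at he
    rcases h e he with rfl | rfl <;> simp
  rw [Finset.sum_multiset_count_of_subset ν _ hsub, Finset.sum_pair ha]
  simp [smul_eq_mul]

theorem exists_bad_partition (p d m : ℕ) (hp : 3 ≤ p) (hd : 3 ≤ d) (hm : Odd m) :
    ∃ μ : Multiset ℕ, (∀ e ∈ μ, 0 < e ∧ e ≤ p) ∧ (∀ e : ℕ, Even e → Even (μ.count e)) ∧ μ.sum = 2 * d ∧
      (∃ a ∈ μ, a ≠ 1) ∧
      ∀ ν : Multiset ℕ, ν ≤ μ → (∀ e : ℕ, Even e → Even (ν.count e)) → ν.sum ≠ m := by
  obtain ⟨m', hm'⟩ := hm
  rcases Nat.even_or_odd d with hde | hdo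
  · -- `μ = 2^d`
    refine ⟨Multiset.replicate d 2, ?_, ?_, ?_, ⟨2, ?_, by norm_num⟩, ?_⟩
    · intro e he
      rw [Multiset.eq_of_mem_replicate he]
      omega
    · intro e _
      rw [Multiset.count_replicate]
      split_ifs
      · exact hde
      · exact Even.zero
    · simp [Multiset.sum_replicate, mul_comm]
    · rw [Multiset.mem_replicate]
      exact ⟨by omega, rfl⟩
    · intro ν hν _ hsum
      have h2 : ∀ e ∈ ν, e = 2 ∨ e = 2 := fun e he =>
        Or.inl (Multiset.eq_of_mem_replicate (Multiset.mem_of_le hν he))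
      have : ν = Multiset.replicate (Multiset.card ν) 2 :=
        Multiset.eq_replicate_card.mpr (fun e he => (h2 e he).elim id id)
      rw [this, Multiset.sum_replicate, smul_eq_mul] at hsum
      omega
  · obtain ⟨d', hd'⟩ := hdo
    by_cases hm4 : m % 4 = 3
    · -- `μ = 1 1 2^(d-1)`
      refine ⟨1 ::ₘ 1 ::ₘ Multiset.replicate (d - 1) 2, ?_, ?_, ?_, ⟨2, ?_, by norm_num⟩, ?_⟩
      · intro e he
        simp only [Multiset.mem_cons, Multiset.mem_replicate] at he
        rcases he with rfl | rfl | ⟨_, rfl⟩ <;> omega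
      · intro e he
        have h1 : e ≠ 1 := by rintro rfl; exact absurd he (by decide)
        rw [Multiset.count_cons_of_ne h1, Multiset.count_cons_of_ne h1, Multiset.count_replicate]
        split_ifs
        · exact ⟨d', by omega⟩
        · exact Even.zero
      · simp [Multiset.sum_replicate]
        omega
      · exact Multiset.mem_cons_of_mem (Multiset.mem_cons_of_mem
          (Multiset.mem_replicate.mpr ⟨by omega, rfl⟩))
      · intro ν hν hev hsum
        have hmem : ∀ e ∈ ν, e = 1 ∨ e = 2 := by
          intro e he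
          have := Multiset.mem_of_le hν he
          simp only [Multiset.mem_cons, Multiset.mem_replicate] at this
          rcases this with rfl | rfl | ⟨_, rfl⟩ <;> simp
        have hs := sum_of_subset_pair ν 1 (by norm_num) hmem
        have hc1 : ν.count 1 ≤ 2 := by
          have := Multiset.count_le_of_le 1 hν
          simpa [Multiset.count_replicate] using this
        obtain ⟨c, hc⟩ := hev 2 (by decide)
        omega
    · -- `μ = 3 3 2^(d-3)`
      refine ⟨3 ::ₘ 3 ::ₘ Multiset.replicate (d - 3) 2, ?_, ?_, ?_, ⟨3, ?_, by norm_num⟩, ?_⟩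
      · intro e he
        simp only [Multiset.mem_cons, Multiset.mem_replicate] at he
        rcases he with rfl | rfl | ⟨_, rfl⟩ <;> omega
      · intro e he
        have h1 : e ≠ 3 := by rintro rfl; exact absurd he (by decide)
        rw [Multiset.count_cons_of_ne h1, Multiset.count_cons_of_ne h1, Multiset.count_replicate]
        split_ifs
        · exact ⟨d' - 1, by omega⟩
        · exact Even.zero
      · simp [Multiset.sum_replicate]
        omega
      · simp
      · intro ν hν hev hsum
        have hmem : ∀ e ∈ ν, e = 3 ∨ e = 2 := by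
          intro e he
          have := Multiset.mem_of_le hν he
          simp only [Multiset.mem_cons, Multiset.mem_replicate] at this
          rcases this with rfl | rfl | ⟨_, rfl⟩ <;> simp
        have hs := sum_of_subset_pair ν 3 (by norm_num) hmem
        have hc1 : ν.count 3 ≤ 2 := by
          have := Multiset.count_le_of_le 3 hν
          simpa [Multiset.count_replicate] using this
        obtain ⟨c, hc⟩ := hev 2 (by decide)
        omega

end Cfsg.Agent.Lib.Helper60.OPb
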