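import Mathlib
import Cfsg.Prelude.Def_GeometricClasses
import Cfsg.Prelude.Def_ClassicalGeometry
import Cfsg.Agent.Lib.Helper72.OQFDefs
import Cfsg.Agent.Lib.Helper91.SpUTools91
import Cfsg.Agent.Lib.Helper49.OrthOddI
import Cfsg.Agent.Lib.Helper49.PrimeOrderSpCount
import Cfsg.Agent.Lib.Helper50.MinusLang
import Cfsg.Agent.Lib.Helper54.OQFE
import Cfsg.Agent.S2568

/-!
# K-OQF-Cm (keystone 597725, S5978 pack, architect helper72): `derange_odd_minus`

`e = ord_r(q)` odd, `e ≤ m`: an element of order `r` of `Ω⁻_{2m+2}(q)` with `dim ker P₀(x) = e` odd is not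
conjugate into the normaliser of a quadratic field subalgebra (twin of `Helper91.SpU.derange_odd`).
-/

set_option autoImplicit false
set_option linter.unusedVariables false
set_option maxHeartbeats 1600000

namespace Cfsg.Agent.Lib.Helper60.OQF

open Cfsg Cfsg.Geo Polynomial Cfsg.Agent.Lib.Helper72.OQF Cfsg.Agent.Lib.Helper49
open scoped Matrix MatrixGroups

variable {F : Type*} [Field F]

/-- a scalar matrix normalises every subalgebra (local copy of `Helper91.SpU.scalar_mem_normalizer`) -/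
theorem scalar_mem_normalizer_cm {ι : Type} [Fintype ι] [DecidableEq ι] (K : Subalgebra F (Matrix ι ι F))
    (x : GL ι F) (z : F) (hz : (x : Matrix ι ι F) = z • (1 : Matrix ι ι F)) :
    x ∈ subalgebraNormalizer K := by
  intro k
  have h1 : (x : Matrix ι ι F) * k * ((x⁻¹ : GL ι F) : Matrix ι ι F) = k := by
    have h2 : (x : Matrix ι ι F) * k = k * (x : Matrix ι ι F) := by
      rw [hz, Matrix.smul_mul, Matrix.mul_smul, Matrix.one_mul, Matrix.mul_one]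
    rw [h2, mul_assoc, ← Units.val_mul, mul_inv_cancel, Units.val_one, mul_one]
  rw [h1]

theorem derange_odd_minus [Fintype F] {p : ℕ} [Fact p.Prime] [CharP F p] {q : ℕ} (hq : Fintype.card F = q) (hodd : Odd q)
    (m : ℕ) (hm : 1 ≤ m) (a₀ b₀ : F) (hab : ∀ x y : F, x ^ 2 + a₀ * x * y + b₀ * y ^ 2 = 0 → x = 0 ∧ y = 0)
    (K : Subalgebra F (Matrix ((Fin m ⊕ Fin m) ⊕ Fin 2) ((Fin m ⊕ Fin m) ⊕ Fin 2) F)) (hK : IsFieldSubalgebra 2 K)
    (r : ℕ) [Fact r.Prime] (hr2 : r ≠ 2) (hrp : r ≠ p)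
    (he : Odd (orderOf (q : ZMod r))) (hed : orderOf (q : ZMod r) ≤ m) :
    ∃ x ∈ omegaGL (quadFormMinus m F a₀ b₀),
      ((x ^ r : GL ((Fin m ⊕ Fin m) ⊕ Fin 2) F) : Matrix ((Fin m ⊕ Fin m) ⊕ Fin 2) ((Fin m ⊕ Fin m) ⊕ Fin 2) F) = 1 ∧
      (∀ z : F, (x : Matrix ((Fin m ⊕ Fin m) ⊕ Fin 2) ((Fin m ⊕ Fin m) ⊕ Fin 2) F) ≠
        z • (1 : Matrix ((Fin m ⊕ Fin m) ⊕ Fin 2) ((Fin m ⊕ Fin m) ⊕ Fin 2) F)) ∧
      ∀ g ∈ omegaGL (quadFormMinus m F a₀ b₀), g⁻¹ * x * g ∉ subalgebraNormalizer K := by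
  classical
  have hr : r.Prime := Fact.out
  have hp : p.Prime := Fact.out
  haveI hne0 : Nonempty ((Fin m ⊕ Fin m) ⊕ Fin 2) := ⟨Sum.inr 0⟩
  obtain ⟨f, _, hqf⟩ := FiniteField.card F p
  rw [hq] at hqf
  have hKc : Fintype.card F = p ^ (f : ℕ) := by rw [hq, hqf]
  obtain ⟨i, hi⟩ : ∃ i, i = orderOf ((q : ℕ) : ZMod r) := ⟨_, rfl⟩
  have hi' : i = orderOf ((p ^ (f : ℕ) : ℕ) : ZMod r) := by rw [hi, hqf]
  have D := Cfsg.Agent.S2568.factorData hKc r i hrp hi'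
  have h2F : (2 : F) ≠ 0 := by
    intro h0
    have h1 : ((2 : ℕ) : F) = 0 := by exact_mod_cast h0
    rw [CharP.cast_eq_zero_iff F p] at h1
    have hp2 : p = 2 := (Nat.prime_dvd_prime_iff_eq hp Nat.prime_two).mp h1
    rw [hqf, hp2] at hodd
    have hf0 : (f : ℕ) ≠ 0 := f.ne_zero
    exact (Nat.not_even_iff_odd.mpr hodd) ((Nat.even_pow.mpr ⟨even_two, hf0⟩))
  have hmon : ∀ P ∈ (UniqueFactorizationMonoid.normalizedFactors
      (Polynomial.cyclotomic r F)).toFinset, P.Monic := by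
    intro P hP
    have hP1 := Multiset.mem_toFinset.mp hP
    rw [← UniqueFactorizationMonoid.normalize_normalized_factor P hP1]
    exact Polynomial.monic_normalize
      (UniqueFactorizationMonoid.irreducible_of_normalized_factor P hP1).ne_zero
  rw [← hi] at he hed
  have hi1 : 1 ≤ i := D.hi
  -- a factor
  have hne : (UniqueFactorizationMonoid.normalizedFactors
      (Polynomial.cyclotomic r F)).toFinset.Nonempty := by
    rw [Finset.nonempty_iff_ne_empty]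
    intro hempty
    have h1 := D.prod
    rw [hempty, Finset.prod_empty, mul_one] at h1
    have h2 := congrArg Polynomial.natDegree h1
    have e1 : (Polynomial.X - 1 : Polynomial F).natDegree = 1 := by
      rw [← Polynomial.C_1]; exact Polynomial.natDegree_X_sub_C 1
    have e2 : (Polynomial.X ^ r - 1 : Polynomial F).natDegree = r := by
      rw [← Polynomial.C_1]; exact Polynomial.natDegree_X_pow_sub_C
    rw [e1, e2] at h2
    have := hr.two_le
    omega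
  obtain ⟨P₀, hP₀⟩ := hne
  have hP₀irr : Fact (Irreducible P₀) := ⟨D.irr P₀ hP₀⟩
  set Q₀ : ↥(UniqueFactorizationMonoid.normalizedFactors (Polynomial.cyclotomic r F)).toFinset :=
    ⟨P₀, hP₀⟩ with hQ₀
  set Q₁ : ↥(UniqueFactorizationMonoid.normalizedFactors (Polynomial.cyclotomic r F)).toFinset :=
    D.star hmon Q₀ with hQ₁
  have hQ₁val : (Q₁ : F[X]) = Cfsg.Agent.Lib.Helper49.starP P₀ := by
    rw [hQ₁, D.star_val]
  have hQne : Q₁ ≠ Q₀ := by
    intro h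
    have h1 : (Q₁ : F[X]) = P₀ := by rw [h]
    rw [hQ₁val] at h1
    refine Cfsg.Agent.Lib.Helper49.starP_ne_self_of_odd (P := P₀) hr.pos (hr.odd_of_ne_two hr2) ?_
      (D.dvd_of_mem hP₀) (D.not_dvd_X_sub_one hP₀) h1
    rw [D.deg P₀ hP₀]; exact he
  let a : ↥(UniqueFactorizationMonoid.normalizedFactors
      (Polynomial.cyclotomic r F)).toFinset → ℕ := fun P => if P = Q₀ ∨ P = Q₁ then 1 else 0
  have hsum : ∑ P, a P = 2 := by
    have h1 : ∑ P, a P = ∑ P ∈ ({Q₀, Q₁} : Finset _), 1 := by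
      rw [Finset.sum_ite, Finset.sum_const_zero, add_zero]
      apply Finset.sum_congr _ (fun _ _ => rfl)
      ext P
      simp
    rw [h1, Finset.sum_const, Finset.card_pair (Ne.symm hQne)]
    rfl
  have ha1 : i * ∑ P, a P ≤ 2 * m := by rw [hsum]; omega
  have hQ₁star : D.star hmon Q₁ = Q₀ := by rw [hQ₁, D.star_star]
  have hst : ∀ P, a (D.star hmon P) = a P := by
    intro P
    have hiff : (D.star hmon P = Q₀ ∨ D.star hmon P = Q₁) ↔ (P = Q₀ ∨ P = Q₁) := by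
      constructor
      · rintro (h | h)
        · right
          rw [← D.star_star hmon P, h]
        · left
          rw [← D.star_star hmon P, h, hQ₁star]
      · rintro (h | h)
        · right
          rw [h]
        · left
          rw [h, hQ₁star]
    simp only [a]
    by_cases hP : P = Q₀ ∨ P = Q₁
    · rw [if_pos hP, if_pos (hiff.mpr hP)]
    · rw [if_neg hP, if_neg (fun h => hP (hiff.mp h))]
  obtain ⟨g₀, hg₀, hκ⟩ := D.exists_orth_realize_minus_odd hmon hr hr2 he m a₀ b₀ a hst ha1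
  have hκ₀ : Cfsg.Agent.Lib.Helper49.kdim
      (Matrix.toLin' (omat (Cfsg.Agent.Lib.Helper50.QMinus m F a₀ b₀) g₀)) P₀ = i := by
    have := hκ Q₀
    simp only [a, true_or, if_true, mul_one] at this
    exact this
  -- the GL element
  set x : GL ((Fin m ⊕ Fin m) ⊕ Fin 2) F := (g₀ : GL ((Fin m ⊕ Fin m) ⊕ Fin 2) F) with hxdef
  have hxr : x ^ r = 1 := by
    have h2 := congrArg Subtype.val hg₀
    simpa using h2
  have hcard : 2 ≤ Fintype.card ((Fin m ⊕ Fin m) ⊕ Fin 2) := by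
    rw [Cfsg.Agent.Lib.Helper50.card_minus_index]; omega
  have hxΩ : x ∈ omegaGL (quadFormMinus m F a₀ b₀) :=
    Cfsg.Agent.Lib.Helper54.OQF.mem_omegaGL_of_pow_eq_one h2F (Cfsg.Agent.Lib.Helper50.QMinus m F a₀ b₀)
      (Cfsg.Agent.Lib.Helper50.QMinus_nondeg_of_anis m a₀ b₀ hab) hcard x g₀.2 r (hr.odd_of_ne_two hr2) hxr
  -- the derangement property
  have hder : ∀ g ∈ omegaGL (quadFormMinus m F a₀ b₀), g⁻¹ * x * g ∉ subalgebraNormalizer K := by
    intro g _ hy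
    set y : GL ((Fin m ⊕ Fin m) ⊕ Fin 2) F := g⁻¹ * x * g with hydef
    have hyr : y ^ r = 1 := by
      have h1 : g⁻¹ * x * g = g⁻¹ * x * g⁻¹⁻¹ := by rw [inv_inv]
      rw [hydef, h1, conj_pow, hxr]
      group
    have hcomm := Cfsg.Agent.Lib.Helper91.SpU.commute_of_normalizer_odd h2F K hK y hy r
      (hr.odd_of_ne_two hr2) hyr
    set ψ : ((Fin m ⊕ Fin m) ⊕ Fin 2 → F) →ₗ[F] ((Fin m ⊕ Fin m) ⊕ Fin 2 → F) :=
      Matrix.toLin' (y : Matrix ((Fin m ⊕ Fin m) ⊕ Fin 2) ((Fin m ⊕ Fin m) ⊕ Fin 2) F) with hψ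
    have hinvU : ∀ a ∈ K, ∀ w ∈ LinearMap.ker (aeval ψ P₀), a *ᵥ w ∈ LinearMap.ker (aeval ψ P₀) := by
      intro a ha w hw
      rw [LinearMap.mem_ker] at hw ⊢
      have h1 := Cfsg.Agent.Lib.Helper49.aeval_intertwine ψ ψ (Matrix.toLin' a) (by
        intro v
        rw [hψ, Matrix.toLin'_apply, Matrix.toLin'_apply, Matrix.toLin'_apply, Matrix.toLin'_apply,
          Matrix.mulVec_mulVec, Matrix.mulVec_mulVec, hcomm a ha]) P₀ w
      rw [hw, map_zero, Matrix.toLin'_apply] at h1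
      exact h1.symm
    have heven := Cfsg.Agent.Lib.Helper91.SpU.even_finrank_of_invariant K hK
      (LinearMap.ker (aeval ψ P₀)) hinvU
    -- conjugation invariance of the kernel dimension
    have hgg' : (g : Matrix ((Fin m ⊕ Fin m) ⊕ Fin 2) ((Fin m ⊕ Fin m) ⊕ Fin 2) F) *
        ((g⁻¹ : GL ((Fin m ⊕ Fin m) ⊕ Fin 2) F) :
          Matrix ((Fin m ⊕ Fin m) ⊕ Fin 2) ((Fin m ⊕ Fin m) ⊕ Fin 2) F) = 1 := by
      rw [← Units.val_mul, mul_inv_cancel, Units.val_one]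
    have hg'g : ((g⁻¹ : GL ((Fin m ⊕ Fin m) ⊕ Fin 2) F) :
          Matrix ((Fin m ⊕ Fin m) ⊕ Fin 2) ((Fin m ⊕ Fin m) ⊕ Fin 2) F) *
        (g : Matrix ((Fin m ⊕ Fin m) ⊕ Fin 2) ((Fin m ⊕ Fin m) ⊕ Fin 2) F) = 1 := by
      rw [← Units.val_mul, inv_mul_cancel, Units.val_one]
    let e : ((Fin m ⊕ Fin m) ⊕ Fin 2 → F) ≃ₗ[F] ((Fin m ⊕ Fin m) ⊕ Fin 2 → F) :=
      LinearEquiv.ofLinearMap
        (Matrix.toLin' (g : Matrix ((Fin m ⊕ Fin m) ⊕ Fin 2) ((Fin m ⊕ Fin m) ⊕ Fin 2) F))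
        (Matrix.toLin' ((g⁻¹ : GL ((Fin m ⊕ Fin m) ⊕ Fin 2) F) :
          Matrix ((Fin m ⊕ Fin m) ⊕ Fin 2) ((Fin m ⊕ Fin m) ⊕ Fin 2) F))
        (by rw [← Matrix.toLin'_mul, hgg', Matrix.toLin'_one])
        (by rw [← Matrix.toLin'_mul, hg'g, Matrix.toLin'_one])
    have hconj := Cfsg.Agent.Lib.Helper49.kdim_conj ψ
      (Matrix.toLin' (x : Matrix ((Fin m ⊕ Fin m) ⊕ Fin 2) ((Fin m ⊕ Fin m) ⊕ Fin 2) F)) e (by
        intro v
        change Matrix.toLin' (g : Matrix ((Fin m ⊕ Fin m) ⊕ Fin 2) ((Fin m ⊕ Fin m) ⊕ Fin 2) F) (ψ v) =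
          Matrix.toLin' (x : Matrix ((Fin m ⊕ Fin m) ⊕ Fin 2) ((Fin m ⊕ Fin m) ⊕ Fin 2) F)
            (Matrix.toLin' (g : Matrix ((Fin m ⊕ Fin m) ⊕ Fin 2) ((Fin m ⊕ Fin m) ⊕ Fin 2) F) v)
        rw [hψ, Matrix.toLin'_apply, Matrix.toLin'_apply, Matrix.toLin'_apply, Matrix.toLin'_apply,
          Matrix.mulVec_mulVec, Matrix.mulVec_mulVec, hydef, Units.val_mul, Units.val_mul,
          ← mul_assoc, ← mul_assoc, hgg', one_mul]) P₀
    have hU : Module.finrank F (LinearMap.ker (aeval ψ P₀)) = i := by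
      have h1 : Module.finrank F (LinearMap.ker (aeval ψ P₀)) =
          Cfsg.Agent.Lib.Helper49.kdim ψ P₀ := rfl
      rw [h1, hconj]
      exact hκ₀
    rw [hU] at heven
    exact (Nat.not_even_iff_odd.mpr he) heven
  refine ⟨x, hxΩ, ?_, ?_, hder⟩
  · rw [hxr]; rfl
  · intro z hz
    apply hder 1 (Subgroup.one_mem _)
    have : (1 : GL ((Fin m ⊕ Fin m) ⊕ Fin 2) F)⁻¹ * x * 1 = x := by group
    rw [this]
    exact scalar_mem_normalizer_cm K x z hz

end Cfsg.Agent.Lib.Helper60.OQF
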