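import Mathlib
import Cfsg.Prelude.Def_Solvable
import Cfsg.Agent.S3995

/-!
# Pack K-OTF (S3999), leaf 399910 NS5c `hFC_of_isFrobeniusComplement` (helper60)
Universe shrink of the Frobenius-complement hypothesis.
-/

set_option autoImplicit false
open Cfsg
open scoped Pointwise

namespace Cfsg.Agent.Lib.Helper60.OTF

/-- transport of `IsFrobeniusComplement` along a group isomorphism -/
theorem isFrobeniusComplement_map {L L' : Type*} [Group L] [Group L'] (e : L ≃* L')
    (H : Subgroup L) (hH : Cfsg.IsFrobeniusComplement H) :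
    Cfsg.IsFrobeniusComplement (H.map e.toMonoidHom) := by
  obtain ⟨h1, h2, h3⟩ := hH
  have hmem : ∀ x : L, e x ∈ H.map e.toMonoidHom ↔ x ∈ H := by
    intro x
    constructor
    · rintro ⟨y, hy, hxy⟩
      have : y = x := e.injective hxy
      rwa [← this]
    · intro hx
      exact ⟨x, hx, rfl⟩
  refine ⟨?_, ?_, ?_⟩
  · intro hbot
    apply h1
    rw [Subgroup.eq_bot_iff_forall]
    intro x hx
    have : e x ∈ H.map e.toMonoidHom := (hmem x).2 hx
    rw [hbot, Subgroup.mem_bot] at this
    have h0 : e x = e 1 := by rw [this, map_one]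
    exact e.injective h0
  · intro htop
    apply h2
    rw [Subgroup.eq_top_iff']
    intro x
    have : e x ∈ H.map e.toMonoidHom := by rw [htop]; exact Subgroup.mem_top _
    exact (hmem x).1 this
  · intro g' hg'
    have hg : e.symm g' ∉ H := by
      intro hc
      apply hg'
      have := (hmem (e.symm g')).2 hc
      rwa [e.apply_symm_apply] at this
    have hbot := h3 (e.symm g') hg
    rw [Subgroup.eq_bot_iff_forall]
    intro y hy
    obtain ⟨hy1, hy2⟩ := Subgroup.mem_inf.1 hy
    obtain ⟨h, hh, rfl⟩ := hy1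
    rw [Subgroup.mem_smul_pointwise_iff_exists] at hy2
    obtain ⟨z, hz, hzy⟩ := hy2
    obtain ⟨h', hh', rfl⟩ := hz
    have hconj : h = MulAut.conj (e.symm g') • h' := by
      apply e.injective
      have : (MulAut.conj g' • (e.toMonoidHom h') : L') = e.toMonoidHom h := hzy
      simp only [MulAut.smul_def, MulAut.conj_apply, MulEquiv.coe_toMonoidHom] at this ⊢
      rw [map_mul, map_mul, map_inv, e.apply_symm_apply]
      exact this.symm
    have hmem2 : h ∈ H ⊓ MulAut.conj (e.symm g') • H := by
      refine Subgroup.mem_inf.2 ⟨hh, ?_⟩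
      rw [hconj]
      exact Subgroup.smul_mem_pointwise_smul _ _ _ hh'
    rw [hbot, Subgroup.mem_bot] at hmem2
    show e.toMonoidHom h = 1
    rw [hmem2, map_one]

/-- LEAF NS5c. -/
theorem hFC_of_isFrobeniusComplement {L : Type*} [Group L] [Finite L] (H : Subgroup L)
    (hH : Cfsg.IsFrobeniusComplement H) :
    ∃ (L' : Type) (_ : Group L') (_ : Finite L') (H' : Subgroup L'),
      Cfsg.IsFrobeniusComplement H' ∧ Nonempty (H ≃* H') := by
  obtain ⟨L', instG, instF, ⟨e⟩⟩ := Cfsg.Agent.S3995.exists_type_zero_model L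
  exact ⟨L', instG, instF, H.map e.toMonoidHom, isFrobeniusComplement_map e H hH,
    ⟨e.subgroupMap H⟩⟩

end Cfsg.Agent.Lib.Helper60.OTF
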