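import Mathlib

set_option autoImplicit false

namespace Cfsg.Agent.Lib.Helper60

variable {G : Type*} [Group G]

/-- Elementwise commuting of two subgroups. -/
def Cm (X Y : Subgroup G) : Prop := ∀ x ∈ X, ∀ y ∈ Y, x * y = y * x

theorem Cm.symm {X Y : Subgroup G} (h : Cm X Y) : Cm Y X := fun y hy x hx => (h x hx y hy).symm

theorem cm_iff_le_centralizer {X Y : Subgroup G} :
    Cm X Y ↔ X ≤ Subgroup.centralizer (Y : Set G) := by
  constructor
  · intro h x hx
    rw [Subgroup.mem_centralizer_iff]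
    intro y hy
    exact (h x hx y hy).symm
  · intro h x hx y hy
    have := h hx
    rw [Subgroup.mem_centralizer_iff] at this
    exact (this y hy).symm

theorem Cm.mono {X Y X' Y' : Subgroup G} (h : Cm X Y) (hX : X' ≤ X) (hY : Y' ≤ Y) : Cm X' Y' :=
  fun x hx y hy => h x (hX hx) y (hY hy)

theorem cm_zpowers_left {x : G} {Y : Subgroup G} (h : ∀ y ∈ Y, x * y = y * x) :
    Cm (Subgroup.zpowers x) Y := by
  rw [cm_iff_le_centralizer, Subgroup.zpowers_le, Subgroup.mem_centralizer_iff]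
  intro y hy
  exact (h y hy).symm

theorem cm_sup_left {X Y T : Subgroup G} (h1 : Cm X T) (h2 : Cm Y T) : Cm (X ⊔ Y) T := by
  rw [cm_iff_le_centralizer] at *
  exact sup_le h1 h2

/-- conjugate subgroup -/
abbrev cj (g : G) (X : Subgroup G) : Subgroup G := X.map (MulAut.conj g).toMonoidHom

theorem mem_cj_iff (g a : G) (X : Subgroup G) : a ∈ cj g X ↔ ∃ x ∈ X, a = g * x * g⁻¹ := by
  constructor
  · rintro ⟨x, hx, rfl⟩
    exact ⟨x, hx, by simp⟩
  · rintro ⟨x, hx, rfl⟩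
    exact ⟨x, hx, by simp⟩

theorem cj_mul' (g h : G) (X : Subgroup G) : cj (g * h) X = cj g (cj h X) := by
  ext a
  simp only [mem_cj_iff]
  constructor
  · rintro ⟨x, hx, rfl⟩
    exact ⟨h * x * h⁻¹, ⟨x, hx, rfl⟩, by group⟩
  · rintro ⟨b, ⟨x, hx, rfl⟩, rfl⟩
    exact ⟨x, hx, by group⟩

theorem cj_eq_self_of_commute (z : G) (W : Subgroup G) (h : ∀ w ∈ W, z * w = w * z) :
    cj z W = W := by
  ext a
  rw [mem_cj_iff]
  constructor
  · rintro ⟨w, hw, rfl⟩
    rw [h w hw, mul_inv_cancel_right]; exact hw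
  · intro ha
    exact ⟨a, ha, by rw [h a ha, mul_inv_cancel_right]⟩

theorem cm_cj_of_commute {S W : Subgroup G} (g : G) (hg : ∀ s ∈ S, s * g = g * s)
    (h : Cm S W) : Cm S (cj g W) := by
  intro s hs a ha
  obtain ⟨w, hw, rfl⟩ := (mem_cj_iff g a W).mp ha
  have h1 : Commute s g := hg s hs
  have h2 : Commute s w := h s hs w hw
  exact ((h1.mul_right h2).mul_right h1.inv_right).eq

theorem cm_cj_cj (g : G) {X Y : Subgroup G} (h : Cm X Y) : Cm (cj g X) (cj g Y) := by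
  intro a ha b hb
  obtain ⟨x, hx, rfl⟩ := (mem_cj_iff g a X).mp ha
  obtain ⟨y, hy, rfl⟩ := (mem_cj_iff g b Y).mp hb
  have := h x hx y hy
  calc g * x * g⁻¹ * (g * y * g⁻¹) = g * (x * y) * g⁻¹ := by group
    _ = g * (y * x) * g⁻¹ := by rw [this]
    _ = g * y * g⁻¹ * (g * x * g⁻¹) := by group

theorem card_cj' (g : G) (X : Subgroup G) : Nat.card ↥(cj g X) = Nat.card ↥X :=
  Subgroup.card_map_of_injective (MulAut.conj g).injective

section prime
variable {p : ℕ} (hp : p.Prime)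
include hp

theorem eq_zpowers_of_card_prime {X : Subgroup G} (hX : Nat.card ↥X = p) {x : G} (hx : x ∈ X)
    (hx1 : x ≠ 1) : X = Subgroup.zpowers x := by
  have : Fact p.Prime := ⟨hp⟩
  have h1 : Subgroup.zpowers (⟨x, hx⟩ : ↥X) = ⊤ :=
    zpowers_eq_top_of_prime_card hX (fun h => hx1 (congrArg Subtype.val h))
  ext a
  constructor
  · intro ha
    have h2 : (⟨a, ha⟩ : ↥X) ∈ Subgroup.zpowers (⟨x, hx⟩ : ↥X) := by rw [h1]; trivial
    obtain ⟨k, hk⟩ := Subgroup.mem_zpowers_iff.mp h2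
    rw [Subgroup.mem_zpowers_iff]
    exact ⟨k, by simpa using congrArg Subtype.val hk⟩
  · intro ha
    exact (Subgroup.zpowers_le.mpr hx) ha

theorem exists_ne_one_of_card_prime {X : Subgroup G} (hX : Nat.card ↥X = p) :
    ∃ x ∈ X, x ≠ 1 := by
  have hne : X ≠ ⊥ := by
    intro h
    rw [h, Subgroup.card_bot] at hX
    exact hp.one_lt.ne hX
  obtain ⟨⟨x, hx⟩, hx1⟩ := (Subgroup.ne_bot_iff_exists_ne_one).mp hne
  exact ⟨x, hx, fun h => hx1 (Subtype.ext h)⟩

omit hp in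
theorem pow_eq_one_of_card_prime {X : Subgroup G} (hX : Nat.card ↥X = p) {x : G} (hx : x ∈ X) :
    x ^ p = 1 := by
  have : (⟨x, hx⟩ : ↥X) ^ p = 1 := by rw [← hX]; exact pow_card_eq_one'
  simpa using congrArg Subtype.val this

theorem cm_self_of_card_prime {X : Subgroup G} (hX : Nat.card ↥X = p) : Cm X X := by
  obtain ⟨x, hx, hx1⟩ := exists_ne_one_of_card_prime hp hX
  have hXz := eq_zpowers_of_card_prime hp hX hx hx1
  intro a ha b hb
  rw [hXz] at ha hb
  obtain ⟨i, rfl⟩ := Subgroup.mem_zpowers_iff.mp ha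
  obtain ⟨j, rfl⟩ := Subgroup.mem_zpowers_iff.mp hb
  rw [← zpow_add, ← zpow_add, add_comm]

theorem eq_of_le_of_card_prime {X Y : Subgroup G} (hX : Nat.card ↥X = p) (hY : Nat.card ↥Y = p)
    (h : X ≤ Y) : X = Y := by
  have : Finite ↥Y := Nat.finite_of_card_ne_zero (by rw [hY]; exact hp.ne_zero)
  exact Subgroup.eq_of_le_of_card_ge h (by rw [hX, hY])

theorem inf_eq_bot_of_card_prime {X Y : Subgroup G} (hX : Nat.card ↥X = p)
    (hY : Nat.card ↥Y = p) (hne : X ≠ Y) : X ⊓ Y = ⊥ := by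
  by_contra hbot
  obtain ⟨⟨a, ha⟩, ha1⟩ := (Subgroup.ne_bot_iff_exists_ne_one).mp hbot
  have ha1' : a ≠ 1 := fun h => ha1 (Subtype.ext h)
  have h1 := eq_zpowers_of_card_prime hp hX ha.1 ha1'
  have h2 := eq_zpowers_of_card_prime hp hY ha.2 ha1'
  exact hne (h1.trans h2.symm)

omit hp in
/-- Every element of the join of two commuting subgroups is a product. -/
theorem exists_mul_of_mem_sup {X Y : Subgroup G} (h : Cm X Y) {g : G} (hg : g ∈ X ⊔ Y) :
    ∃ x ∈ X, ∃ y ∈ Y, g = x * y := by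
  have hr := MonoidHom.noncommCoprod_range X.subtype Y.subtype (fun a b => h a a.2 b b.2)
  rw [Subgroup.range_subtype, Subgroup.range_subtype] at hr
  rw [← hr] at hg
  obtain ⟨⟨a, b⟩, rfl⟩ := hg
  exact ⟨a, a.2, b, b.2, rfl⟩

theorem card_sup_of_card_prime {X Y : Subgroup G} (hX : Nat.card ↥X = p) (hY : Nat.card ↥Y = p)
    (hne : X ≠ Y) (h : Cm X Y) : Nat.card ↥(X ⊔ Y) = p * p := by
  have hcomm : ∀ (a : ↥X) (b : ↥Y), Commute (X.subtype a) (Y.subtype b) :=
    fun a b => h a a.2 b b.2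
  have hr := MonoidHom.noncommCoprod_range X.subtype Y.subtype hcomm
  rw [Subgroup.range_subtype, Subgroup.range_subtype] at hr
  have hinj : Function.Injective (MonoidHom.noncommCoprod X.subtype Y.subtype hcomm) := by
    rw [MonoidHom.noncommCoprod_injective]
    refine ⟨X.subtype_injective, Y.subtype_injective, ?_⟩
    rw [Subgroup.range_subtype, Subgroup.range_subtype, disjoint_iff]
    exact inf_eq_bot_of_card_prime hp hX hY hne
  rw [← hr]
  rw [Nat.card_congr (MonoidHom.ofInjective hinj).toEquiv.symm, Nat.card_prod, hX, hY]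

/-- the join of two commuting subgroups of order `p` is commutative -/
theorem cm_sup_sup {X Y : Subgroup G} (hX : Nat.card ↥X = p) (hY : Nat.card ↥Y = p)
    (h : Cm X Y) : Cm (X ⊔ Y) (X ⊔ Y) := by
  have hXX := cm_self_of_card_prime hp hX
  have hYY := cm_self_of_card_prime hp hY
  have h1 : Cm X (X ⊔ Y) := (cm_sup_left hXX.symm h.symm).symm
  have h2 : Cm Y (X ⊔ Y) := (cm_sup_left h hYY).symm
  exact cm_sup_left h1 h2

omit hp in
theorem pow_eq_one_of_mem_sup {X Y : Subgroup G} (hX : Nat.card ↥X = p) (hY : Nat.card ↥Y = p)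
    (h : Cm X Y) {g : G} (hg : g ∈ X ⊔ Y) : g ^ p = 1 := by
  obtain ⟨x, hx, y, hy, rfl⟩ := exists_mul_of_mem_sup h hg
  have hc : Commute x y := h x hx y hy
  rw [hc.mul_pow, pow_eq_one_of_card_prime hX hx, pow_eq_one_of_card_prime hY hy, one_mul]

theorem card_zpowers_of_mem_sup {X Y : Subgroup G} (hX : Nat.card ↥X = p) (hY : Nat.card ↥Y = p)
    (h : Cm X Y) {g : G} (hg : g ∈ X ⊔ Y) (hg1 : g ≠ 1) :
    Nat.card ↥(Subgroup.zpowers g) = p := by
  have : Fact p.Prime := ⟨hp⟩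
  rw [Nat.card_zpowers]
  exact orderOf_eq_prime (pow_eq_one_of_mem_sup hX hY h hg) hg1

/-- "one or all": a subgroup commuting with two distinct subgroups of order `p` of a line
commutes with the whole line -/
theorem cm_sup_of_cm_two {X Y S₁ S₂ T : Subgroup G} [Finite G] (hX : Nat.card ↥X = p)
    (hY : Nat.card ↥Y = p)
    (hne : X ≠ Y) (h : Cm X Y) (hS₁ : Nat.card ↥S₁ = p) (hS₂ : Nat.card ↥S₂ = p)
    (hS : S₁ ≠ S₂) (h1 : S₁ ≤ X ⊔ Y) (h2 : S₂ ≤ X ⊔ Y) (hT1 : Cm T S₁) (hT2 : Cm T S₂) :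
    Cm T (X ⊔ Y) := by
  have hE := card_sup_of_card_prime hp hX hY hne h
  set C : Subgroup G := Subgroup.centralizer (T : Set G) ⊓ (X ⊔ Y) with hC
  have hS₁C : S₁ ≤ C := le_inf (cm_iff_le_centralizer.mp hT1.symm) h1
  have hS₂C : S₂ ≤ C := le_inf (cm_iff_le_centralizer.mp hT2.symm) h2
  have hCle : C ≤ X ⊔ Y := inf_le_right
  have hdvd : Nat.card ↥C ∣ p * p := hE ▸ Subgroup.card_dvd_of_le hCle
  have hdvd1 : p ∣ Nat.card ↥C := hS₁ ▸ Subgroup.card_dvd_of_le hS₁C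
  have hCcard : Nat.card ↥C = p * p := by
    rw [← pow_two] at hdvd ⊢
    obtain ⟨k, hk, hkc⟩ := (Nat.dvd_prime_pow hp).mp hdvd
    interval_cases k
    · rw [hkc, pow_zero] at hdvd1
      exact absurd (Nat.le_of_dvd one_pos hdvd1) (not_le.mpr hp.one_lt)
    · exfalso
      rw [pow_one] at hkc
      have e1 : S₁ = C := Subgroup.eq_of_le_of_card_ge hS₁C (by rw [hS₁, hkc])
      have e2 : S₂ = C := Subgroup.eq_of_le_of_card_ge hS₂C (by rw [hS₂, hkc])
      exact hS (e1.trans e2.symm)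
    · exact hkc
  have hCeq : C = X ⊔ Y := Subgroup.eq_of_le_of_card_ge hCle (by rw [hCcard, hE])
  have : X ⊔ Y ≤ Subgroup.centralizer (T : Set G) := by
    rw [← hCeq]; exact inf_le_left
  exact (cm_iff_le_centralizer.mpr this).symm

end prime

end Cfsg.Agent.Lib.Helper60
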