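import Mathlib
import Cfsg.Agent.Lib.Helper60.PointLine

set_option autoImplicit false

namespace Cfsg.Agent.Lib.Helper60

section geometry

variable {G : Type*} [Group G] [Finite G] {p : ℕ} (hp : p.Prime) (K : Set (Subgroup G))
  (hK : ∀ X ∈ K, Nat.card ↥X = p)
  (hKc : ∀ X ∈ K, ∀ g : G, X.map (MulAut.conj g).toMonoidHom ∈ K)
  (ha : ∀ X ∈ K, ∀ Y ∈ K, X ≠ Y → (∀ x ∈ X, ∀ y ∈ Y, x * y = y * x) →
      ∀ Z : Subgroup G, Z ≤ X ⊔ Y → Nat.card ↥Z = p → Z ∈ K)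
  (hb : ∀ X ∈ K, ∀ Y ∈ K, X ≠ Y → (∀ x ∈ X, ∀ y ∈ Y, x * y = y * x) →
      ∀ W ∈ K, (X ⊔ Y) ⊓ Subgroup.centralizer (W : Set G) ≠ ⊥)

omit [Finite G] in
include hp hK ha hb in
/-- every member of `K` commutes with some point of a given line -/
theorem exists_point_cm {X Y W : Subgroup G} (hX : X ∈ K) (hY : Y ∈ K) (hne : X ≠ Y)
    (hXY : Cm X Y) (hW : W ∈ K) : ∃ S ∈ K, S ≤ X ⊔ Y ∧ Cm W S := by
  have h1 := hb X hX Y hY hne hXY W hW
  obtain ⟨⟨s, hs⟩, hs1⟩ := (Subgroup.ne_bot_iff_exists_ne_one).mp h1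
  have hs1' : s ≠ 1 := fun h => hs1 (Subtype.ext h)
  obtain ⟨hsE, hsC⟩ := Subgroup.mem_inf.mp hs
  have hcard := card_zpowers_of_mem_sup hp (hK X hX) (hK Y hY) hXY hsE hs1'
  have hle : Subgroup.zpowers s ≤ X ⊔ Y := Subgroup.zpowers_le.mpr hsE
  refine ⟨Subgroup.zpowers s, ha X hX Y hY hne hXY _ hle hcard, hle, ?_⟩
  apply Cm.symm
  apply cm_zpowers_left
  intro w hw
  rw [Subgroup.mem_centralizer_iff] at hsC
  exact (hsC w hw).symm

include hp hK ha hb in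
theorem claimA {Y W T : Subgroup G} (hY : Y ∈ K) (hW : W ∈ K) {y : G} (hy : y ∈ Y)
    (hα : ¬ Cm W (cj y W)) (hT : T ∈ K) (hTW : Cm T W) (hTyW : Cm T (cj y W)) : Cm T Y := by
  have hTneW : W ≠ T := by
    rintro rfl
    exact hα hTyW
  obtain ⟨S, hSK, hSle, hYS⟩ := exists_point_cm hp K hK ha hb hW hT hTneW hTW.symm hY
  have hline := cm_sup_sup hp (hK W hW) (hK T hT) hTW.symm
  have hSW : Cm S W := hline.mono hSle le_sup_left
  have hSyW : Cm S (cj y W) := cm_cj_of_commute y (fun s hs => hYS y hy s hs |>.symm) hSW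
  by_cases hST : S = T
  · rw [← hST]; exact hYS.symm
  · exfalso
    have := cm_sup_of_cm_two hp (hK W hW) (hK T hT) hTneW hTW.symm (hK S hSK) (hK T hT) hST
      hSle le_sup_right hSyW.symm hTyW.symm
    exact hα (this.mono le_rfl le_sup_left).symm

include hp hK ha hb in
theorem alpha' {X W Z T : Subgroup G} (hX : X ∈ K) (hW : W ∈ K) {x : G} (hx : x ∈ X)
    (hα : ¬ Cm W (cj x W)) (hZ : Z ∈ K) (hZX : Z ≠ X) (hXZ : Cm X Z) (hWZ : Cm W Z)
    {z : G} (hz : z ∈ Z) (hT : T ∈ K) (hTW : Cm T W) (hTX : Cm T X) :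
    Subgroup.zpowers (x * z) ∈ K ∧ Cm T (Subgroup.zpowers (x * z)) ∧
      ¬ Cm W (cj (x * z) W) := by
  have hx1 : x ≠ 1 := by
    rintro rfl
    apply hα
    rw [cj_eq_self_of_commute 1 W (fun w _ => by simp)]
    exact cm_self_of_card_prime hp (hK W hW)
  have hinf := inf_eq_bot_of_card_prime hp (hK X hX) (hK Z hZ) (Ne.symm hZX)
  have hy1 : x * z ≠ 1 := by
    intro h
    have hxz : x = z⁻¹ := eq_inv_of_mul_eq_one_left h
    have : x ∈ X ⊓ Z := ⟨hx, by rw [hxz]; exact Z.inv_mem hz⟩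
    rw [hinf] at this
    exact hx1 (Subgroup.mem_bot.mp this)
  have hyE : x * z ∈ X ⊔ Z :=
    Subgroup.mul_mem _ (Subgroup.mem_sup_left hx) (Subgroup.mem_sup_right hz)
  have hYK : Subgroup.zpowers (x * z) ∈ K :=
    ha X hX Z hZ (Ne.symm hZX) hXZ _ (Subgroup.zpowers_le.mpr hyE)
      (card_zpowers_of_mem_sup hp (hK X hX) (hK Z hZ) hXZ hyE hy1)
  have hcj : cj (x * z) W = cj x W := by
    rw [cj_mul', cj_eq_self_of_commute z W (fun w hw => (hWZ w hw z hz).symm)]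
  have hα' : ¬ Cm W (cj (x * z) W) := by rw [hcj]; exact hα
  refine ⟨hYK, ?_, hα'⟩
  apply claimA hp K hK ha hb hYK hW (Subgroup.mem_zpowers (x * z)) hα' hT hTW
  rw [hcj]
  exact cm_cj_of_commute x (fun t ht => hTX t ht x hx) hTW

include hp hK ha hb in
theorem gamma {X W T U : Subgroup G} (hX : X ∈ K) (hW : W ∈ K) {x : G} (hx : x ∈ X)
    (hα : ¬ Cm W (cj x W)) (hT : T ∈ K) (hTW : Cm T W) (hTX : Cm T X) (hU : U ∈ K)
    (hUX : Cm U X) : Cm T U := by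
  by_cases hUeq : U = X
  · rw [hUeq]; exact hTX
  have hWX : ¬ Cm W X := by
    intro h
    apply hα
    rw [cj_eq_self_of_commute x W (fun w hw => (h w hw x hx).symm)]
    exact cm_self_of_card_prime hp (hK W hW)
  obtain ⟨Z, hZK, hZle, hWZ⟩ := exists_point_cm hp K hK ha hb hX hU (Ne.symm hUeq) hUX.symm hW
  have hZX : Z ≠ X := by
    rintro rfl
    exact hWX hWZ
  have hline := cm_sup_sup hp (hK X hX) (hK U hU) hUX.symm
  have hXZ : Cm X Z := hline.mono le_sup_left hZle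
  obtain ⟨z, hz, hz1⟩ := exists_ne_one_of_card_prime hp (hK Z hZK)
  obtain ⟨hYK, hTY, -⟩ := alpha' hp K hK ha hb hX hW hx hα hZK hZX hXZ hWZ hz hT hTW hTX
  have hYle : Subgroup.zpowers (x * z) ≤ X ⊔ U := by
    rw [Subgroup.zpowers_le]
    exact Subgroup.mul_mem _ (Subgroup.mem_sup_left hx) (hZle hz)
  have hYX : X ≠ Subgroup.zpowers (x * z) := by
    intro h
    have h1 : x * z ∈ X := by rw [h]; exact Subgroup.mem_zpowers _
    have h2 : z ∈ X := by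
      have := X.mul_mem (X.inv_mem hx) h1
      simpa using this
    have hinf := inf_eq_bot_of_card_prime hp (hK X hX) (hK Z hZK) (Ne.symm hZX)
    have : z ∈ X ⊓ Z := ⟨h2, hz⟩
    rw [hinf] at this
    exact hz1 (Subgroup.mem_bot.mp this)
  have := cm_sup_of_cm_two hp (hK X hX) (hK U hU) (Ne.symm hUeq) hUX.symm (hK X hX)
    (hK _ hYK) hYX le_sup_left hYle hTX hTY
  exact this.mono le_rfl le_sup_right

include hp hK ha hb in
/-- If some pair `(X, W)` has `W` not commuting with a conjugate of itself by an element of `X`,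
there is a member of `K` commuting with all members of `K`. -/
theorem exists_radical_of_alpha
    (hex : ∃ X ∈ K, ∃ Y ∈ K, X ≠ Y ∧ ∀ x ∈ X, ∀ y ∈ Y, x * y = y * x)
    {X W : Subgroup G} (hX : X ∈ K) (hW : W ∈ K) {x : G} (hx : x ∈ X)
    (hα : ¬ Cm W (cj x W)) : ∃ Z ∈ K, ∀ U ∈ K, Cm Z U := by
  have hWX : ¬ Cm W X := by
    intro h
    apply hα
    rw [cj_eq_self_of_commute x W (fun w hw => (h w hw x hx).symm)]
    exact cm_self_of_card_prime hp (hK W hW)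
  have hx1 : x ≠ 1 := by
    rintro rfl
    apply hα
    rw [cj_eq_self_of_commute 1 W (fun w _ => by simp)]
    exact cm_self_of_card_prime hp (hK W hW)
  -- a point `Z ≠ X` commuting with `X` and `W`
  obtain ⟨Z, hZK, hZX, hXZ, hWZ⟩ : ∃ Z ∈ K, Z ≠ X ∧ Cm X Z ∧ Cm W Z := by
    obtain ⟨X₀, hX₀, Y₀, hY₀, hne₀, hc₀⟩ := hex
    obtain ⟨S, hSK, hSle, hXS⟩ := exists_point_cm hp K hK ha hb hX₀ hY₀ hne₀ hc₀ hX
    by_cases hSX : S = X
    · -- `X` lies on the line `X₀ ⊔ Y₀`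
      obtain ⟨Z, hZK, hZle, hWZ⟩ := exists_point_cm hp K hK ha hb hX₀ hY₀ hne₀ hc₀ hW
      have hline := cm_sup_sup hp (hK X₀ hX₀) (hK Y₀ hY₀) hc₀
      refine ⟨Z, hZK, ?_, hline.mono (hSX ▸ hSle) hZle, hWZ⟩
      rintro rfl
      exact hWX hWZ
    · obtain ⟨Z, hZK, hZle, hWZ⟩ :=
        exists_point_cm hp K hK ha hb hX hSK (Ne.symm hSX) hXS hW
      have hline := cm_sup_sup hp (hK X hX) (hK S hSK) hXS
      refine ⟨Z, hZK, ?_, hline.mono le_sup_left hZle, hWZ⟩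
      rintro rfl
      exact hWX hWZ
  refine ⟨Z, hZK, ?_⟩
  intro U hU
  by_contra hZU
  have hZline := cm_sup_sup hp (hK X hX) (hK Z hZK) hXZ
  -- step a
  have hUX : ¬ Cm U X := fun h =>
    hZU (gamma hp K hK ha hb hX hW hx hα hZK hWZ.symm hXZ.symm hU h)
  -- step b
  obtain ⟨Y, hYK, hYle, hUY⟩ :=
    exists_point_cm hp K hK ha hb hX hZK (Ne.symm hZX) hXZ hU
  have hYX : Y ≠ X := by
    rintro rfl
    exact hUX hUY
  have hYZ : Y ≠ Z := by
    rintro rfl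
    exact hZU hUY.symm
  -- step c : `Y = zpowers (x * z')`
  obtain ⟨y, hyY, hy1⟩ := exists_ne_one_of_card_prime hp (hK Y hYK)
  obtain ⟨x₁, hx₁, z₁, hz₁, hyeq⟩ := exists_mul_of_mem_sup hXZ (hYle hyY)
  have hx₁1 : x₁ ≠ 1 := by
    rintro rfl
    rw [one_mul] at hyeq
    apply hYZ
    have h1 := eq_zpowers_of_card_prime hp (hK Y hYK) hyY hy1
    have h2 := eq_zpowers_of_card_prime hp (hK Z hZK) (hyeq ▸ hz₁) hy1
    exact h1.trans h2.symm
  have hXz := eq_zpowers_of_card_prime hp (hK X hX) hx₁ hx₁1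
  have hxmem : x ∈ Subgroup.zpowers x₁ := hXz ▸ hx
  obtain ⟨k, hk⟩ := Subgroup.mem_zpowers_iff.mp hxmem
  have hcomm : Commute x₁ z₁ := hXZ x₁ hx₁ z₁ hz₁
  have hyk : y ^ k = x * z₁ ^ k := by rw [hyeq, hcomm.mul_zpow, hk]
  have hz'Z : z₁ ^ k ∈ Z := Z.zpow_mem hz₁ k
  have hy'Y : x * z₁ ^ k ∈ Y := hyk ▸ Y.zpow_mem hyY k
  -- step d
  obtain ⟨hY'K, -, hα'⟩ := alpha' hp K hK ha hb hX hW hx hα hZK hZX hXZ hWZ hz'Z hZK
    hWZ.symm hXZ.symm
  have hy'1 : x * z₁ ^ k ≠ 1 := by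
    intro h
    have hxz : x = (z₁ ^ k)⁻¹ := eq_inv_of_mul_eq_one_left h
    have hinf := inf_eq_bot_of_card_prime hp (hK X hX) (hK Z hZK) (Ne.symm hZX)
    have : x ∈ X ⊓ Z := ⟨hx, by rw [hxz]; exact Z.inv_mem hz'Z⟩
    rw [hinf] at this
    exact hx1 (Subgroup.mem_bot.mp this)
  have hYeq : Y = Subgroup.zpowers (x * z₁ ^ k) :=
    eq_zpowers_of_card_prime hp (hK Y hYK) hy'Y hy'1
  have hZY : Cm Z Y := hZline.mono le_sup_right hYle
  exact hZU (gamma hp K hK ha hb hYK hW hy'Y hα' hZK hWZ.symm hZY hU hUY)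

end geometry

end Cfsg.Agent.Lib.Helper60
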