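import Mathlib
import Cfsg.Agent.Lib.Helper60.PointLine
import Cfsg.Agent.Lib.Helper06.BaerSuzuki

set_option autoImplicit false

namespace Cfsg.Agent.Lib.Helper60

section closure

variable {G : Type*} [Group G]

/-- The subgroup generated by pairwise commuting elements of order dividing `p` has exponent
dividing `p`. -/
theorem pow_eq_one_of_mem_closure_comm {p : ℕ} (S : Set G) (hS : ∀ s ∈ S, s ^ p = 1)
    (hcomm : ∀ s ∈ S, ∀ t ∈ S, s * t = t * s) :
    ∀ g ∈ Subgroup.closure S, g ^ p = 1 ∧ ∀ s ∈ S, s * g = g * s := by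
  intro g hg
  induction hg using Subgroup.closure_induction with
  | mem x hx => exact ⟨hS x hx, fun s hs => hcomm s hs x hx⟩
  | one => exact ⟨one_pow _, fun s _ => by simp⟩
  | mul x y hx hy ihx ihy =>
    have hle : Subgroup.closure S ≤ Subgroup.centralizer ({x} : Set G) := by
      rw [Subgroup.closure_le]
      intro s hs
      exact Subgroup.mem_centralizer_singleton_iff.mpr (ihx.2 s hs)
    have hyx : y * x = x * y := Subgroup.mem_centralizer_singleton_iff.mp (hle hy)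
    have hc : Commute x y := hyx.symm
    refine ⟨by rw [hc.mul_pow, ihx.1, ihy.1, one_mul], fun s hs => ?_⟩
    rw [← mul_assoc, ihx.2 s hs, mul_assoc, ihy.2 s hs, mul_assoc]
  | inv x hx ihx =>
    refine ⟨by rw [inv_pow, ihx.1, inv_one], fun s hs => ?_⟩
    have h1 : Commute s x := ihx.2 s hs
    exact h1.inv_right.eq

theorem isPGroup_closure_comm {p : ℕ} (S : Set G) (hS : ∀ s ∈ S, s ^ p = 1)
    (hcomm : ∀ s ∈ S, ∀ t ∈ S, s * t = t * s) : IsPGroup p (Subgroup.closure S) := by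
  intro g
  refine ⟨1, ?_⟩
  have := (pow_eq_one_of_mem_closure_comm S hS hcomm g.1 g.2).1
  apply Subtype.ext
  simpa using this

end closure

section caseB

open scoped commutatorElement

variable {G : Type*} [Group G] [Finite G] {p : ℕ} (hp : p.Prime) (K : Set (Subgroup G))
  (hK : ∀ X ∈ K, Nat.card ↥X = p)
  (hKc : ∀ X ∈ K, ∀ g : G, X.map (MulAut.conj g).toMonoidHom ∈ K)
  (ha : ∀ X ∈ K, ∀ Y ∈ K, X ≠ Y → (∀ x ∈ X, ∀ y ∈ Y, x * y = y * x) →
      ∀ Z : Subgroup G, Z ≤ X ⊔ Y → Nat.card ↥Z = p → Z ∈ K)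
  (hβ : ∀ X ∈ K, ∀ W ∈ K, ∀ x ∈ X, Cm W (cj x W))

include hp hK hβ in
/-- In the "all pairs are of Heisenberg type" case any two elements of members of `K` generate a
`p`-group. -/
theorem isPGroup_closure_pair {X W : Subgroup G} (hX : X ∈ K) (hW : W ∈ K) {a b : G}
    (haX : a ∈ X) (hbW : b ∈ W) : IsPGroup p (Subgroup.closure ({a, b} : Set G)) := by
  have hfact : Fact p.Prime := ⟨hp⟩
  set S : Set G := {g | ∃ i : ℤ, g ∈ cj (a ^ i) W} with hS
  have hSpow : ∀ s ∈ S, s ^ p = 1 := by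
    rintro s ⟨i, hs⟩
    have hc : Nat.card ↥(cj (a ^ i) W) = p := by rw [card_cj', hK W hW]
    exact pow_eq_one_of_card_prime hc hs
  have hScomm : ∀ s ∈ S, ∀ t ∈ S, s * t = t * s := by
    rintro s ⟨i, hs⟩ t ⟨j, ht⟩
    have h1 : Cm W (cj (a ^ (j - i)) W) := hβ X hX W hW _ (X.zpow_mem haX _)
    have h2 := cm_cj_cj (a ^ i) h1
    rw [← cj_mul', ← zpow_add] at h2
    have h3 : i + (j - i) = j := by ring
    rw [h3] at h2
    exact h2 s hs t ht
  have hN : IsPGroup p (Subgroup.closure S) := isPGroup_closure_comm S hSpow hScomm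
  have hnorm : a ∈ Subgroup.normalizer ((Subgroup.closure S : Subgroup G) : Set G) := by
    apply Subgroup.mem_normalizer_fintype
    intro n hn
    have hn' : n ∈ Subgroup.closure S := hn
    show a * n * a⁻¹ ∈ Subgroup.closure S
    induction hn' using Subgroup.closure_induction with
    | mem x hx =>
      apply Subgroup.subset_closure
      obtain ⟨i, hx⟩ := hx
      refine ⟨1 + i, ?_⟩
      rw [zpow_add, zpow_one, cj_mul']
      exact (mem_cj_iff a _ _).mpr ⟨x, hx, rfl⟩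
    | one => simp
    | mul x y _ _ ihx ihy =>
      have : a * (x * y) * a⁻¹ = (a * x * a⁻¹) * (a * y * a⁻¹) := by group
      rw [this]
      exact Subgroup.mul_mem _ (ihx (by assumption)) (ihy (by assumption))
    | inv x _ ihx =>
      have : a * x⁻¹ * a⁻¹ = (a * x * a⁻¹)⁻¹ := by group
      rw [this]
      exact Subgroup.inv_mem _ (ihx (by assumption))
  have hza : IsPGroup p (Subgroup.zpowers a) := by
    intro g
    refine ⟨1, ?_⟩
    obtain ⟨k, hk⟩ := Subgroup.mem_zpowers_iff.mp g.2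
    apply Subtype.ext
    have hap : a ^ p = 1 := pow_eq_one_of_card_prime (hK X hX) haX
    simp only [pow_one, Subgroup.coe_pow, Subgroup.coe_one]
    rw [← hk, ← zpow_natCast, ← zpow_mul, mul_comm, zpow_mul, zpow_natCast, hap, one_zpow]
  have hsup : IsPGroup p (Subgroup.zpowers a ⊔ Subgroup.closure S : Subgroup G) :=
    hza.to_sup_of_normal_right' hN (Subgroup.zpowers_le.mpr hnorm)
  apply hsup.to_le
  rw [Subgroup.closure_le]
  rintro g (rfl | rfl)
  · exact Subgroup.mem_sup_left (Subgroup.mem_zpowers _)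
  · apply Subgroup.mem_sup_right
    apply Subgroup.subset_closure
    refine ⟨0, ?_⟩
    rw [zpow_zero, cj_eq_self_of_commute 1 W (fun w _ => by simp)]
    exact hbW

include hp hK hKc ha hβ in
/-- In the Heisenberg case some member of `K` commutes with all members of `K`. -/
theorem exists_radical_of_beta (hne : ∃ X, X ∈ K) : ∃ Z ∈ K, ∀ U ∈ K, Cm Z U := by
  have hfact : Fact p.Prime := ⟨hp⟩
  let Kel : Set G := {k | ∃ X ∈ K, k ∈ X}
  have hconj : ∀ g k : G, k ∈ Kel → g * k * g⁻¹ ∈ Kel := by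
    rintro g k ⟨X, hX, hk⟩
    exact ⟨cj g X, hKc X hX g, (mem_cj_iff g _ X).mpr ⟨k, hk, rfl⟩⟩
  have hpair : ∀ a ∈ Kel, ∀ b ∈ Kel, IsPGroup p (Subgroup.closure ({a, b} : Set G)) := by
    rintro a ⟨X, hX, haX⟩ b ⟨W, hW, hbW⟩
    exact isPGroup_closure_pair hp K hK hβ hX hW haX hbW
  obtain ⟨R, hRn, hRp, hKR⟩ := Cfsg.Agent.Lib.Helper06.baer_suzuki_set Kel hconj hpair
  have hnil : Group.IsNilpotent ↥R := hRp.isNilpotent
  obtain ⟨n, hn⟩ := (Subgroup.isNilpotent_iff_lowerCentralSeries R).mp hnil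
  by_contra hcon
  push Not at hcon
  have hQ : ∀ m : ℕ, ∃ V ∈ K, ∃ v ∈ V, v ≠ 1 ∧ v ∈ R.lowerCentralSeries m := by
    intro m
    induction m with
    | zero =>
      obtain ⟨X, hX⟩ := hne
      obtain ⟨x, hx, hx1⟩ := exists_ne_one_of_card_prime hp (hK X hX)
      exact ⟨X, hX, x, hx, hx1, hKR ⟨X, hX, hx⟩⟩
    | succ m ih =>
      obtain ⟨V, hV, v, hvV, hv1, hvL⟩ := ih
      obtain ⟨W, hW, hVW⟩ := hcon V hV
      have hVz := eq_zpowers_of_card_prime hp (hK V hV) hvV hv1
      obtain ⟨w, hwW, hvw⟩ : ∃ w ∈ W, v * w ≠ w * v := by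
        by_contra hall
        push Not at hall
        apply hVW
        rw [hVz]
        exact cm_zpowers_left hall
      have hwR : w ∈ R := hKR ⟨W, hW, hwW⟩
      have hc1 : ⁅v, w⁆ ≠ 1 := by
        intro h
        exact hvw (commutatorElement_eq_one_iff_commute.mp h).eq
      have hcL : ⁅v, w⁆ ∈ R.lowerCentralSeries (m + 1) :=
        Subgroup.commutator_mem_commutator hvL hwR
      have hcform : ⁅v, w⁆ = v * (w * v⁻¹ * w⁻¹) := by rw [commutatorElement_def]; group
      have hmem2 : w * v⁻¹ * w⁻¹ ∈ cj w V := (mem_cj_iff w _ V).mpr ⟨v⁻¹, V.inv_mem hvV, rfl⟩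
      have hcomm : Cm V (cj w V) := hβ W hW V hV w hwW
      by_cases hVeq : V = cj w V
      · refine ⟨V, hV, ⁅v, w⁆, ?_, hc1, hcL⟩
        rw [hcform]
        exact V.mul_mem hvV (hVeq ▸ hmem2)
      · have hcE : ⁅v, w⁆ ∈ V ⊔ cj w V := by
          rw [hcform]
          exact Subgroup.mul_mem _ (Subgroup.mem_sup_left hvV) (Subgroup.mem_sup_right hmem2)
        have hcjK : cj w V ∈ K := hKc V hV w
        have hcard := card_zpowers_of_mem_sup hp (hK V hV) (hK _ hcjK) hcomm hcE hc1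
        exact ⟨Subgroup.zpowers ⁅v, w⁆,
          ha V hV _ hcjK hVeq hcomm _ (Subgroup.zpowers_le.mpr hcE) hcard, ⁅v, w⁆,
          Subgroup.mem_zpowers _, hc1, hcL⟩
  obtain ⟨V, hV, v, hvV, hv1, hvL⟩ := hQ n
  rw [hn] at hvL
  exact hv1 (Subgroup.mem_bot.mp hvL)


end caseB

end Cfsg.Agent.Lib.Helper60
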