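import Cfsg.Agent.Lib.Helper98.Ti5

set_option autoImplicit false
set_option linter.unusedSimpArgs false
set_option linter.unusedSectionVars false
set_option linter.unusedVariables false
set_option linter.style.haveILetI false
set_option maxHeartbeats 800000

/-!
# K-OsEl-E (keystone 597206, for helper8, S5972): existence of an invariant totally singular `m`-space, odd `r`

Mirror of `Cfsg.Agent.Lib.Helper98.Ti.exists_fixed_ti` (Helper98/Ti5) for a symmetric form of odd dimension `2d+1`.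
This file: the CORE `exists_fixed_ts_of`, with leaf C (`exists_ts_symm`) and the composite of leaves E0 + D
(restriction to `V1` + twist) as HYPOTHESES `hC`, `hD`; plus own reflexive ports `ort_sup_self_refl`,
`nonDeg_inf_parts_refl` (so leaf B is not needed).  The exact-signature theorem is in `OsElEFinal.lean`.
-/

namespace Cfsg.Agent.Lib.Helper60.OsEl

open Module Cfsg.Agent.Lib.Helper98.Elus Cfsg.Agent.Lib.Helper98.Sy

universe u
variable {F : Type u} [Field F] {V : Type u} [AddCommGroup V] [Module F V]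

/-- subspaces of the fixed space are invariant -/
theorem inv_of_le_V0' (y : V →ₗ[F] V) (Z : Submodule F V) (hZ : Z ≤ V0 y) : Inv y Z := by
  intro v hv
  rw [(mem_V0 y v).mp (hZ hv)]
  exact hv

/-- port of `Ti.ort_sup_self` to reflexive forms -/
theorem ort_sup_self_refl {B : LinearMap.BilinForm F V} (hR : B.IsRefl) (L W : Submodule F V)
    (hL : Ort B L L) (hW : Ort B W W) (hLW : Ort B L W) : Ort B (L ⊔ W) (L ⊔ W) := by
  intro a ha b hb
  obtain ⟨a1, ha1, a2, ha2, rfl⟩ := Submodule.mem_sup.mp ha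
  obtain ⟨b1, hb1, b2, hb2, rfl⟩ := Submodule.mem_sup.mp hb
  simp only [map_add, LinearMap.add_apply]
  rw [hL a1 ha1 b1 hb1, hLW a1 ha1 b2 hb2, hR _ _ (hLW b1 hb1 a2 ha2), hW a2 ha2 b2 hb2]
  ring

/-- port of `Sy.nonDeg_inf_parts` to reflexive forms -/
theorem nonDeg_inf_parts_refl {B : LinearMap.BilinForm F V} (hR : B.IsRefl) (r : ℕ)
    (hrF : (r : F) ≠ 0) (y : V →ₗ[F] V) (hy : y ^ r = 1) (hiso : Iso B y) (W : Submodule F V)
    (hW : NonDeg B W) (hWinv : Inv y W) : NonDeg B (W ⊓ V0 y) ∧ NonDeg B (W ⊓ V1 r y) := by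
  have hort := Cfsg.Agent.Lib.Helper98.Sy.ort_V0_V1 (B := B) r hrF y hy hiso
  have hdec : ∀ w ∈ W, ∃ a ∈ W ⊓ V0 y, ∃ b ∈ W ⊓ V1 r y, w = a + b := by
    intro w hw
    have hG : gsum r y w ∈ W := gsum_mem_of_inv r y W hWinv w hw
    refine ⟨(r : F)⁻¹ • gsum r y w, ?_, w - (r : F)⁻¹ • gsum r y w, ?_, by abel⟩
    · exact Submodule.smul_mem _ _ (Submodule.mem_inf.mpr ⟨hG, gsum_mem_V0 r y hy w⟩)
    · refine Submodule.mem_inf.mpr ⟨Submodule.sub_mem _ hw (Submodule.smul_mem _ _ hG), ?_⟩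
      rw [mem_V1, map_sub, map_smul]
      have := congrArg (fun g => g w) (gsum_mul_gsum r y hy)
      simp only [Module.End.mul_apply, LinearMap.smul_apply] at this
      rw [this, smul_smul, inv_mul_cancel₀ hrF, one_smul, sub_self]
  constructor
  · intro u hu hu'
    apply hW u (Submodule.mem_inf.mp hu).1
    intro w hw
    obtain ⟨a, ha, b, hb, rfl⟩ := hdec w hw
    rw [map_add, hu' a ha, zero_add]
    exact hort u (Submodule.mem_inf.mp hu).2 b (Submodule.mem_inf.mp hb).2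
  · intro u hu hu'
    apply hW u (Submodule.mem_inf.mp hu).1
    intro w hw
    obtain ⟨a, ha, b, hb, rfl⟩ := hdec w hw
    rw [map_add, hu' b hb, add_zero]
    exact hR _ _ (hort a (Submodule.mem_inf.mp ha).2 u (Submodule.mem_inf.mp hu).2)

/-- CORE of K-OsEl-E: leaf C as hypothesis `hC`, leaves E0 + D (applied to `V1 r y`) as hypothesis `hD`. -/
theorem exists_fixed_ts_of [Fintype F] [FiniteDimensional F V] {B : LinearMap.BilinForm F V}
    (hS : ∀ x y, B x y = B y x) (hV : NonDeg B ⊤) (p f : ℕ) [Fact p.Prime]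
    (hF : Fintype.card F = p ^ f) (r : ℕ) [Fact r.Prime] (hpr : p ≠ r)
    (hrF : (r : F) ≠ 0) (y : V →ₗ[F] V) (hy : y ^ r = 1) (hiso : Iso B y) (d m : ℕ)
    (hd : finrank F V = 2 * d + 1) (hmd : m ≤ d)
    (hk : 2 * (m % orderOf ((Fintype.card F : ℕ) : ZMod r)) <
      (2 * d + 1) % cOf (orderOf ((Fintype.card F : ℕ) : ZMod r)))
    (hcase : Odd (orderOf ((Fintype.card F : ℕ) : ZMod r)) ∨
      (r - 1) / orderOf ((Fintype.card F : ℕ) : ZMod r) +
        2 * (m / orderOf ((Fintype.card F : ℕ) : ZMod r)) ≤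
        (2 * d + 1) / orderOf ((Fintype.card F : ℕ) : ZMod r))
    (hC : ∀ (s : ℕ), 2 * s + 1 ≤ finrank F (V0 y) →
      ∃ Z : Submodule F V, Z ≤ V0 y ∧ Ort B Z Z ∧ finrank F Z = s)
    (hD : cOf (orderOf ((Fintype.card F : ℕ) : ZMod r)) ∣ finrank F ↥(V1 r y) ∧
      (Odd (orderOf ((Fintype.card F : ℕ) : ZMod r)) → ∀ b : ℕ,
        2 * (orderOf ((Fintype.card F : ℕ) : ZMod r) * b) ≤ finrank F ↥(V1 r y) →
        ∃ Z : Submodule F V, Z ≤ V1 r y ∧ Inv y Z ∧ Ort B Z Z ∧
          finrank F Z = orderOf ((Fintype.card F : ℕ) : ZMod r) * b) ∧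
      (Even (orderOf ((Fintype.card F : ℕ) : ZMod r)) → ∀ b : ℕ,
        (b = 0 ∨ orderOf ((Fintype.card F : ℕ) : ZMod r) *
          (2 * b + (r - 1) / orderOf ((Fintype.card F : ℕ) : ZMod r)) ≤
          finrank F ↥(V1 r y) + orderOf ((Fintype.card F : ℕ) : ZMod r)) →
        ∃ Z : Submodule F V, Z ≤ V1 r y ∧ Inv y Z ∧ Ort B Z Z ∧
          finrank F Z = orderOf ((Fintype.card F : ℕ) : ZMod r) * b)) :
    ∃ W : Submodule F V, Inv y W ∧ Ort B W W ∧ finrank F W = m := by
  have hr : r.Prime := Fact.out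
  have hR : B.IsRefl := fun a b h => by rw [hS]; exact h
  set i := orderOf ((Fintype.card F : ℕ) : ZMod r) with hi
  have hi1 : 1 ≤ i := orderOf_card_pos p f hF r hpr
  obtain ⟨hdvd, hDodd, hDeven⟩ := hD
  obtain ⟨j', hj'⟩ := hdvd
  have hsum := finrank_V0_add_V1 r hrF y hy
  rw [hd] at hsum
  set e0 := finrank F (V0 y) with he0
  have hmod : (2 * d + 1) % cOf i = e0 % cOf i := by
    rw [← hsum, hj', Nat.add_mul_mod_self_left]
  have hke0 : (2 * d + 1) % cOf i ≤ e0 := by
    rw [hmod]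
    exact Nat.mod_le _ _
  have hm := Nat.div_add_mod m i
  -- reduce to the numerical choice of `b`
  suffices hmain : ∃ b : ℕ, i * b ≤ m ∧ 2 * (m - i * b) + 1 ≤ e0 ∧
      ∃ Z1 : Submodule F V, Z1 ≤ V1 r y ∧ Inv y Z1 ∧ Ort B Z1 Z1 ∧ finrank F Z1 = i * b by
    obtain ⟨b, hb1, hb2, Z1, hZ1V, hZ1inv, hZ1, hZ1d⟩ := hmain
    obtain ⟨Z0, hZ0V, hZ0, hZ0d⟩ := hC (m - i * b) hb2
    refine ⟨Z0 ⊔ Z1, (inv_of_le_V0' y Z0 hZ0V).sup hZ1inv,
      ort_sup_self_refl hR Z0 Z1 hZ0 hZ1
        (fun a ha c hc => Cfsg.Agent.Lib.Helper98.Sy.ort_V0_V1 r hrF y hy hiso a (hZ0V ha) c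
          (hZ1V hc)), ?_⟩
    have hinf : Z0 ⊓ Z1 = ⊥ := by
      rw [eq_bot_iff, ← V0_inf_V1 r hrF y]
      exact inf_le_inf hZ0V hZ1V
    have h := Submodule.finrank_sup_add_finrank_inf_eq Z0 Z1
    rw [hinf, finrank_bot, hZ0d, hZ1d, add_zero] at h
    omega
  by_cases hodd : Odd i
  · -- `c = 2 i`
    have hc : cOf i = 2 * i := by
      unfold cOf
      rw [if_neg (Nat.not_even_iff_odd.mpr hodd)]
    rw [hc] at hj' hke0 hk
    have hij : 2 * i * j' = 2 * (i * j') := by ring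
    rw [hij] at hj'
    rcases le_or_gt (m / i) j' with hle | hgt
    · refine ⟨m / i, by omega, by omega, ?_⟩
      have h1 : i * (m / i) ≤ i * j' := Nat.mul_le_mul_left i hle
      exact hDodd hodd (m / i) (by rw [hj']; omega)
    · have h1 : i * j' ≤ i * (m / i) := Nat.mul_le_mul_left i (le_of_lt hgt)
      refine ⟨j', by omega, by omega, ?_⟩
      exact hDodd hodd j' (by rw [hj'])
  · -- `c = i`
    have heven : Even i := Nat.not_odd_iff_even.mp hodd
    have hc : cOf i = i := by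
      unfold cOf
      rw [if_pos heven]
    rw [hc] at hj' hke0 hk
    have hcond : (r - 1) / i + 2 * (m / i) ≤ (2 * d + 1) / i := by
      rcases hcase with h | h
      · exact absurd h hodd
      · exact h
    set T := (r - 1) / i with hT
    have hn := Nat.div_add_mod (2 * d + 1) i
    have h3 : i * (T + 2 * (m / i)) ≤ i * ((2 * d + 1) / i) := Nat.mul_le_mul_left i hcond
    have h3' : i * (T + 2 * (m / i)) = i * T + 2 * (i * (m / i)) := by ring
    set b := min (m / i) ((j' + 1 - T) / 2) with hb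
    have hb1 : b ≤ m / i := min_le_left _ _
    have hb2 : b ≤ (j' + 1 - T) / 2 := min_le_right _ _
    have hib : i * b ≤ i * (m / i) := Nat.mul_le_mul_left i hb1
    have hV1cond : b = 0 ∨ i * (2 * b + T) ≤ finrank F ↥(V1 r y) + i := by
      rcases Nat.eq_zero_or_pos b with h0 | h0
      · left; exact h0
      · right
        have h4 : 2 * b + T ≤ j' + 1 := by omega
        have h5 : i * (2 * b + T) ≤ i * (j' + 1) := Nat.mul_le_mul_left i h4
        have h6 : i * (j' + 1) = i * j' + i := by ring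
        rw [hj']
        omega
    refine ⟨b, by omega, ?_, ?_⟩
    · rcases le_or_gt (m / i) ((j' + 1 - T) / 2) with hle | hgt
      · have hbb : b = m / i := min_eq_left hle
        rw [hbb]
        omega
      · have hbb : b = (j' + 1 - T) / 2 := min_eq_right (le_of_lt hgt)
        have h4 : j' ≤ 2 * b + T := by omega
        have h5 : i * j' ≤ i * (2 * b + T) := Nat.mul_le_mul_left i h4
        have h6 : i * (2 * b + T) = 2 * (i * b) + i * T := by ring
        omega
    · exact hDeven heven b hV1cond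

end Cfsg.Agent.Lib.Helper60.OsEl
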