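import Cfsg.Agent.Lib.Helper98.Ti5

set_option autoImplicit false
set_option linter.unusedSimpArgs false
set_option linter.unusedSectionVars false
set_option linter.unusedVariables false
set_option maxHeartbeats 800000

/-!
# K-OsEl-E0 (parallel copy by helper60, used by `OsElEFinal.lean`): restriction of `(B, y)` to an invariant
nondegenerate subspace `M ≤ V1 r y`, with transfer of invariant totally singular subspaces back to `V`.
-/

namespace Cfsg.Agent.Lib.Helper60.OsEl

open Module Cfsg.Agent.Lib.Helper98.Elus Cfsg.Agent.Lib.Helper98.Sy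

universe u
variable {F : Type u} [Field F] {V : Type u} [AddCommGroup V] [Module F V]

theorem restrict_props [FiniteDimensional F V] {B : LinearMap.BilinForm F V}
    (hS : ∀ x y, B x y = B y x) (r : ℕ) (y : V →ₗ[F] V) (hy : y ^ r = 1) (hiso : Iso B y)
    (M : Submodule F V) (hM : Inv y M) (hMnd : NonDeg B M) (hMV1 : M ≤ V1 r y) :
    ∃ (B' : LinearMap.BilinForm F ↥M) (y' : ↥M →ₗ[F] ↥M),
      (∀ u v : ↥M, B' u v = B (u : V) (v : V)) ∧ (∀ u : ↥M, ((y' u : ↥M) : V) = y (u : V)) ∧
      (∀ u v : ↥M, B' u v = B' v u) ∧ NonDeg B' ⊤ ∧ Iso B' y' ∧ y' ^ r = 1 ∧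
      (∀ v : ↥M, gsum r y' v = 0) ∧
      ∀ Z' : Submodule F ↥M, Inv y' Z' → Ort B' Z' Z' →
        (Inv y (Z'.map M.subtype) ∧ Ort B (Z'.map M.subtype) (Z'.map M.subtype) ∧
          Z'.map M.subtype ≤ M ∧ finrank F ↥(Z'.map M.subtype) = finrank F ↥Z') := by
  have hB' : ∀ u v : ↥M, (B.restrict M) u v = B (u : V) (v : V) := fun u v => rfl
  have hy' : ∀ u : ↥M, (((y.restrict hM) u : ↥M) : V) = y (u : V) := fun u => rfl
  have hpow : ∀ (k : ℕ) (u : ↥M), ((((y.restrict hM) ^ k) u : ↥M) : V) = (y ^ k) (u : V) := by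
    intro k
    induction k with
    | zero => intro u; simp
    | succ k ih =>
      intro u
      rw [pow_succ', pow_succ', Module.End.mul_apply, Module.End.mul_apply, hy', ih]
  refine ⟨B.restrict M, y.restrict hM, hB', hy', ?_, ?_, ?_, ?_, ?_, ?_⟩
  · intro u v
    rw [hB', hB', hS]
  · intro u _ hu
    apply Subtype.ext
    rw [Submodule.coe_zero]
    apply hMnd (u : V) u.2
    intro v hv
    have := hu ⟨v, hv⟩ Submodule.mem_top
    rwa [hB'] at this
  · intro u v
    rw [hB', hB', hy', hy', hiso]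
  · apply LinearMap.ext
    intro u
    apply Subtype.ext
    rw [hpow, hy]
    rfl
  · intro v
    apply Subtype.ext
    rw [gsum_apply, Submodule.coe_zero, Submodule.coe_sum]
    have h1 : (v : V) ∈ V1 r y := hMV1 v.2
    rw [mem_V1, gsum_apply] at h1
    rw [← h1]
    exact Finset.sum_congr rfl (fun k _ => hpow k v)
  · intro Z' hZinv hZort
    refine ⟨?_, ?_, Submodule.map_subtype_le M Z', Submodule.finrank_map_subtype_eq M Z'⟩
    · intro v hv
      obtain ⟨z, hz, rfl⟩ := Submodule.mem_map.mp hv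
      exact Submodule.mem_map.mpr ⟨(y.restrict hM) z, hZinv z hz, rfl⟩
    · intro a ha b hb
      obtain ⟨z1, hz1, rfl⟩ := Submodule.mem_map.mp ha
      obtain ⟨z2, hz2, rfl⟩ := Submodule.mem_map.mp hb
      exact hZort z1 hz1 z2 hz2

end Cfsg.Agent.Lib.Helper60.OsEl
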