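import Cfsg.Agent.Lib.Helper60.OsElE
import Cfsg.Agent.Lib.Helper60.OsElE0
import Cfsg.Agent.Lib.Helper14.OsElC
import Cfsg.Agent.Lib.Helper32.OsElD

set_option autoImplicit false
set_option linter.unusedSimpArgs false
set_option linter.unusedSectionVars false
set_option linter.unusedVariables false
set_option maxHeartbeats 800000

/-!
# K-OsEl-E (keystone 597206, for helper8, S5972): `exists_fixed_ts`, EXACT spec signature

`Cfsg.Agent.Lib.Helper60.OsEl.exists_fixed_ts_of` (core, `OsElE.lean`) + leaf C (`Helper14.OsEl.exists_ts_symm`) +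
leaf E0 (own parallel copy `Helper60.OsEl.restrict_props`, `M = V1 r y`) + leaf D (`Helper32.OsEl.exists_ts_V1top` on
`↥(V1 r y)`).  Leaf B is not needed (own reflexive ports in `OsElE.lean`).
-/

namespace Cfsg.Agent.Lib.Helper60.OsEl

open Module Cfsg.Agent.Lib.Helper98.Elus Cfsg.Agent.Lib.Helper98.Sy

universe u
variable {F : Type u} [Field F] {V : Type u} [AddCommGroup V] [Module F V]

theorem exists_fixed_ts [Fintype F] [FiniteDimensional F V] {B : LinearMap.BilinForm F V}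
    (hS : ∀ x y, B x y = B y x) (h2 : (2 : F) ≠ 0) (hV : NonDeg B ⊤) (p f : ℕ) [Fact p.Prime]
    (hF : Fintype.card F = p ^ f) (r : ℕ) [Fact r.Prime] (hpr : p ≠ r) (hr2 : r ≠ 2)
    (hrF : (r : F) ≠ 0) (y : V →ₗ[F] V) (hy : y ^ r = 1) (hiso : Iso B y) (d m : ℕ)
    (hd : finrank F V = 2 * d + 1) (hmd : m ≤ d)
    (hk : 2 * (m % orderOf ((Fintype.card F : ℕ) : ZMod r)) <
      (2 * d + 1) % cOf (orderOf ((Fintype.card F : ℕ) : ZMod r)))
    (hcase : Odd (orderOf ((Fintype.card F : ℕ) : ZMod r)) ∨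
      (r - 1) / orderOf ((Fintype.card F : ℕ) : ZMod r) +
        2 * (m / orderOf ((Fintype.card F : ℕ) : ZMod r)) ≤
        (2 * d + 1) / orderOf ((Fintype.card F : ℕ) : ZMod r)) :
    ∃ W : Submodule F V, Inv y W ∧ Ort B W W ∧ finrank F W = m := by
  have hR : B.IsRefl := fun a b h => by rw [hS]; exact h
  obtain ⟨hnd0, hnd1⟩ :=
    nonDeg_inf_parts_refl hR r hrF y hy hiso ⊤ hV (fun _ _ => Submodule.mem_top)
  rw [top_inf_eq] at hnd0 hnd1
  -- restriction to `V1` (leaf E0) and the twist there (leaf D)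
  obtain ⟨B', y', hB', hy', hS', hV', hiso', hyr', hg', hback⟩ :=
    restrict_props hS r y hy hiso (V1 r y) (inv_V1 r y) hnd1 le_rfl
  obtain ⟨hdvd, hDodd, hDeven⟩ :=
    Cfsg.Agent.Lib.Helper32.OsEl.exists_ts_V1top hS' hV' p f hF r hpr hr2 hrF y' hyr' hiso' hg'
  have htrans : ∀ k : ℕ, (∃ Z : Submodule F ↥(V1 r y), Inv y' Z ∧ Ort B' Z Z ∧ finrank F Z = k) →
      ∃ Z1 : Submodule F V, Z1 ≤ V1 r y ∧ Inv y Z1 ∧ Ort B Z1 Z1 ∧ finrank F Z1 = k := by
    rintro k ⟨Z, hZinv, hZort, hZd⟩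
    obtain ⟨h1, h2', h3, h4⟩ := hback Z hZinv hZort
    exact ⟨Z.map (V1 r y).subtype, h3, h1, h2', by rw [h4, hZd]⟩
  refine exists_fixed_ts_of hS hV p f hF r hpr hrF y hy hiso d m hd hmd hk hcase
    (fun s hs => Cfsg.Agent.Lib.Helper14.OsEl.exists_ts_symm hS h2 s (V0 y) hnd0 hs)
    ⟨hdvd, fun hodd b hb => htrans _ (hDodd hodd b hb),
      fun heven b hb => htrans _ (hDeven heven b hb)⟩

end Cfsg.Agent.Lib.Helper60.OsEl
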