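import Mathlib
import Cfsg.Agent.Lib.Helper37.SL2Pres

/-!
# K-Ree2-S (keystone 115206, pack K-Ree2, architect helper76): `sl2_central_of_comm`

An element of `SL₂(F)`, `char F ≠ 2`, commuting up to sign with `uu 1` and `ll 1` is `±1`.
-/

set_option autoImplicit false

namespace Cfsg.Agent.Lib.Helper60.Ree2

open Cfsg.Agent.Lib.Helper37.SL2

variable {F : Type*} [Field F]

theorem uu_mul_entries (g : Matrix.SpecialLinearGroup (Fin 2) F) (s : F) :
    (uu s * g) 0 0 = g 0 0 + s * g 1 0 ∧ (uu s * g) 0 1 = g 0 1 + s * g 1 1 ∧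
      (uu s * g) 1 0 = g 1 0 ∧ (uu s * g) 1 1 = g 1 1 := by
  refine ⟨?_, ?_, ?_, ?_⟩ <;>
    rw [Matrix.SpecialLinearGroup.coe_mul, Matrix.mul_apply, Fin.sum_univ_two] <;> simp [uu]

theorem mul_ll_entries (g : Matrix.SpecialLinearGroup (Fin 2) F) (s : F) :
    (g * ll s) 0 0 = g 0 0 + g 0 1 * s ∧ (g * ll s) 0 1 = g 0 1 ∧
      (g * ll s) 1 0 = g 1 0 + g 1 1 * s ∧ (g * ll s) 1 1 = g 1 1 := by
  refine ⟨?_, ?_, ?_, ?_⟩ <;>
    rw [Matrix.SpecialLinearGroup.coe_mul, Matrix.mul_apply, Fin.sum_univ_two] <;> simp [ll]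

theorem ll_mul_entries (g : Matrix.SpecialLinearGroup (Fin 2) F) (s : F) :
    (ll s * g) 0 0 = g 0 0 ∧ (ll s * g) 0 1 = g 0 1 ∧
      (ll s * g) 1 0 = s * g 0 0 + g 1 0 ∧ (ll s * g) 1 1 = s * g 0 1 + g 1 1 := by
  refine ⟨?_, ?_, ?_, ?_⟩ <;>
    rw [Matrix.SpecialLinearGroup.coe_mul, Matrix.mul_apply, Fin.sum_univ_two] <;> simp [ll]

theorem neg_entry (A : Matrix.SpecialLinearGroup (Fin 2) F) (i j : Fin 2) : (-A) i j = -(A i j) := by
  rw [Matrix.SpecialLinearGroup.coe_neg]
  rfl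

theorem two_mul_eq_zero_cm (hchar : (2 : F) ≠ 0) {x : F} (h : 2 * x = 0) : x = 0 := by
  rcases mul_eq_zero.mp h with h2 | h2
  · exact absurd h2 hchar
  · exact h2

theorem sl2_central_of_comm (hchar : (2 : F) ≠ 0)
    (g : Matrix.SpecialLinearGroup (Fin 2) F)
    (hu : g * uu 1 = uu 1 * g ∨ g * uu 1 = -(uu 1 * g))
    (hl : g * ll 1 = ll 1 * g ∨ g * ll 1 = -(ll 1 * g)) : g = 1 ∨ g = -1 := by
  have hdet := det_eq g
  have ent : ∀ (A B : Matrix.SpecialLinearGroup (Fin 2) F) (i j : Fin 2), A = B → A i j = B i j := by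
    intro A B i j h; rw [h]
  obtain ⟨a00, a01, a10, a11⟩ := mul_uu g 1
  obtain ⟨b00, b01, b10, b11⟩ := uu_mul_entries g 1
  obtain ⟨c00, c01, c10, c11⟩ := mul_ll_entries g 1
  obtain ⟨d00, d01, d10, d11⟩ := ll_mul_entries g 1
  -- from `uu`: c = 0 and a = d
  have hc : g 1 0 = 0 ∧ g 0 0 = g 1 1 := by
    rcases hu with h | h
    · have h00 := ent _ _ 0 0 h
      have h01 := ent _ _ 0 1 h
      rw [a00, b00] at h00
      rw [a01, b01] at h01
      exact ⟨by linear_combination -h00, by linear_combination h01⟩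
    · exfalso
      have h00 := ent _ _ 0 0 h
      have h10 := ent _ _ 1 0 h
      rw [neg_entry, a00, b00] at h00
      rw [neg_entry, a10, b10] at h10
      have hc0 : g 1 0 = 0 := two_mul_eq_zero_cm hchar (by linear_combination h10)
      have ha0 : g 0 0 = 0 := two_mul_eq_zero_cm hchar (by linear_combination h00 - hc0)
      rw [ha0, hc0] at hdet
      simp at hdet
  -- from `ll`: b = 0
  have hb : g 0 1 = 0 := by
    rcases hl with h | h
    · have h00 := ent _ _ 0 0 h
      rw [c00, d00] at h00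
      linear_combination h00
    · exfalso
      have h00 := ent _ _ 0 0 h
      have h01 := ent _ _ 0 1 h
      rw [neg_entry, c00, d00] at h00
      rw [neg_entry, c01, d01] at h01
      have hb0 : g 0 1 = 0 := two_mul_eq_zero_cm hchar (by linear_combination h01)
      have ha0 : g 0 0 = 0 := two_mul_eq_zero_cm hchar (by linear_combination h00 - hb0)
      rw [ha0, hb0] at hdet
      simp at hdet
  obtain ⟨hc0, had⟩ := hc
  have hsq : (g 0 0 - 1) * (g 0 0 + 1) = 0 := by
    rw [hb, hc0, ← had] at hdet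
    linear_combination hdet
  rcases mul_eq_zero.mp hsq with h1 | h1
  · left
    ext i j
    fin_cases i <;> fin_cases j
    · show g 0 0 = (1 : Matrix.SpecialLinearGroup (Fin 2) F) 0 0
      rw [Matrix.SpecialLinearGroup.coe_one]; simp; linear_combination h1
    · show g 0 1 = (1 : Matrix.SpecialLinearGroup (Fin 2) F) 0 1
      rw [Matrix.SpecialLinearGroup.coe_one]; simp; exact hb
    · show g 1 0 = (1 : Matrix.SpecialLinearGroup (Fin 2) F) 1 0
      rw [Matrix.SpecialLinearGroup.coe_one]; simp; exact hc0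
    · show g 1 1 = (1 : Matrix.SpecialLinearGroup (Fin 2) F) 1 1
      rw [Matrix.SpecialLinearGroup.coe_one]; simp; linear_combination h1 - had
  · right
    ext i j
    fin_cases i <;> fin_cases j
    · show g 0 0 = (-1 : Matrix.SpecialLinearGroup (Fin 2) F) 0 0
      rw [neg_entry, Matrix.SpecialLinearGroup.coe_one]; simp; linear_combination h1
    · show g 0 1 = (-1 : Matrix.SpecialLinearGroup (Fin 2) F) 0 1
      rw [neg_entry, Matrix.SpecialLinearGroup.coe_one]; simp; exact hb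
    · show g 1 0 = (-1 : Matrix.SpecialLinearGroup (Fin 2) F) 1 0
      rw [neg_entry, Matrix.SpecialLinearGroup.coe_one]; simp; exact hc0
    · show g 1 1 = (-1 : Matrix.SpecialLinearGroup (Fin 2) F) 1 1
      rw [neg_entry, Matrix.SpecialLinearGroup.coe_one]; simp; linear_combination h1 - had

end Cfsg.Agent.Lib.Helper60.Ree2
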