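import Mathlib
import Cfsg.Agent.S5077
import Cfsg.Agent.Lib.Helper89.MaxClassFus
import Cfsg.Agent.Lib.Helper89.Generation
import Cfsg.Agent.Lib.Helper89.GL2Essential
import Cfsg.Agent.Lib.Helper89.CenterIdx3
import Cfsg.Agent.Lib.Helper88.FusionRS2
import Cfsg.Agent.Lib.Helper91.FusionEssentialClass
import Cfsg.Agent.Lib.Helper03.FusEss2
import Cfsg.Agent.Lib.Helper27.MetaSCV
import Cfsg.Agent.Lib.Helper68.Rank2Crit
import Cfsg.Agent.Lib.Helper70.S5289B
import Cfsg.Agent.Lib.Helper86.S5289G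

/-!
# K-S5289-H (architect helper89): an essential `E ≅ C_p × C_p` carries a torus element extending to `N_S(E)`
-/

set_option autoImplicit false

namespace Cfsg.Agent.Lib.Helper60.S5289

open Cfsg Cfsg.FusionSystem Cfsg.Agent.Lib.Helper89
open Cfsg.Agent.Lib.Helper87 hiding conjAut conjAut_apply autInducedBy_le_autGroup card_subgroupOf_of_le conjAut_mem_autInducedBy mem_autInducedBy_iff mem_autGroup_iff

variable {Ω : Type*} [Group Ω] {S : Subgroup Ω}

/-- powers of a conjugation automorphism -/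
theorem conjAut_pow_apply (E : Subgroup Ω) (g : Ω) (hg : g ∈ Subgroup.normalizer (E : Set Ω)) (n : ℕ) (e : E) :
    ((((conjAut E g hg) ^ n) e : E) : Ω) = g ^ n * e * (g ^ n)⁻¹ := by
  induction n generalizing e with
  | zero => simp
  | succ n ih =>
    rw [pow_succ', MulAut.mul_apply, conjAut_apply, ih, pow_succ']
    group

/-- `cen` is the range of `dsp`. -/
theorem cen_eq_range_dsp {V : Type*} [Group V] (hc : ∀ a b : V, a * b = b * a) (t : MulAut V) :
    cen hc t = (Cfsg.Agent.Lib.Helper03.SL2Inv.dsp hc t).range := by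
  ext x
  constructor
  · rintro ⟨e, rfl⟩
    exact ⟨e, rfl⟩
  · rintro ⟨e, rfl⟩
    exact ⟨e, rfl⟩

/-- K-S5289-H. -/
theorem exists_torus_of_essential_sq [Finite S] {p : ℕ} [Fact p.Prime] (hS : IsPGroup p S)
    (F : FusionSystem S) (hF : F.IsSaturated p) (hp2 : p ≠ 2) {E : Subgroup Ω} (hE : F.IsEssential p E)
    (hcard : Nat.card E = p ^ 2) (hexp : ∀ e ∈ E, e ^ p = 1) :
    ∃ (d d' : Ω) (γ₀ : MulAut (normalizerIn S E)), d ∈ E ∧ d' ∈ E ∧ d ≠ 1 ∧ d' ∉ Subgroup.zpowers d ∧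
      γ₀ ∈ F.autGroup (normalizerIn S E) ∧
      (∀ g ∈ normalizerIn S E, g * d = d * g) ∧
      (∀ hdN : d ∈ normalizerIn S E, ((γ₀ ⟨d, hdN⟩ : normalizerIn S E) : Ω) = d ^ 2) ∧
      (∀ hd'N : d' ∈ normalizerIn S E, ((γ₀ ⟨d', hd'N⟩ : normalizerIn S E) : Ω) = d' ^ ((p + 1) / 2)) ∧
      (∀ g ∈ normalizerIn S E, g ∉ E → ∀ g' ∈ normalizerIn S E, ∃ k : ℕ, ∃ e ∈ E, g' = g ^ k * e) := by
  have hpr : p.Prime := Fact.out
  have hES : E ≤ S := hE.1.1
  have hfinE : Finite E := finite_of_le hES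
  have hEp : IsPGroup p E := IsPGroup.of_card hcard
  have hc : ∀ a b : E, a * b = b * a := Cfsg.Agent.Lib.Helper68.R2.comm_of_card_le_sq hEp hcard.le
  have hexp' : ∀ v : E, v ^ p = 1 := fun v => Subtype.ext (by rw [Subgroup.coe_pow]; exact hexp v v.2)
  have hcen : centralizerIn S E ≤ E := Cfsg.Agent.Lib.Helper03.FusEss.centralizerIn_le_of_isEssential F hE
  have hne : E ≠ S := Cfsg.Agent.Lib.Helper91.ne_top_of_isEssential p F hF hE
  obtain ⟨y₀, hy₀N, hy₀E⟩ := exists_mem_normalizerIn_not_mem hS hES hne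
  have hy₀S : y₀ ∈ S := hy₀N.1
  have hy₀n : y₀ ∈ Subgroup.normalizer (E : Set Ω) := hy₀N.2
  -- an element of `N_S(E)` inducing the identity lies in `E`
  have hker : ∀ (g : Ω) (_ : g ∈ S) (hgn : g ∈ Subgroup.normalizer (E : Set Ω)),
      conjAut E g hgn = 1 → g ∈ E := by
    intro g hgS hgn h1
    apply hcen
    refine mem_centralizerIn.mpr ⟨hgS, fun x hx => ?_⟩
    have := congrArg (fun f : MulAut E => ((f ⟨x, hx⟩ : E) : Ω)) h1
    simp only [MulAut.one_apply, conjAut_apply] at this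
    have h2 : g * x = x * g := by
      have h3 : g * x = g * x * g⁻¹ * g := by group
      rw [h3, this]
    exact h2.symm
  obtain ⟨t, ht⟩ : ∃ t : MulAut E, t = conjAut E y₀ hy₀n := ⟨_, rfl⟩
  have htS : t ∈ autInducedBy S E := ht ▸ conjAut_mem_autInducedBy hy₀S hy₀n
  have htΓ : t ∈ F.autGroup E := autInducedBy_le_autGroup F hES htS
  have ht1 : t ≠ 1 := by
    intro h
    exact hy₀E (hker y₀ hy₀S hy₀n (ht ▸ h))
  -- step 3
  have hfn : F.IsFullyNormalized E := hE.2.1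
  obtain ⟨hfc, hfa⟩ := fullyNormalized_props p hS F hF E hfn
  have hrec : F.IsReceptive E := ((Cfsg.Agent.S5077.result p hS F).mp hF).2 E hfc
  obtain ⟨-, R, hR⟩ := hfa
  have hASle : autInducedBy S E ≤ F.autGroup E := autInducedBy_le_autGroup F hES
  have hmapR : (R : Subgroup (F.autGroup E)).map (F.autGroup E).subtype = autInducedBy S E := by
    rw [hR, Subgroup.map_subgroupOf_eq_of_le hASle]
  have hASp : IsPGroup p (autInducedBy S E) := by
    rw [← hmapR]; exact R.isPGroup'.map _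
  have hAScard_dvd : Nat.card (autInducedBy S E) ∣ p :=
    Cfsg.Agent.Lib.Helper86.S5289.card_pSubgroup_mulAut_sq_dvd hc hexp' hcard _ hASp
  have hAScard : Nat.card (autInducedBy S E) = p := by
    rcases (Nat.dvd_prime hpr).mp hAScard_dvd with h | h
    · exfalso
      apply ht1
      have hbot := Subgroup.card_eq_one.mp h
      rw [hbot] at htS
      exact Subgroup.mem_bot.mp htS
    · exact h
  have hfinAS : Finite (autInducedBy S E) :=
    Nat.finite_of_card_ne_zero (by rw [hAScard]; exact hpr.ne_zero)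
  have htp : t ^ p = 1 := by
    have := pow_card_eq_one' (G := autInducedBy S E) (x := ⟨t, htS⟩)
    rw [hAScard] at this
    have h2 := congrArg Subtype.val this
    simpa using h2
  have hzcard : Nat.card (Subgroup.zpowers t) = p := by
    rw [Nat.card_zpowers]; exact orderOf_eq_prime htp ht1
  have hASeq : autInducedBy S E = Subgroup.zpowers t :=
    (Subgroup.eq_of_le_of_card_ge ((Subgroup.zpowers_le).mpr htS) (by rw [hAScard, hzcard])).symm
  have hR' : (R : Subgroup (F.autGroup E)) = (Subgroup.zpowers t).subgroupOf (F.autGroup E) := by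
    rw [hR, hASeq]
  -- step 4
  obtain ⟨hline1, hline2⟩ := Cfsg.Agent.Lib.Helper27.MetaSCV.line_of_pElement hc hexp' hcard t 1
    (by simpa using htp) ht1
  have hcardcen : Nat.card (cen hc t) = p := by
    rw [cen_eq_range_dsp, hline2]; exact hline1
  have hfix : ∀ x ∈ cen hc t, t x = x := by
    intro x hx
    rw [cen_eq_range_dsp, hline2] at hx
    exact (Cfsg.Agent.Lib.Helper27.MetaSCV.mem_ker_dsp hc t x).1 hx
  have hAD : AutData hc p (F.autGroup E) :=
    autData_of_sylow hc (F.autGroup E) t htΓ ht1 htp R hR' hcardcen hfix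
  -- step 5: a pair
  obtain ⟨σ, hpair⟩ : ∃ σ : MulAut E, IsPair (F.autGroup E) p t σ := by
    have hRcard : Nat.card R = p := by
      have : Nat.card R = Nat.card (R : Subgroup (F.autGroup E)) := rfl
      rw [this, hR', card_subgroupOf_of_le ((Subgroup.zpowers_le).mpr htΓ), hzcard]
    obtain ⟨-, -, hnorm, Emb, hEmb⟩ := hE
    have hInn : (Inn E).subgroupOf (F.autGroup E) = ⊥ := by
      rw [eq_bot_iff]
      rintro ⟨α, hα⟩ hmem
      rw [Subgroup.mem_subgroupOf] at hmem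
      obtain ⟨g, hg⟩ := hmem
      rw [Subgroup.mem_bot]
      apply Subtype.ext
      change α = 1
      have hg' : MulAut.conj g = α := hg
      rw [← hg']
      ext x
      simp only [MulAut.conj_apply, MulAut.one_apply]
      rw [hc g x, mul_inv_cancel_right]
    let e : (F.autGroup E ⧸ (Inn E).subgroupOf (F.autGroup E)) ≃* F.autGroup E :=
      (QuotientGroup.quotientMulEquivOfEq hInn).trans QuotientGroup.quotientBot
    obtain ⟨P₁, P₂, hp₁, hp₂, hb₁, hb₂, hne12⟩ := exists_two_pSubgroups_of_embedded p Emb hEmb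
    have hinj : Function.Injective e.toMonoidHom := e.injective
    have ht' : (⟨t, htΓ⟩ : F.autGroup E) ^ p = 1 :=
      Subtype.ext (by rw [Subgroup.coe_pow]; exact htp)
    obtain ⟨σ, hσ1, hσp, hσt⟩ := exists_not_mem_zpowers R hRcard ht' (hp₁.map e.toMonoidHom)
      (hp₂.map e.toMonoidHom)
      (fun hb => hb₁ ((Subgroup.map_eq_bot_iff_of_injective _ hinj).mp hb))
      (fun hb => hb₂ ((Subgroup.map_eq_bot_iff_of_injective _ hinj).mp hb))
      (fun hb => hne12 (Subgroup.map_injective hinj hb))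
    refine ⟨(σ : MulAut E), htΓ, σ.2, ht1, ?_, htp, ?_, ?_⟩
    · intro hσ
      exact hσ1 (Subtype.ext hσ)
    · have := congrArg Subtype.val hσp
      rw [Subgroup.coe_pow] at this
      exact this
    · intro hmem
      apply hσt
      rw [← coe_mem_zpowers_iff]
      exact hmem
  -- step 6: generators and the torus element
  obtain ⟨d, d', j, g⟩ := hpair.exists_gens hAD
  have hdp : d ^ p = 1 := hexp' d
  have hd'p : d' ^ p = 1 := hexp' d'
  have hodd : Odd p := hpr.eq_two_or_odd'.resolve_left hp2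
  obtain ⟨k₀, hk₀⟩ := hodd
  have haa' : 2 * ((p + 1) / 2) ≡ 1 [MOD p] := by
    have h1 : 2 * ((p + 1) / 2) = p + 1 := by omega
    rw [h1]
    show (p + 1) % p = 1 % p
    rw [Nat.add_mod_left]
  obtain ⟨h, hhcl, hhd, hhd'⟩ :=
    Cfsg.Agent.Lib.Helper70.S5289K.exists_torus g hdp hd'p 2 ((p + 1) / 2) haa'
  have hhΓ : h ∈ F.autGroup E := by
    have hle : Subgroup.closure ({t, σ} : Set (MulAut E)) ≤ F.autGroup E := by
      rw [Subgroup.closure_le]
      rintro s (rfl | rfl)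
      · exact htΓ
      · exact hpair.t'A
    exact hle hhcl
  -- step 7: `h` normalizes `⟨t⟩`
  have hd2m : d ^ (2 * ((p + 1) / 2)) = d :=
    (pow_eq_pow_iff_modEq.mpr (haa'.of_dvd (orderOf_dvd_of_pow_eq_one hdp))).trans (pow_one d)
  have hhinvd : h⁻¹ d = d ^ ((p + 1) / 2) := by
    rw [MulAut.inv_apply, MulEquiv.symm_apply_eq, map_pow, hhd, ← pow_mul, hd2m]
  have hconj_mem : h * t * h⁻¹ ∈ Subgroup.zpowers t := by
    by_contra hcon
    have hpairτ : IsPair (F.autGroup E) p t (h * t * h⁻¹) :=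
      ⟨htΓ, (F.autGroup E).mul_mem ((F.autGroup E).mul_mem hhΓ htΓ) ((F.autGroup E).inv_mem hhΓ), ht1,
        conj_ne_one ht1, htp, conj_pow_eq_one htp, hcon⟩
    have hfx : (h * t * h⁻¹) d = d := by
      rw [MulAut.mul_apply, MulAut.mul_apply, hhinvd, map_pow, g.td, map_pow, hhd, ← pow_mul, hd2m]
    exact g.d1 (hpairτ.cen_fix_eq_one hAD d g.dmem hfx)
  have hnorm : ∀ β ∈ autInducedBy S E, h * β * h⁻¹ ∈ autInducedBy S E := by
    intro β hβ
    rw [hASeq] at hβ ⊢
    obtain ⟨k, rfl⟩ := Subgroup.mem_zpowers_iff.mp hβ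
    rw [← conj_zpow]
    exact Subgroup.zpow_mem _ hconj_mem k
  obtain ⟨γ₀, hγ₀, hγ₀ext⟩ :=
    Cfsg.Agent.Lib.Helper88.exists_autGroup_normalizer_extension F hES hrec hhΓ hnorm
  -- step 8
  have hcentral : ∀ g' ∈ normalizerIn S E, g' * (d : Ω) = (d : Ω) * g' := by
    intro g' hg'
    have hmem : conjAut E g' hg'.2 ∈ Subgroup.zpowers t := by
      rw [← hASeq]; exact conjAut_mem_autInducedBy hg'.1 hg'.2
    have hfixd := mem_zpowers_apply_fixed hmem d g.td
    have h3 := congrArg Subtype.val hfixd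
    rw [conjAut_apply] at h3
    calc g' * (d : Ω) = g' * d * g'⁻¹ * g' := by group
      _ = d * g' := by rw [h3]
  have hd'notin : (d' : Ω) ∉ Subgroup.zpowers (d : Ω) := by
    intro hmem
    obtain ⟨k, hk⟩ := Subgroup.mem_zpowers_iff.mp hmem
    have hd'k : d' = d ^ k := Subtype.ext (by rw [Subgroup.coe_zpow]; exact hk.symm)
    have hd'cen : d' ∈ cen hc t := by rw [hd'k]; exact Subgroup.zpow_mem _ g.dmem k
    exact g.d'1 (hpair.cen_fix_eq_one hAD d' hd'cen g.t'd')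
  -- step 9
  have hlast : ∀ g₁ ∈ normalizerIn S E, g₁ ∉ E → ∀ g₂ ∈ normalizerIn S E,
      ∃ k : ℕ, ∃ e ∈ E, g₂ = g₁ ^ k * e := by
    intro g₁ hg₁ hg₁E g₂ hg₂
    have hm₁ : conjAut E g₁ hg₁.2 ∈ Subgroup.zpowers t := by
      rw [← hASeq]; exact conjAut_mem_autInducedBy hg₁.1 hg₁.2
    have hm₂ : conjAut E g₂ hg₂.2 ∈ Subgroup.zpowers t := by
      rw [← hASeq]; exact conjAut_mem_autInducedBy hg₂.1 hg₂.2
    have h₁ne : conjAut E g₁ hg₁.2 ≠ 1 := fun h => hg₁E (hker g₁ hg₁.1 hg₁.2 h)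
    obtain ⟨k, hk⟩ := exists_pow_eq_of_card_prime hpr (Subgroup.zpowers t) hzcard hm₁ h₁ne _ hm₂
    refine ⟨k, (g₁ ^ k)⁻¹ * g₂, ?_, by group⟩
    apply hcen
    refine mem_centralizerIn.mpr ⟨S.mul_mem (S.inv_mem (S.pow_mem hg₁.1 k)) hg₂.1, fun x hx => ?_⟩
    have h3 := congrArg (fun f : MulAut E => ((f ⟨x, hx⟩ : E) : Ω)) hk
    simp only [conjAut_apply, conjAut_pow_apply] at h3
    obtain ⟨u, hu⟩ : ∃ u : Ω, u = g₁ ^ k := ⟨_, rfl⟩
    rw [← hu] at h3 ⊢
    have h4 : g₂ * x = u * x * u⁻¹ * g₂ := by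
      rw [← h3]; group
    calc x * (u⁻¹ * g₂) = u⁻¹ * (u * x * u⁻¹ * g₂) := by group
      _ = u⁻¹ * g₂ * x := by rw [← h4, mul_assoc]
  refine ⟨(d : Ω), (d' : Ω), γ₀, d.2, d'.2, ?_, hd'notin, hγ₀, hcentral, ?_, ?_, hlast⟩
  · intro h1; exact g.d1 (Subtype.ext h1)
  · intro hdN
    have h5 := hγ₀ext d
    rw [hhd, Subgroup.coe_pow] at h5
    exact h5
  · intro hd'N
    have h5 := hγ₀ext d'
    rw [hhd', Subgroup.coe_pow] at h5
    exact h5

end Cfsg.Agent.Lib.Helper60.S5289
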