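import Mathlib
import Cfsg.Agent.Lib.Helper69.StNDefs

/-!
# K-StN leaf E4 (S2401): `φ` is injective on the upper unipotent subgroup

Route: for an upper set ("ideal") `I` of positive roots let `AI X I` be the subgroup generated by the
root elements `X i j t`, `(i, j) ∈ I`.  Removing a root `r` of minimal height from `I` leaves an ideal
`I'`, `AI X I'` is normalised by `X r`, so every `g ∈ AI X I` is `X r t * g'` with `g' ∈ AI X I'`;
the `r`-entry of `φ g` is `t`.  Induction on the cardinality of `I`.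
-/

set_option autoImplicit false
set_option linter.unusedSectionVars false
set_option linter.unusedVariables false

namespace Cfsg.Agent.Lib.Helper60.StN

open Cfsg.Agent.Lib.Helper69.StN Matrix

variable {n : ℕ} {K : Type*} [Field K] {S : Type*} [Group S] {X : Fin n → Fin n → K → S}

/-- an upper set of positive roots -/
def IsIdeal (I : Finset (Fin n × Fin n)) : Prop :=
  (∀ p ∈ I, p.1 < p.2) ∧ ∀ p ∈ I, ∀ a b : Fin n, a ≤ p.1 → p.2 ≤ b → (a, b) ∈ I

/-- the subgroup generated by the root elements of `I` -/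
def AI (X : Fin n → Fin n → K → S) (I : Finset (Fin n × Fin n)) : Subgroup S :=
  Subgroup.closure {g | ∃ p ∈ I, ∃ t : K, g = X p.1 p.2 t}

lemma X_mem_AI (X : Fin n → Fin n → K → S) {I : Finset (Fin n × Fin n)} {a b : Fin n}
    (h : (a, b) ∈ I) (t : K) : X a b t ∈ AI X I :=
  Subgroup.subset_closure ⟨(a, b), h, t, rfl⟩

lemma erase_isIdeal {I : Finset (Fin n × Fin n)} (hI : IsIdeal I) {r : Fin n × Fin n}
    (hmin : ∀ p ∈ I, r.2.val - r.1.val ≤ p.2.val - p.1.val) : IsIdeal (I.erase r) := by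
  refine ⟨fun p hp => hI.1 p (Finset.mem_of_mem_erase hp), fun p hp a b ha hb => ?_⟩
  have hpI := Finset.mem_of_mem_erase hp
  have hpr : p ≠ r := Finset.ne_of_mem_erase hp
  refine Finset.mem_erase.2 ⟨?_, hI.2 p hpI a b ha hb⟩
  intro e
  apply hpr
  have h1 := hmin p hpI
  have h2 := hI.1 p hpI
  have e1 : a = r.1 := congrArg Prod.fst e
  have e2 : b = r.2 := congrArg Prod.snd e
  rw [← e1, ← e2] at h1
  have h3 : (a : ℕ) ≤ p.1 := ha
  have h4 : (p.2 : ℕ) ≤ b := hb
  have h5 : (p.1 : ℕ) < p.2 := h2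
  have h6 : (p.1 : ℕ) = a := by omega
  have h7 : (p.2 : ℕ) = b := by omega
  rw [← e]
  exact Prod.ext (Fin.ext h6) (Fin.ext h7)

/-- `X r t` normalises `AI X (I.erase r)` -/
lemma conj_mem_AI (hX : IsSt X) {I : Finset (Fin n × Fin n)} (hI : IsIdeal I)
    {r : Fin n × Fin n} (hr : r ∈ I) (t : K) :
    ∀ g ∈ AI X (I.erase r), X r.1 r.2 t * g * (X r.1 r.2 t)⁻¹ ∈ AI X (I.erase r) := by
  intro g hg
  have hij : r.1 ≠ r.2 := (hI.1 r hr).ne
  induction hg using Subgroup.closure_induction with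
  | mem x hx =>
    obtain ⟨p, hp, s, rfl⟩ := hx
    have hpI := Finset.mem_of_mem_erase hp
    have hpr : p ≠ r := Finset.ne_of_mem_erase hp
    have hab : p.1 ≠ p.2 := (hI.1 p hpI).ne
    have hrlt := hI.1 r hr
    have hplt := hI.1 p hpI
    by_cases h1 : r.2 = p.1
    · -- `j = a`
      have hib : r.1 ≠ p.2 := by
        intro e
        have : (r.1 : ℕ) < r.2 := hrlt
        have : (p.1 : ℕ) < p.2 := hplt
        have : (r.2 : ℕ) = p.1 := congrArg Fin.val h1
        have : (r.1 : ℕ) = p.2 := congrArg Fin.val e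
        omega
      have hc := hX.comm3 r.1 r.2 p.2 hij (by rw [h1]; exact hab) hib t s
      rw [h1] at hc
      have e : X r.1 r.2 t * X p.1 p.2 s * (X r.1 r.2 t)⁻¹ = X r.1 p.2 (t * s) * X p.1 p.2 s := by
        rw [← hc, h1]; group
      rw [e]
      refine (AI X (I.erase r)).mul_mem (X_mem_AI X ?_ _) (X_mem_AI X hp _)
      refine Finset.mem_erase.2 ⟨?_, hI.2 p hpI r.1 p.2 ?_ le_rfl⟩
      · intro e2
        have : p.2 = r.2 := by simpa using congrArg Prod.snd e2
        rw [h1] at this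
        exact hab this.symm
      · rw [← h1]; exact hrlt.le
    · by_cases h2 : p.2 = r.1
      · -- `b = i`
        have haj : p.1 ≠ r.2 := by
          intro e
          have : (r.1 : ℕ) < r.2 := hrlt
          have : (p.1 : ℕ) < p.2 := hplt
          have : (p.2 : ℕ) = r.1 := congrArg Fin.val h2
          have : (p.1 : ℕ) = r.2 := congrArg Fin.val e
          omega
        have hc := hX.comm3 p.1 p.2 r.2 hab (by rw [h2]; exact hij) haj s t
        rw [h2] at hc
        have e : X r.1 r.2 t * X p.1 p.2 s * (X r.1 r.2 t)⁻¹ =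
            (X p.1 r.2 (s * t))⁻¹ * X p.1 p.2 s := by
          rw [← hc, h2]; group
        rw [e]
        refine (AI X (I.erase r)).mul_mem ((AI X (I.erase r)).inv_mem (X_mem_AI X ?_ _))
          (X_mem_AI X hp _)
        refine Finset.mem_erase.2 ⟨?_, hI.2 p hpI p.1 r.2 le_rfl ?_⟩
        · intro e2
          have : p.1 = r.1 := by simpa using congrArg Prod.fst e2
          rw [← h2] at this
          exact hab this
        · rw [h2]; exact hrlt.le
      · have hc := hX.comm r.1 r.2 p.1 p.2 hij hab (fun e => h2 e.symm) h1 t s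
        have e : X r.1 r.2 t * X p.1 p.2 s * (X r.1 r.2 t)⁻¹ = X p.1 p.2 s := by
          rw [hc]; group
        rw [e]
        exact X_mem_AI X hp _
  | one => simp
  | mul x y _ _ hx hy =>
    have e : X r.1 r.2 t * (x * y) * (X r.1 r.2 t)⁻¹ =
        (X r.1 r.2 t * x * (X r.1 r.2 t)⁻¹) * (X r.1 r.2 t * y * (X r.1 r.2 t)⁻¹) := by group
    rw [e]
    exact (AI X (I.erase r)).mul_mem hx hy
  | inv x _ hx =>
    have e : X r.1 r.2 t * x⁻¹ * (X r.1 r.2 t)⁻¹ = (X r.1 r.2 t * x * (X r.1 r.2 t)⁻¹)⁻¹ := by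
      group
    rw [e]
    exact (AI X (I.erase r)).inv_mem hx

/-- every element of `AI X I` is `X r t * g'` with `g' ∈ AI X (I.erase r)` -/
lemma AI_decomp (hX : IsSt X) {I : Finset (Fin n × Fin n)} (hI : IsIdeal I)
    {r : Fin n × Fin n} (hr : r ∈ I) :
    ∀ g ∈ AI X I, ∃ t : K, ∃ g' ∈ AI X (I.erase r), g = X r.1 r.2 t * g' := by
  intro g hg
  have hij : r.1 ≠ r.2 := (hI.1 r hr).ne
  induction hg using Subgroup.closure_induction with
  | mem x hx =>
    obtain ⟨p, hp, s, rfl⟩ := hx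
    by_cases hpr : p = r
    · exact ⟨s, 1, Subgroup.one_mem _, by rw [hpr, mul_one]⟩
    · refine ⟨0, X p.1 p.2 s, Subgroup.subset_closure ⟨p, Finset.mem_erase.2 ⟨hpr, hp⟩, s, rfl⟩, ?_⟩
      rw [hX.zero hij, one_mul]
  | one => exact ⟨0, 1, Subgroup.one_mem _, by rw [hX.zero hij, one_mul]⟩
  | mul x y _ _ hx hy =>
    obtain ⟨t, g1, hg1, rfl⟩ := hx
    obtain ⟨t', g2, hg2, rfl⟩ := hy
    refine ⟨t + t', (X r.1 r.2 (-t') * g1 * (X r.1 r.2 (-t'))⁻¹) * g2,
      (AI X (I.erase r)).mul_mem (conj_mem_AI hX hI hr (-t') g1 hg1) hg2, ?_⟩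
    rw [← hX.add r.1 r.2 hij t t', ← hX.inv hij t']
    group
  | inv x _ hx =>
    obtain ⟨t, g1, hg1, rfl⟩ := hx
    refine ⟨-t, X r.1 r.2 t * g1⁻¹ * (X r.1 r.2 t)⁻¹,
      conj_mem_AI hX hI hr t g1⁻¹ ((AI X (I.erase r)).inv_mem hg1), ?_⟩
    rw [← hX.inv hij t]
    group

/-- unitriangular matrices supported on the diagonal and on `J` -/
def MI (K : Type*) [Field K] (J : Finset (Fin n × Fin n)) : Set (Matrix (Fin n) (Fin n) K) :=
  {M | (∀ a, M a a = 1) ∧ ∀ a b, a ≠ b → (a, b) ∉ J → M a b = 0}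

lemma one_mem_MI (J : Finset (Fin n × Fin n)) : (1 : Matrix (Fin n) (Fin n) K) ∈ MI K J :=
  ⟨fun a => Matrix.one_apply_eq a, fun a b hab _ => Matrix.one_apply_ne hab⟩

lemma mul_mem_MI {J : Finset (Fin n × Fin n)} (hJ : IsIdeal J) {M N : Matrix (Fin n) (Fin n) K}
    (hM : M ∈ MI K J) (hN : N ∈ MI K J) : M * N ∈ MI K J := by
  have key : ∀ a l : Fin n, a ≠ l → ∀ {P : Matrix (Fin n) (Fin n) K}, P ∈ MI K J → P a l ≠ 0 →
      (a, l) ∈ J := by
    intro a l hal P hP h0
    by_contra hc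
    exact h0 (hP.2 a l hal hc)
  refine ⟨fun a => ?_, fun a b hab hJab => ?_⟩
  · rw [Matrix.mul_apply, Finset.sum_eq_single a]
    · rw [hM.1, hN.1, mul_one]
    · intro l _ hla
      by_contra h0
      have h1 : M a l ≠ 0 := fun e => h0 (by rw [e, zero_mul])
      have h2 : N l a ≠ 0 := fun e => h0 (by rw [e, mul_zero])
      have h3 := hJ.1 _ (key a l (Ne.symm hla) hM h1)
      have h4 := hJ.1 _ (key l a hla hN h2)
      exact lt_asymm h3 h4
    · intro h; exact absurd (Finset.mem_univ a) h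
  · rw [Matrix.mul_apply]
    apply Finset.sum_eq_zero
    intro l _
    by_contra h0
    have h1 : M a l ≠ 0 := fun e => h0 (by rw [e, zero_mul])
    have h2 : N l b ≠ 0 := fun e => h0 (by rw [e, mul_zero])
    by_cases hal : a = l
    · subst hal
      exact h2 (hN.2 a b hab hJab)
    · by_cases hlb : l = b
      · subst hlb
        exact h1 (hM.2 a l hab hJab)
      · have h3 := key a l hal hM h1
        have h4 := key l b hlb hN h2
        exact hJab (hJ.2 _ h3 a b le_rfl (hJ.1 _ h4).le)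

lemma transvection_mem_MI {J : Finset (Fin n × Fin n)} (hJ : IsIdeal J) {p : Fin n × Fin n}
    (hp : p ∈ J) (s : K) :
    ((Matrix.SpecialLinearGroup.transvection (hJ.1 p hp).ne s :
      Matrix.SpecialLinearGroup (Fin n) K) : Matrix (Fin n) (Fin n) K) ∈ MI K J := by
  rw [Matrix.SpecialLinearGroup.transvection_coe]
  refine ⟨fun a => ?_, fun a b hab hJab => ?_⟩
  · rw [Matrix.add_apply, Matrix.one_apply_eq, Matrix.single_apply]
    have : ¬ (p.1 = a ∧ p.2 = a) := fun h => (hJ.1 p hp).ne (h.1.trans h.2.symm)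
    rw [if_neg this, add_zero]
  · rw [Matrix.add_apply, Matrix.one_apply_ne hab, Matrix.single_apply]
    have : ¬ (p.1 = a ∧ p.2 = b) := by
      rintro ⟨h1, h2⟩
      apply hJab
      rw [← h1, ← h2]
      exact hp
    rw [if_neg this, add_zero]

lemma phi_mem_MI (hX : IsSt X) {φ : S →* Matrix.SpecialLinearGroup (Fin n) K} (hφ : IsPhi X φ)
    {J : Finset (Fin n × Fin n)} (hJ : IsIdeal J) :
    ∀ g ∈ AI X J, ((φ g : Matrix.SpecialLinearGroup (Fin n) K) : Matrix (Fin n) (Fin n) K) ∈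
      MI K J := by
  intro g hg
  induction hg using Subgroup.closure_induction'' with
  | mem x hx =>
    obtain ⟨p, hp, s, rfl⟩ := hx
    rw [hφ p.1 p.2 (hJ.1 p hp).ne s]
    exact transvection_mem_MI hJ hp s
  | inv_mem x hx =>
    obtain ⟨p, hp, s, rfl⟩ := hx
    rw [hX.inv (hJ.1 p hp).ne s, hφ p.1 p.2 (hJ.1 p hp).ne (-s)]
    exact transvection_mem_MI hJ hp (-s)
  | one =>
    rw [map_one]
    exact one_mem_MI J
  | mul x y _ _ hx hy =>
    rw [map_mul, Matrix.SpecialLinearGroup.coe_mul]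
    exact mul_mem_MI hJ hx hy

theorem AI_inj (hX : IsSt X) {φ : S →* Matrix.SpecialLinearGroup (Fin n) K} (hφ : IsPhi X φ) :
    ∀ (m : ℕ) (I : Finset (Fin n × Fin n)), I.card = m → IsIdeal I →
      ∀ g ∈ AI X I, φ g = 1 → g = 1 := by
  intro m
  induction m with
  | zero =>
    intro I hc _ g hg _
    rw [Finset.card_eq_zero] at hc
    subst hc
    have : AI X (∅ : Finset (Fin n × Fin n)) = ⊥ := by
      unfold AI
      rw [Subgroup.closure_eq_bot_iff]
      rintro x ⟨p, hp, _⟩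
      exact absurd hp (Finset.notMem_empty p)
    rw [this] at hg
    exact Subgroup.mem_bot.1 hg
  | succ m ih =>
    intro I hc hI g hg h1
    have hne : I.Nonempty := by
      rw [← Finset.card_pos]; omega
    obtain ⟨r, hr, hmin⟩ := Finset.exists_min_image I (fun p => p.2.val - p.1.val) hne
    have hI' : IsIdeal (I.erase r) := erase_isIdeal hI hmin
    have hc' : (I.erase r).card = m := by
      rw [Finset.card_erase_of_mem hr, hc]; rfl
    obtain ⟨t, g', hg', rfl⟩ := AI_decomp hX hI hr g hg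
    have hij : r.1 ≠ r.2 := (hI.1 r hr).ne
    have hM := phi_mem_MI hX hφ hI' g' hg'
    have hent : ((φ (X r.1 r.2 t * g') : Matrix.SpecialLinearGroup (Fin n) K) :
        Matrix (Fin n) (Fin n) K) r.1 r.2 = t := by
      rw [map_mul, hφ r.1 r.2 hij t, Matrix.SpecialLinearGroup.coe_mul,
        Matrix.SpecialLinearGroup.transvection_coe, Matrix.add_mul, Matrix.one_mul,
        Matrix.add_apply, Matrix.single_mul_apply_same]
      have h0 : ((φ g' : Matrix.SpecialLinearGroup (Fin n) K) : Matrix (Fin n) (Fin n) K) r.1 r.2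
          = 0 := by
        apply hM.2 r.1 r.2 hij
        intro h
        exact (Finset.ne_of_mem_erase h) rfl
      rw [h0, hM.1, zero_add, mul_one]
    rw [h1] at hent
    have ht : t = 0 := by
      rw [← hent]
      exact Matrix.one_apply_ne hij
    subst ht
    rw [hX.zero hij, one_mul] at h1 ⊢
    exact ih (I.erase r) hc' hI' g' hg' h1

/-- all positive roots -/
def allPos (n : ℕ) : Finset (Fin n × Fin n) := Finset.univ.filter (fun p => p.1 < p.2)

lemma allPos_isIdeal : IsIdeal (allPos n) := by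
  refine ⟨fun p hp => (Finset.mem_filter.1 hp).2, fun p hp a b ha hb => ?_⟩
  have := (Finset.mem_filter.1 hp).2
  exact Finset.mem_filter.2 ⟨Finset.mem_univ _, lt_of_le_of_lt ha (lt_of_lt_of_le this hb)⟩

lemma Upos_le_AI (X : Fin n → Fin n → K → S) : Upos X ≤ AI X (allPos n) := by
  apply Subgroup.closure_mono
  rintro g ⟨i, j, t, hij, rfl⟩
  exact ⟨(i, j), Finset.mem_filter.2 ⟨Finset.mem_univ _, hij⟩, t, rfl⟩

theorem Upos_inj (hX : IsSt X) {φ : S →* SpecialLinearGroup (Fin n) K} (hφ : IsPhi X φ) :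
    ∀ g ∈ Upos X, φ g = 1 → g = 1 := fun g hg h1 =>
  AI_inj hX hφ _ (allPos n) rfl allPos_isIdeal g (Upos_le_AI X hg) h1

end Cfsg.Agent.Lib.Helper60.StN
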