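import Cfsg.Agent.Lib.Helper49.StOpDefs

/-!
# K-StOp leaf R3 (S2548): the middle entries of a triangular isometry vanish
-/

set_option autoImplicit false
set_option linter.unusedSectionVars false
set_option linter.unusedVariables false

namespace Cfsg.Agent.Lib.Helper60.StOp

open Cfsg Cfsg.Agent.Lib.Helper49.StOp Matrix

variable {m : ℕ} {F : Type*} [Field F]

theorem pos_fI_lastF (hm : 0 < m) : pos m (fI (lastF hm)) = m := by
  simp only [pos, lastF]; omega

theorem pos_eI_lastF (hm : 0 < m) : pos m (eI (lastF hm)) = m - 1 := by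
  simp only [pos, lastF]

/-- diagonal entries of an upper triangular isometry are nonzero -/
theorem diag_ne_zero_B (g : OG m F) (hg : g ∈ Bsub m F) (a : OI m) : mat g a a ≠ 0 := by
  intro h0
  have hgi : g⁻¹ ∈ Bsub m F := (Bsub m F).inv_mem hg
  have h1 : (mat g⁻¹ * mat g) a a = 1 := by rw [mat_inv_mul_mat]; simp
  rw [Matrix.mul_apply] at h1
  have h2 : ∑ c, mat g⁻¹ a c * mat g c a = 0 := by
    apply Finset.sum_eq_zero
    intro c _
    rcases lt_trichotomy (pos m c) (pos m a) with h | h | h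
    · rw [(mem_Bsub_iff g⁻¹).1 hgi a c h, zero_mul]
    · rw [pos_injective m h, h0, mul_zero]
    · rw [(mem_Bsub_iff g).1 hg c a h, mul_zero]
  rw [h2] at h1
  exact zero_ne_one h1

/-- diagonal entries of a lower triangular isometry are nonzero -/
theorem diag_ne_zero_Bminus (g : OG m F) (hg : g ∈ Bminus m F) (a : OI m) : mat g a a ≠ 0 := by
  intro h0
  have hgi : g⁻¹ ∈ Bminus m F := (Bminus m F).inv_mem hg
  have h1 : (mat g⁻¹ * mat g) a a = 1 := by rw [mat_inv_mul_mat]; simp
  rw [Matrix.mul_apply] at h1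
  have h2 : ∑ c, mat g⁻¹ a c * mat g c a = 0 := by
    apply Finset.sum_eq_zero
    intro c _
    rcases lt_trichotomy (pos m c) (pos m a) with h | h | h
    · rw [(mem_Bminus_iff g).1 hg c a h, mul_zero]
    · rw [pos_injective m h, h0, mul_zero]
    · rw [(mem_Bminus_iff g⁻¹).1 hgi a c h, zero_mul]
  rw [h2] at h1
  exact zero_ne_one h1

theorem quad_single (a : OI m) : Cfsg.quadFormPlus m F (Pi.single a (1 : F)) = 0 := by
  unfold Cfsg.quadFormPlus
  apply Finset.sum_eq_zero
  intro i _
  rcases a with a | a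
  · have h : (Pi.single (Sum.inl a : OI m) (1 : F) : OI m → F) (Sum.inr i) = 0 :=
      Pi.single_eq_of_ne (by simp) _
    rw [h, mul_zero]
  · have h : (Pi.single (Sum.inr a : OI m) (1 : F) : OI m → F) (Sum.inl i) = 0 :=
      Pi.single_eq_of_ne (by simp) _
    rw [h, zero_mul]

theorem mid_entry_B (hm : 0 < m) (g : OG m F) (hg : g ∈ Bsub m F) :
    mat g (eI (lastF hm)) (fI (lastF hm)) = 0 := by
  have hq := quad_mulVec g (Pi.single (fI (lastF hm)) (1 : F))
  rw [quad_single] at hq
  have hcol : ∀ a, (mat g *ᵥ Pi.single (fI (lastF hm)) (1 : F)) a = mat g a (fI (lastF hm)) := by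
    intro a
    rw [Matrix.mulVec_single_one]; rfl
  unfold Cfsg.quadFormPlus at hq
  rw [Finset.sum_eq_single (lastF hm)] at hq
  · rw [hcol, hcol] at hq
    rcases mul_eq_zero.1 hq with h | h
    · exact h
    · exact absurd h (diag_ne_zero_B g hg _)
  · intro i _ hi
    rw [hcol (Sum.inr i)]
    rw [(mem_Bsub_iff g).1 hg (fI i) (fI (lastF hm)) ?_, mul_zero]
    rw [pos_fI_lastF]
    simp only [pos]
    have h1 : i.val ≠ m - 1 := fun h => hi (Fin.ext (by simpa [lastF] using h))
    have := i.2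
    omega
  · intro h; exact absurd (Finset.mem_univ _) h

theorem mid_entry_Bminus (hm : 0 < m) (g : OG m F) (hg : g ∈ Bminus m F) :
    mat g (fI (lastF hm)) (eI (lastF hm)) = 0 := by
  have hq := quad_mulVec g (Pi.single (eI (lastF hm)) (1 : F))
  rw [quad_single] at hq
  have hcol : ∀ a, (mat g *ᵥ Pi.single (eI (lastF hm)) (1 : F)) a = mat g a (eI (lastF hm)) := by
    intro a
    rw [Matrix.mulVec_single_one]; rfl
  unfold Cfsg.quadFormPlus at hq
  rw [Finset.sum_eq_single (lastF hm)] at hq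
  · rw [hcol, hcol] at hq
    rcases mul_eq_zero.1 hq with h | h
    · exact absurd h (diag_ne_zero_Bminus g hg _)
    · exact h
  · intro i _ hi
    rw [hcol (Sum.inl i)]
    rw [(mem_Bminus_iff g).1 hg (eI i) (eI (lastF hm)) ?_, zero_mul]
    rw [pos_eI_lastF]
    simp only [pos]
    have h1 : i.val ≠ m - 1 := fun h => hi (Fin.ext (by simpa [lastF] using h))
    have := i.2
    omega
  · intro h; exact absurd (Finset.mem_univ _) h

end Cfsg.Agent.Lib.Helper60.StOp
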