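import Mathlib

set_option autoImplicit false

namespace Cfsg.Agent.Lib.Helper60.SylAlt

open Equiv Equiv.Perm
open scoped Pointwise

/-- a three-cycle `t` cannot move a block with at least two points off itself -/
theorem p1a_threeCycle_fix_block {β : Type*} [Fintype β] [DecidableEq β] {t : Perm β}
    (ht : t.IsThreeCycle) {B : Set β} {x y : β} (hx : x ∈ B) (hy : y ∈ B) (hxy : x ≠ y)
    (hmove : ∀ a ∈ B, t a ∉ B) : False := by
  have htx : t x ∉ B := hmove x hx
  have hty : t y ∉ B := hmove y hy
  have hsub : ({x, y, t x, t y} : Finset β) ⊆ t.support := by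
    intro z hz
    simp only [Finset.mem_insert, Finset.mem_singleton] at hz
    have hxs : x ∈ t.support := by
      rw [Perm.mem_support]; intro h; rw [h] at htx; exact htx hx
    have hys : y ∈ t.support := by
      rw [Perm.mem_support]; intro h; rw [h] at hty; exact hty hy
    rcases hz with rfl | rfl | rfl | rfl
    · exact hxs
    · exact hys
    · exact Perm.apply_mem_support.mpr hxs
    · exact Perm.apply_mem_support.mpr hys
  have h4 : ({x, y, t x, t y} : Finset β).card = 4 := by
    have h1 : t x ≠ t y := fun h => hxy (t.injective h)
    have h2 : y ≠ t x := fun h => htx (h ▸ hy)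
    have h3 : y ≠ t y := fun h => hty (h ▸ hy)
    have h5 : x ≠ t x := fun h => htx (h ▸ hx)
    have h6 : x ≠ t y := fun h => hty (h ▸ hx)
    rw [Finset.card_insert_of_notMem, Finset.card_insert_of_notMem,
      Finset.card_insert_of_notMem, Finset.card_singleton]
    · simpa using h1
    · simp [h2, h3]
    · simp [hxy, h5, h6]
  have := Finset.card_le_card hsub
  rw [h4, ht.card_support] at this
  omega

theorem alternatingGroup_le_of_transitive_of_closure_threeCycle {β : Type*} [Fintype β] [DecidableEq β]
    (S : Set (Perm β)) (hS : ∀ t ∈ S, t.IsThreeCycle)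
    (htr : MulAction.IsPretransitive ↥(Subgroup.closure S) β) :
    alternatingGroup β ≤ Subgroup.closure S := by
  rcases S.eq_empty_or_nonempty with hemp | ⟨t₀, ht₀⟩
  · -- `closure ∅ = ⊥` transitive: `β` is a subsingleton
    have hsub : Subsingleton β := by
      refine ⟨fun x y => ?_⟩
      obtain ⟨g, hg⟩ := htr.exists_smul_eq x y
      have hg1 : (g : Perm β) = 1 := by
        have hle : Subgroup.closure S ≤ ⊥ := by
          rw [hemp, Subgroup.closure_empty]
        exact Subgroup.mem_bot.mp (hle g.2)
      have : (g : Perm β) x = y := hg
      rw [hg1] at this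
      exact this
    intro σ _
    have : σ = 1 := Subsingleton.elim _ _
    rw [this]
    exact Subgroup.one_mem _
  · have hprim : MulAction.IsPreprimitive ↥(Subgroup.closure S) β := by
      refine { toIsPretransitive := htr, isTrivialBlock_of_isBlock := ?_ }
      intro B hB
      by_cases hBs : B.Subsingleton
      · exact Or.inl hBs
      · right
        rw [Set.not_subsingleton_iff] at hBs
        obtain ⟨x, hx, y, hy, hxy⟩ := hBs
        -- every generator fixes `B`
        have hgen : S ⊆ (MulAction.stabilizer (Perm β) B : Subgroup (Perm β)) := by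
          intro t ht
          rw [SetLike.mem_coe, MulAction.mem_stabilizer_iff]
          by_contra hne
          have hmove : ∀ a ∈ B, t a ∉ B := by
            intro a ha hta
            apply hne
            exact hB.smul_eq_of_mem (g := (⟨t, Subgroup.subset_closure ht⟩ : Subgroup.closure S))
              ha hta
          exact p1a_threeCycle_fix_block (hS t ht) hx hy hxy hmove
        have hall : Subgroup.closure S ≤ MulAction.stabilizer (Perm β) B :=
          (Subgroup.closure_le _).mpr hgen
        rw [Set.eq_univ_iff_forall]
        intro z
        obtain ⟨g, hg⟩ := htr.exists_smul_eq x z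
        have hgB : (g : Perm β) • B = B := MulAction.mem_stabilizer_iff.mp (hall g.2)
        rw [← hgB]
        exact ⟨x, hx, hg⟩
    exact alternatingGroup_le_of_isPreprimitive_of_isThreeCycle_mem hprim (hS t₀ ht₀)
      (Subgroup.subset_closure ht₀)

end Cfsg.Agent.Lib.Helper60.SylAlt
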