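import Mathlib
import Cfsg.Agent.Lib.Helper06.SylAlt.Defs
import Cfsg.Agent.Lib.Helper60.SylAltP1
import Cfsg.Agent.Lib.Helper60.SylAltP1a

/-!
# Keystone 292902  K-SylAlt-P1  `altOn_orbit_le`, exact spec signature  (helper60, for helper6's S2929 pack)
-/

set_option autoImplicit false

namespace Cfsg.Agent.Lib.Helper60.SylAlt

open Equiv Equiv.Perm
open Cfsg.Agent.Lib.Helper06.SylAlt

variable {α : Type*} [Fintype α] [DecidableEq α]

theorem altOn_orbit_le (M : Subgroup (Perm α))
    (hM : M = Subgroup.closure {t : Perm α | t ∈ M ∧ t.IsThreeCycle}) (a : α) :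
    altOn (MulAction.orbit ↥M a) ≤ M :=
  altOn_orbit_le_of M hM a
    (fun S hS htr => alternatingGroup_le_of_transitive_of_closure_threeCycle S hS htr)

end Cfsg.Agent.Lib.Helper60.SylAlt
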