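import Mathlib
import Cfsg.Agent.Lib.Helper40.T1904Defs

/-!
# K-S1904-13a (keystone 454, architect helper40): exponent ≥ 8, no `A`-fixed coset in `C_X(B²)/B`.
-/

set_option autoImplicit false
set_option linter.style.haveILetI false

namespace Cfsg.Agent.Lib.Helper60.T1904

open Cfsg.Agent.Lib.Helper40.T1904

universe u_1

variable {X : Type u_1} [Group X]

/-- Counting the fixed points of a map of order dividing 3 on an invariant finite set. -/
theorem card_modEq_fixed [Finite X] (g : X → X) (S : Set X) (hS : ∀ s ∈ S, g s ∈ S)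
    (h3 : ∀ s ∈ S, g (g (g s)) = s) :
    Nat.card S ≡ Nat.card {s : X // s ∈ S ∧ g s = s} [MOD 3] := by
  classical
  haveI : Fintype S := Fintype.ofFinite S
  haveI : Fact (Nat.Prime 3) := ⟨Nat.prime_three⟩
  let f : Function.End S := fun s => ⟨g s.1, hS s.1 s.2⟩
  have hf : f ^ 3 ^ 1 = 1 := by
    funext s
    apply Subtype.ext
    exact h3 s.1 s.2
  have h := Equiv.Perm.card_fixedPoints_modEq (f := f) (p := 3) (n := 1) hf
  have e : Nat.card (Function.fixedPoints f) = Nat.card {s : X // s ∈ S ∧ g s = s} :=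
    Nat.card_congr
      { toFun := fun s => ⟨s.1.1, s.1.2, congrArg Subtype.val s.2⟩
        invFun := fun s => ⟨⟨s.1, s.2.1⟩, Subtype.ext s.2.2⟩
        left_inv := fun s => rfl
        right_inv := fun s => rfl }
  rw [← Nat.card_eq_fintype_card, ← Nat.card_eq_fintype_card] at h
  rw [← e]
  exact h

/-- A group of automorphisms of order 3 has a generator. -/
theorem exists_gen {A : Subgroup (MulAut X)} (hA3 : Nat.card A = 3) :
    ∃ g ∈ A, (∀ x : X, g (g (g x)) = x) ∧ ∀ x : X, g x = x → ∀ φ ∈ A, φ x = x := by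
  haveI : Fact (Nat.Prime 3) := ⟨Nat.prime_three⟩
  haveI : IsCyclic A := isCyclic_of_prime_card hA3
  obtain ⟨γ, hγ⟩ := IsCyclic.exists_generator (α := A)
  refine ⟨γ.1, γ.2, ?_, ?_⟩
  · intro x
    have h1 : γ ^ 3 = 1 := by rw [← hA3]; exact pow_card_eq_one'
    have h2 : (γ.1) ^ 3 = 1 := by
      have := congrArg Subtype.val h1
      simpa using this
    have h3 : ((γ.1) ^ 3) x = x := by rw [h2]; rfl
    simpa [pow_succ, MulAut.mul_apply] using h3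
  · intro x hx φ hφ
    have h1 : (⟨φ, hφ⟩ : A) ∈ Subgroup.zpowers γ := hγ _
    obtain ⟨k, hk⟩ := h1
    have h2 : (γ.1) ^ k = φ := by
      have := congrArg Subtype.val hk
      simpa using this
    have h3 : γ.1 ∈ MulAction.stabilizer (MulAut X) x := by
      rw [MulAction.mem_stabilizer_iff]; exact hx
    have h4 := (MulAction.stabilizer (MulAut X) x).zpow_mem h3 k
    rw [h2, MulAction.mem_stabilizer_iff] at h4
    exact h4

theorem card_fixed_eq_one (g : X → X) (S : Set X) (h1 : (1 : X) ∈ S) (hg1 : g 1 = 1)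
    (hfix : ∀ s ∈ S, g s = s → s = 1) : Nat.card {s : X // s ∈ S ∧ g s = s} = 1 := by
  rw [Nat.card_eq_one_iff_unique]
  refine ⟨⟨fun a b => ?_⟩, ⟨⟨1, h1, hg1⟩⟩⟩
  apply Subtype.ext
  rw [hfix a.1 a.2.1 a.2.2, hfix b.1 b.2.1 b.2.2]

/-- An element centralizing the squares of the normal abelian subgroup `B` moves `b ∈ B` by an
element of square one. -/
theorem conj_eq_mul (B : Subgroup X) (hBn : B.Normal) (hBa : Ab B) (w : X)
    (hw : ∀ b ∈ B, w * (b * b) = (b * b) * w) (b : X) (hb : b ∈ B) :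
    ∃ v ∈ B, v * v = 1 ∧ w * b * w⁻¹ = b * v := by
  have hcb : w * b * w⁻¹ ∈ B := hBn.conj_mem b hb w
  refine ⟨b⁻¹ * (w * b * w⁻¹), B.mul_mem (B.inv_mem hb) hcb, ?_, by group⟩
  have h1 : (w * b * w⁻¹) * b⁻¹ = b⁻¹ * (w * b * w⁻¹) := hBa _ hcb _ (B.inv_mem hb)
  have h2 : w * (b * b) * w⁻¹ = b * b := by rw [hw b hb]; group
  calc b⁻¹ * (w * b * w⁻¹) * (b⁻¹ * (w * b * w⁻¹))
      = b⁻¹ * ((w * b * w⁻¹) * b⁻¹) * (w * b * w⁻¹) := by group
    _ = b⁻¹ * (b⁻¹ * (w * b * w⁻¹)) * (w * b * w⁻¹) := by rw [h1]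
    _ = b⁻¹ * b⁻¹ * (w * (b * b) * w⁻¹) := by group
    _ = 1 := by rw [h2]; group

/-- The subgroup `V ∪ y₀V`. -/
theorem exists_E (B : Subgroup X) (y0 : X) (hy0 : y0 * y0 = 1)
    (hVc : ∀ x : X, ∀ z ∈ B, z * z = 1 → x * z * x⁻¹ = z)
    (hconj : ∀ x : X, ∃ k ∈ B, k * k = 1 ∧ x * y0 * x⁻¹ = y0 * k) :
    ∃ E : Subgroup X, E.Normal ∧ Ab E ∧ (∀ z ∈ B, z * z = 1 → z ∈ E ∧ y0 * z ∈ E) ∧
      ∀ t ∈ E, t * t = 1 := by
  have hcen : ∀ z ∈ B, z * z = 1 → ∀ x : X, x * z = z * x := by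
    intro z hz hzz x
    have := hVc x z hz hzz
    calc x * z = (x * z * x⁻¹) * x := by group
      _ = z * x := by rw [this]
  have hVmul : ∀ z1 ∈ B, z1 * z1 = 1 → ∀ z2 ∈ B, z2 * z2 = 1 → (z1 * z2) * (z1 * z2) = 1 := by
    intro z1 hz1 hz1s z2 hz2 hz2s
    have := hcen z1 hz1 hz1s z2
    calc (z1 * z2) * (z1 * z2) = z1 * (z2 * z1) * z2 := by group
      _ = z1 * (z1 * z2) * z2 := by rw [this]
      _ = (z1 * z1) * (z2 * z2) := by group
      _ = 1 := by rw [hz1s, hz2s, one_mul]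
  have hyi : y0⁻¹ = y0 := inv_eq_of_mul_eq_one_left hy0
  have hyy : ∀ z1 ∈ B, z1 * z1 = 1 → ∀ z2 : X, y0 * z1 * (y0 * z2) = z1 * z2 := by
    intro z1 hz1 hz1s z2
    calc y0 * z1 * (y0 * z2) = y0 * (z1 * y0) * z2 := by group
      _ = y0 * (y0 * z1) * z2 := by rw [← hcen z1 hz1 hz1s y0]
      _ = (y0 * y0) * z1 * z2 := by group
      _ = z1 * z2 := by rw [hy0, one_mul]
  let E : Subgroup X :=
    { carrier := {t | ∃ z, (z ∈ B ∧ z * z = 1) ∧ (t = z ∨ t = y0 * z)}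
      mul_mem' := by
        rintro t1 t2 ⟨z1, ⟨hz1, hz1s⟩, ht1⟩ ⟨z2, ⟨hz2, hz2s⟩, ht2⟩
        refine ⟨z1 * z2, ⟨B.mul_mem hz1 hz2, hVmul z1 hz1 hz1s z2 hz2 hz2s⟩, ?_⟩
        have c1 := hcen z1 hz1 hz1s y0
        rcases ht1 with ht1 | ht1 <;> rcases ht2 with ht2 | ht2 <;> rw [ht1, ht2]
        · left; rfl
        · right
          calc z1 * (y0 * z2) = (z1 * y0) * z2 := by rw [mul_assoc]
            _ = (y0 * z1) * z2 := by rw [c1]
            _ = y0 * (z1 * z2) := by rw [mul_assoc]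
        · right; rw [mul_assoc]
        · left; exact hyy z1 hz1 hz1s z2
      one_mem' := ⟨1, ⟨B.one_mem, mul_one 1⟩, Or.inl rfl⟩
      inv_mem' := by
        rintro t ⟨z, ⟨hz, hzs⟩, ht⟩
        have hzi : z⁻¹ = z := inv_eq_of_mul_eq_one_left hzs
        refine ⟨z, ⟨hz, hzs⟩, ?_⟩
        rcases ht with ht | ht <;> rw [ht]
        · left; exact hzi
        · right; rw [mul_inv_rev, hzi, hyi]; exact (hcen z hz hzs y0).symm }
  have hmemE : ∀ t, t ∈ E ↔ ∃ z, (z ∈ B ∧ z * z = 1) ∧ (t = z ∨ t = y0 * z) := fun t => Iff.rfl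
  refine ⟨E, ⟨?_⟩, ?_, ?_, ?_⟩
  · intro t ht x
    rw [hmemE] at ht ⊢
    obtain ⟨z, ⟨hz, hzs⟩, ht⟩ := ht
    rcases ht with ht | ht
    · exact ⟨z, ⟨hz, hzs⟩, Or.inl (by rw [ht]; exact hVc x z hz hzs)⟩
    · obtain ⟨k, hk, hkk, hxk⟩ := hconj x
      refine ⟨k * z, ⟨B.mul_mem hk hz, hVmul k hk hkk z hz hzs⟩, Or.inr ?_⟩
      rw [ht]
      calc x * (y0 * z) * x⁻¹ = (x * y0 * x⁻¹) * (x * z * x⁻¹) := by group
        _ = y0 * k * z := by rw [hxk, hVc x z hz hzs]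
        _ = y0 * (k * z) := mul_assoc _ _ _
  · intro a ha b hb
    rw [hmemE] at ha hb
    obtain ⟨z1, ⟨hz1, hz1s⟩, ha⟩ := ha
    obtain ⟨z2, ⟨hz2, hz2s⟩, hb⟩ := hb
    rcases ha with ha | ha
    · rw [ha]; exact (hcen z1 hz1 hz1s b).symm
    rcases hb with hb | hb
    · rw [hb]; exact hcen z2 hz2 hz2s a
    rw [ha, hb, hyy z1 hz1 hz1s z2, hyy z2 hz2 hz2s z1]
    exact hcen z2 hz2 hz2s z1
  · intro z hz hzs
    exact ⟨(hmemE z).mpr ⟨z, ⟨hz, hzs⟩, Or.inl rfl⟩, (hmemE _).mpr ⟨z, ⟨hz, hzs⟩, Or.inr rfl⟩⟩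
  · intro t ht
    rw [hmemE] at ht
    obtain ⟨z, ⟨hz, hzs⟩, ht⟩ := ht
    rcases ht with ht | ht <;> rw [ht]
    · exact hzs
    · rw [hyy z hz hzs z]; exact hzs

theorem T1_fixed [Finite X] {A : Subgroup (MulAut X)} (h : Ctx X A) (hA3 : Nat.card A = 3)
    (B : Subgroup X) (hBn : B.Normal) (hBa : Ab B) (hBi : Inv A B) (hfpf : Fpf A B)
    (hsc : ∀ x : X, (∀ b ∈ B, x * b = b * x) → x ∈ B) (h8 : ∃ b ∈ B, b ^ 4 ≠ 1)
    (hmod : ∀ x : X, ∀ b ∈ B, ∃ d ∈ B, x * b * x⁻¹ = b * (d * d))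
    (hhom : ∀ c : ℕ, (∀ b ∈ B, b ^ (2 ^ c) = 1) → (∃ b ∈ B, b ^ (2 ^ (c - 1)) ≠ 1) →
      ∀ j : ℕ, j ≤ c → ∀ y ∈ B, ((∃ b ∈ B, y = b ^ (2 ^ j)) ↔ y ^ (2 ^ (c - j)) = 1)) :
    ∀ y : X, (∀ b ∈ B, y * (b * b) = (b * b) * y) → (∀ φ ∈ A, y⁻¹ * φ y ∈ B) → y ∈ B := by
  classical
  intro y hyc hyA
  by_contra hyB
  -- the exponent of `B`
  obtain ⟨n, hn⟩ := IsPGroup.iff_card.mp h.h2
  have hex : ∃ c, ∀ b ∈ B, b ^ (2 ^ c) = 1 :=
    ⟨n, fun b _ => by rw [← hn]; exact pow_card_eq_one'⟩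
  obtain ⟨c, hc, hcmin⟩ : ∃ c, (∀ b ∈ B, b ^ (2 ^ c) = 1) ∧
      ∀ m, (∀ b ∈ B, b ^ (2 ^ m) = 1) → c ≤ m :=
    ⟨Nat.find hex, Nat.find_spec hex, fun m hm => Nat.find_min' hex hm⟩
  have hc3 : 3 ≤ c := by
    by_contra hlt
    obtain ⟨b, hb, hb4⟩ := h8
    apply hb4
    have h1 := hc b hb
    have h2 : 2 ^ c ∣ 4 := by
      have : c ≤ 2 := by omega
      calc 2 ^ c ∣ 2 ^ 2 := pow_dvd_pow 2 this
        _ = 4 := by norm_num
    obtain ⟨k, hk⟩ := h2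
    rw [hk, pow_mul, h1, one_pow]
  have hc' : ∃ b ∈ B, b ^ (2 ^ (c - 1)) ≠ 1 := by
    by_contra hno
    push Not at hno
    have := hcmin (c - 1) hno
    omega
  have hH := hhom c hc hc'
  have hsq4 : ∀ z ∈ B, z ^ 4 = 1 → ∃ b ∈ B, z = b * b := by
    intro z hz hz4
    have h1 : z ^ (2 ^ (c - 1)) = 1 := by
      have h2 : 4 ∣ 2 ^ (c - 1) := by
        have : 2 ≤ c - 1 := by omega
        calc (4 : ℕ) = 2 ^ 2 := by norm_num
          _ ∣ 2 ^ (c - 1) := pow_dvd_pow 2 this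
      obtain ⟨k, hk⟩ := h2
      rw [hk, pow_mul, hz4, one_pow]
    obtain ⟨b, hb, hzb⟩ := (hH 1 (by omega) z hz).mpr h1
    exact ⟨b, hb, by rw [hzb, pow_one, pow_two]⟩
  have hsq2 : ∀ z ∈ B, z * z = 1 → ∃ b ∈ B, z = b ^ (2 ^ (c - 1)) := by
    intro z hz hzz
    apply (hH (c - 1) (by omega) z hz).mpr
    have : c - (c - 1) = 1 := by omega
    rw [this, pow_one, pow_two, hzz]
  -- elements of square one of `B` are central
  have hVc : ∀ x : X, ∀ z ∈ B, z * z = 1 → x * z * x⁻¹ = z := by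
    intro x z hz hzz
    obtain ⟨b, hb, hzb⟩ := hsq2 z hz hzz
    obtain ⟨d, hd, hxb⟩ := hmod x b hb
    have hcomm : Commute b (d * d) := hBa b hb (d * d) (B.mul_mem hd hd)
    have hd1 : (d * d) ^ (2 ^ (c - 1)) = 1 := by
      rw [← pow_two, ← pow_mul, ← pow_succ', show c - 1 + 1 = c by omega]
      exact hc d hd
    rw [hzb, ← conj_pow, hxb, hcomm.mul_pow, hd1, mul_one]
  have hYsq : ∀ w : X, (∀ b ∈ B, w * (b * b) = (b * b) * w) → w * w ∈ B := by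
    intro w hw
    apply hsc
    intro b hb
    obtain ⟨v, hv, hvv, e1⟩ := conj_eq_mul B hBn hBa w hw b hb
    have e2 : w * v * w⁻¹ = v := hVc w v hv hvv
    calc w * w * b = w * (w * b * w⁻¹) * w := by group
      _ = w * (b * v) * w := by rw [e1]
      _ = (w * b * w⁻¹) * (w * v * w⁻¹) * (w * w) := by group
      _ = b * v * v * (w * w) := by rw [e1, e2]
      _ = b * (v * v) * (w * w) := by group
      _ = b * (w * w) := by rw [hvv, mul_one]
  -- a generator of `A`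
  obtain ⟨g, hgA, hg3, hgfix⟩ := exists_gen hA3
  -- a fixed point in the coset `yB`
  have hSinv : ∀ s ∈ {s : X | y⁻¹ * s ∈ B}, g s ∈ {s : X | y⁻¹ * s ∈ B} := by
    intro s hs
    show y⁻¹ * g s ∈ B
    have h1 : y⁻¹ * g s = (y⁻¹ * g y) * g (y⁻¹ * s) := by
      rw [map_mul, map_inv]; group
    rw [h1]
    exact B.mul_mem (hyA g hgA) (hBi g hgA _ hs)
  have hcardS : Nat.card {s : X | y⁻¹ * s ∈ B} = Nat.card (B : Set X) := Nat.card_congr
    { toFun := fun s => ⟨y⁻¹ * s.1, s.2⟩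
      invFun := fun b => ⟨y * b.1, by
        show y⁻¹ * (y * b.1) ∈ B
        rw [inv_mul_cancel_left]; exact b.2⟩
      left_inv := fun s => Subtype.ext (by simp)
      right_inv := fun b => Subtype.ext (by simp) }
  have hfixB : Nat.card {s : X // s ∈ (B : Set X) ∧ g s = s} = 1 :=
    card_fixed_eq_one g (B : Set X) B.one_mem (map_one g)
      (fun s hs hgs => hfpf s hs (hgfix s hgs))
  have m1 : Nat.card (B : Set X) ≡ 1 [MOD 3] := by
    have := card_modEq_fixed g (B : Set X) (fun s hs => hBi g hgA s hs) (fun s _ => hg3 s)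
    rwa [hfixB] at this
  have m2 := card_modEq_fixed g {s : X | y⁻¹ * s ∈ B} hSinv (fun s _ => hg3 s)
  rw [hcardS] at m2
  have hne : Nat.card {s : X // s ∈ {s : X | y⁻¹ * s ∈ B} ∧ g s = s} ≠ 0 := by
    intro h0
    rw [h0] at m2
    have h10 : 1 ≡ 0 [MOD 3] := m1.symm.trans m2
    exact absurd h10 (by decide)
  obtain ⟨⟨y0, hy0S, hy0fix⟩⟩ : Nonempty {s : X // s ∈ {s : X | y⁻¹ * s ∈ B} ∧ g s = s} :=
    (Nat.card_ne_zero.mp hne).1
  have hb0 : y⁻¹ * y0 ∈ B := hy0S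
  have hy0B : y0 ∉ B := by
    intro hy0B
    apply hyB
    have : y = y0 * (y⁻¹ * y0)⁻¹ := by group
    rw [this]
    exact B.mul_mem hy0B (B.inv_mem hb0)
  have hy0c : ∀ b ∈ B, y0 * (b * b) = (b * b) * y0 := by
    intro b hb
    have h1 : (y⁻¹ * y0) * (b * b) = (b * b) * (y⁻¹ * y0) := hBa _ hb0 _ (B.mul_mem hb hb)
    calc y0 * (b * b) = y * ((y⁻¹ * y0) * (b * b)) := by group
      _ = y * ((b * b) * (y⁻¹ * y0)) := by rw [h1]
      _ = (y * (b * b)) * (y⁻¹ * y0) := by group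
      _ = ((b * b) * y) * (y⁻¹ * y0) := by rw [hyc b hb]
      _ = (b * b) * y0 := by group
  have hy0A : ∀ φ ∈ A, φ y0 = y0 := hgfix y0 hy0fix
  have hy0sq : y0 * y0 = 1 := by
    apply hfpf _ (hYsq y0 hy0c)
    intro φ hφ
    rw [map_mul, hy0A φ hφ]
  -- conjugates of `y0`
  have hconj : ∀ x : X, ∃ k ∈ B, k * k = 1 ∧ x * y0 * x⁻¹ = y0 * k := by
    intro x
    have hkB : y0⁻¹ * (x * y0 * x⁻¹) ∈ B := by
      apply hsc
      intro b hb
      obtain ⟨b', hb', hbb'⟩ : ∃ b' ∈ B, x * b' * x⁻¹ = b :=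
        ⟨x⁻¹ * b * x, by have := hBn.conj_mem b hb x⁻¹; rwa [inv_inv] at this, by group⟩
      obtain ⟨v, hv, hvv, e1⟩ := conj_eq_mul B hBn hBa y0 hy0c b' hb'
      obtain ⟨d, hd, e2⟩ := hmod x b' hb'
      have e3 : x * v * x⁻¹ = v := hVc x v hv hvv
      have e4 : y0 * (d * d) * y0⁻¹ = d * d := by rw [hy0c d hd]; group
      have hvd : v * (d * d) = (d * d) * v := hBa v hv _ (B.mul_mem hd hd)
      have hbd : b = b' * (d * d) := by rw [← e2, hbb']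
      have key1 : x * (y0 * b' * y0⁻¹) * x⁻¹ = b * v := by
        calc x * (y0 * b' * y0⁻¹) * x⁻¹ = x * (b' * v) * x⁻¹ := by rw [e1]
          _ = (x * b' * x⁻¹) * (x * v * x⁻¹) := by group
          _ = b * v := by rw [hbb', e3]
      have key2 : y0 * b * y0⁻¹ = b * v := by
        calc y0 * b * y0⁻¹ = y0 * (b' * (d * d)) * y0⁻¹ := by rw [hbd]
          _ = (y0 * b' * y0⁻¹) * (y0 * (d * d) * y0⁻¹) := by group
          _ = b' * v * (d * d) := by rw [e1, e4]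
          _ = b' * (v * (d * d)) := mul_assoc _ _ _
          _ = b' * ((d * d) * v) := by rw [hvd]
          _ = (b' * (d * d)) * v := (mul_assoc _ _ _).symm
          _ = b * v := by rw [hbd]
      calc y0⁻¹ * (x * y0 * x⁻¹) * b = y0⁻¹ * (x * y0 * x⁻¹) * (x * b' * x⁻¹) := by rw [hbb']
        _ = y0⁻¹ * (x * (y0 * b' * y0⁻¹) * x⁻¹) * (x * y0 * x⁻¹) := by group
        _ = y0⁻¹ * (y0 * b * y0⁻¹) * (x * y0 * x⁻¹) := by rw [key1, key2]
        _ = b * (y0⁻¹ * (x * y0 * x⁻¹)) := by group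
    obtain ⟨k, hkdef⟩ : ∃ k, k = y0⁻¹ * (x * y0 * x⁻¹) := ⟨_, rfl⟩
    rw [← hkdef] at hkB
    have hxk : x * y0 * x⁻¹ = y0 * k := by rw [hkdef]; group
    have hsq : (y0 * k) * (y0 * k) = 1 := by
      rw [← hxk]
      calc x * y0 * x⁻¹ * (x * y0 * x⁻¹) = x * (y0 * y0) * x⁻¹ := by group
        _ = 1 := by rw [hy0sq]; group
    obtain ⟨v, hv, hvv, e1⟩ := conj_eq_mul B hBn hBa y0 hy0c k hkB
    have hyi : y0⁻¹ = y0 := inv_eq_of_mul_eq_one_left hy0sq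
    have h2 : k * k * v = 1 := by
      have hkv : k * v = v * k := hBa k hkB v hv
      calc k * k * v = k * (k * v) := mul_assoc _ _ _
        _ = k * (v * k) := by rw [hkv]
        _ = (k * v) * k := (mul_assoc _ _ _).symm
        _ = (y0 * k * y0⁻¹) * k := by rw [e1]
        _ = (y0 * k) * (y0 * k) := by rw [hyi, mul_assoc]
        _ = 1 := hsq
    have hkk : k * k = v := by
      calc k * k = k * k * (v * v) := by rw [hvv, mul_one]
        _ = (k * k * v) * v := (mul_assoc _ _ _).symm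
        _ = v := by rw [h2, one_mul]
    have hk4 : k ^ 4 = 1 := by
      calc k ^ 4 = (k * k) * (k * k) := by rw [show 4 = 2 + 2 from rfl, pow_add, pow_two]
        _ = 1 := by rw [hkk, hvv]
    obtain ⟨e, he, hke⟩ := hsq4 k hkB hk4
    have h3 : y0 * k * y0⁻¹ = k := by
      rw [hke, hy0c e he]; group
    have hv1 : v = 1 := by
      have : k * v = k * 1 := by rw [← e1, h3, mul_one]
      exact mul_left_cancel this
    exact ⟨k, hkB, by rw [hkk, hv1], hxk⟩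
  -- the normal abelian subgroup `V ∪ y0 V`
  obtain ⟨E, hEn, hEab, hEmem, hEsq⟩ := exists_E B y0 hy0sq hVc hconj
  have h4 := h.hR E hEn hEab
  let f : {z : X // z ∈ B ∧ z * z = 1} ⊕ {z : X // z ∈ B ∧ z * z = 1} →
      {t : X // t ∈ E ∧ t * t = 1} :=
    Sum.elim (fun z => ⟨z.1, (hEmem z.1 z.2.1 z.2.2).1, z.2.2⟩)
      (fun z => ⟨y0 * z.1, (hEmem z.1 z.2.1 z.2.2).2, hEsq _ (hEmem z.1 z.2.1 z.2.2).2⟩)
  have hf : Function.Injective f := by
    rintro (z1 | z1) (z2 | z2) h12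
    · have h12' : (f (Sum.inl z1)).1 = (f (Sum.inl z2)).1 := by rw [h12]
      have : z1.1 = z2.1 := h12'
      exact congrArg Sum.inl (Subtype.ext this)
    · exfalso
      have h12' : (f (Sum.inl z1)).1 = (f (Sum.inr z2)).1 := by rw [h12]
      have : z1.1 = y0 * z2.1 := h12'
      apply hy0B
      have h5 : y0 = z1.1 * (z2.1)⁻¹ := by rw [this]; group
      rw [h5]; exact B.mul_mem z1.2.1 (B.inv_mem z2.2.1)
    · exfalso
      have h12' : (f (Sum.inr z1)).1 = (f (Sum.inl z2)).1 := by rw [h12]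
      have : y0 * z1.1 = z2.1 := h12'
      apply hy0B
      have h5 : y0 = z2.1 * (z1.1)⁻¹ := by rw [← this]; group
      rw [h5]; exact B.mul_mem z2.2.1 (B.inv_mem z1.2.1)
    · have h12' : (f (Sum.inr z1)).1 = (f (Sum.inr z2)).1 := by rw [h12]
      have : y0 * z1.1 = y0 * z2.1 := h12'
      exact congrArg Sum.inr (Subtype.ext (mul_left_cancel this))
  have hle := Nat.card_le_card_of_injective f hf
  rw [Nat.card_sum] at hle
  have hV1 : Nat.card {z : X // z ∈ B ∧ z * z = 1} ≡ 1 [MOD 3] := by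
    have hfixV : Nat.card {s : X // s ∈ {z : X | z ∈ B ∧ z * z = 1} ∧ g s = s} = 1 :=
      card_fixed_eq_one g {z : X | z ∈ B ∧ z * z = 1} ⟨B.one_mem, mul_one 1⟩ (map_one g)
        (fun s hs hgs => hfpf s hs.1 (hgfix s hgs))
    have := card_modEq_fixed g {z : X | z ∈ B ∧ z * z = 1}
      (fun s hs => ⟨hBi g hgA s hs.1, by rw [← map_mul, hs.2, map_one]⟩) (fun s _ => hg3 s)
    rw [hfixV] at this
    exact this
  have hV2 : 1 < Nat.card {z : X // z ∈ B ∧ z * z = 1} := by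
    obtain ⟨b, hb, hbne⟩ := hc'
    have hz0 : b ^ (2 ^ (c - 1)) * b ^ (2 ^ (c - 1)) = 1 := by
      rw [← pow_add, ← two_mul, ← pow_succ', show c - 1 + 1 = c by omega]
      exact hc b hb
    haveI : Nontrivial {z : X // z ∈ B ∧ z * z = 1} :=
      ⟨⟨⟨b ^ (2 ^ (c - 1)), B.pow_mem hb _, hz0⟩, ⟨1, B.one_mem, mul_one 1⟩,
        fun hh => hbne (congrArg Subtype.val hh)⟩⟩
    exact Finite.one_lt_card
  have hV1' : Nat.card {z : X // z ∈ B ∧ z * z = 1} % 3 = 1 % 3 := hV1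
  omega

end Cfsg.Agent.Lib.Helper60.T1904
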