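import Mathlib
import Cfsg.Agent.S3276
import Cfsg.Agent.Lib.Helper06.SylowAux
import Cfsg.Agent.Lib.Helper60.SylowConj

/-!
# Simple groups with an involution centralizing at most three involutions

Glue over `S3276` and Glauberman's `Z*`-theorem (taken as a hypothesis `ZS`).
-/

set_option autoImplicit false

namespace Cfsg.Agent.Lib.Helper60.ThreeInvolutions

variable {G : Type*} [Group G]

theorem orderOf_conj_eq (g a : G) : orderOf (g * a * g⁻¹) = orderOf a := by
  rw [← MulAut.conj_apply, MulEquiv.orderOf_eq]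

theorem commute_conj_conj_iff (g a b : G) :
    Commute (g * a * g⁻¹) (g * b * g⁻¹) ↔ Commute a b := by
  constructor
  · intro h
    have h1 : g * a * g⁻¹ * (g * b * g⁻¹) = g * b * g⁻¹ * (g * a * g⁻¹) := h.eq
    have h2 : g * (a * b) * g⁻¹ = g * (b * a) * g⁻¹ := by
      calc g * (a * b) * g⁻¹ = g * a * g⁻¹ * (g * b * g⁻¹) := by group
        _ = g * b * g⁻¹ * (g * a * g⁻¹) := h1
        _ = g * (b * a) * g⁻¹ := by group
    exact mul_left_cancel (mul_right_cancel h2)
  · intro h
    have h1 : a * b = b * a := h.eq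
    show g * a * g⁻¹ * (g * b * g⁻¹) = g * b * g⁻¹ * (g * a * g⁻¹)
    calc g * a * g⁻¹ * (g * b * g⁻¹) = g * (a * b) * g⁻¹ := by group
      _ = g * (b * a) * g⁻¹ := by rw [h1]
      _ = g * b * g⁻¹ * (g * a * g⁻¹) := by group

/-- `g a g⁻¹` commutes with `g b g⁻¹`-form: moving the conjugation to the other side -/
theorem commute_conj_left_iff (g a b : G) :
    Commute (g * a * g⁻¹) b ↔ Commute a (g⁻¹ * b * g) := by
  have h := commute_conj_conj_iff g a (g⁻¹ * b * g)
  have h2 : g * (g⁻¹ * b * g) * g⁻¹ = b := by group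
  rw [h2] at h
  exact h

theorem mul_self_of_orderOf_two {a : G} (ha : orderOf a = 2) : a * a = 1 := by
  rw [← pow_two, ← ha]; exact pow_orderOf_eq_one a

theorem ne_one_of_orderOf_two {a : G} (ha : orderOf a = 2) : a ≠ 1 := by
  rintro rfl; simp at ha

theorem inv_of_orderOf_two {a : G} (ha : orderOf a = 2) : a⁻¹ = a :=
  inv_eq_of_mul_eq_one_left (mul_self_of_orderOf_two ha)

/-- the product of two distinct commuting involutions is an involution -/
theorem orderOf_mul_of_commute {a b : G} (ha : orderOf a = 2) (hb : orderOf b = 2)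
    (hab : Commute a b) (hne : a ≠ b) : orderOf (a * b) = 2 := by
  apply orderOf_eq_prime
  · rw [pow_two]
    calc a * b * (a * b) = a * (b * a) * b := by group
      _ = a * (a * b) * b := by rw [hab.eq]
      _ = (a * a) * (b * b) := by group
      _ = 1 := by rw [mul_self_of_orderOf_two ha, mul_self_of_orderOf_two hb, one_mul]
  · intro h
    apply hne
    have : a = b⁻¹ := eq_inv_of_mul_eq_one_left h
    rw [this, inv_of_orderOf_two hb]

/-- four pairwise distinct involutions cannot all commute with `x` -/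
theorem four_false [Finite G] {x : G}
    (h3 : Nat.card {u : ↥(Subgroup.centralizer ({x} : Set G)) // orderOf u = 2} ≤ 3)
    {a b c d : G} (ha : orderOf a = 2) (hb : orderOf b = 2) (hc : orderOf c = 2)
    (hd : orderOf d = 2) (hax : Commute a x) (hbx : Commute b x) (hcx : Commute c x)
    (hdx : Commute d x) (hab : a ≠ b) (hac : a ≠ c) (had : a ≠ d) (hbc : b ≠ c) (hbd : b ≠ d)
    (hcd : c ≠ d) : False := by
  have hmem : ∀ {w : G}, Commute w x → w ∈ Subgroup.centralizer ({x} : Set G) := by
    intro w hw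
    rw [Subgroup.mem_centralizer_iff]
    intro h hh
    rw [Set.mem_singleton_iff.1 hh]
    exact hw.eq.symm
  let mk : ∀ (w : G), orderOf w = 2 → Commute w x →
      {u : ↥(Subgroup.centralizer ({x} : Set G)) // orderOf u = 2} :=
    fun w hw hwx => ⟨⟨w, hmem hwx⟩, by rw [Subgroup.orderOf_mk]; exact hw⟩
  let f : Fin 4 → {u : ↥(Subgroup.centralizer ({x} : Set G)) // orderOf u = 2} :=
    ![mk a ha hax, mk b hb hbx, mk c hc hcx, mk d hd hdx]
  have hval : ∀ i, ((f i : ↥(Subgroup.centralizer ({x} : Set G))) : G) = ![a, b, c, d] i := by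
    intro i; fin_cases i <;> rfl
  have hinj : Function.Injective f := by
    intro i j hij
    have h1 : ![a, b, c, d] i = ![a, b, c, d] j := by rw [← hval, ← hval, hij]
    fin_cases i <;> fin_cases j <;> simp_all
  have := Nat.card_le_card_of_injective f hinj
  rw [Nat.card_fin] at this
  omega

/-- if `a, b, c` are three distinct involutions commuting with `x`, every involution commuting
with `x` is one of them -/
theorem mem_three [Finite G] {x : G}
    (h3 : Nat.card {u : ↥(Subgroup.centralizer ({x} : Set G)) // orderOf u = 2} ≤ 3)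
    {a b c : G} (ha : orderOf a = 2) (hb : orderOf b = 2) (hc : orderOf c = 2)
    (hax : Commute a x) (hbx : Commute b x) (hcx : Commute c x)
    (hab : a ≠ b) (hac : a ≠ c) (hbc : b ≠ c) {u : G} (hu : orderOf u = 2) (hux : Commute u x) :
    u = a ∨ u = b ∨ u = c := by
  by_contra h
  push Not at h
  exact four_false h3 hu ha hb hc hux hax hbx hcx h.1 h.2.1 h.2.2 hab hac hbc

/-- a nontrivial `2`-subgroup has a central involution -/
theorem exists_central_involution [Finite G] (S : Subgroup G) (hS : IsPGroup 2 S) {a : G}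
    (haS : a ∈ S) (ha : a ≠ 1) : ∃ z ∈ S, orderOf z = 2 ∧ ∀ s ∈ S, s * z = z * s := by
  haveI : Fact (Nat.Prime 2) := ⟨Nat.prime_two⟩
  haveI : Nontrivial S := by
    refine ⟨⟨⟨a, haS⟩, 1, ?_⟩⟩
    intro h
    exact ha (congrArg Subtype.val h)
  haveI : Nontrivial (Subgroup.center S) := hS.center_nontrivial
  have h2 : 2 ∣ Nat.card (Subgroup.center S) := by
    obtain ⟨n, hn⟩ := (hS.to_subgroup (Subgroup.center S)).exists_card_eq
    rw [hn]
    have : n ≠ 0 := by
      rintro rfl
      have h1 : Nat.card (Subgroup.center S) = 1 := by simpa using hn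
      have := Finite.one_lt_card (α := Subgroup.center S)
      omega
    exact dvd_pow_self 2 this
  obtain ⟨w, hw⟩ := exists_prime_orderOf_dvd_card' 2 h2
  refine ⟨((w : S) : G), (w : S).2, ?_, ?_⟩
  · rw [Subgroup.orderOf_coe, Subgroup.orderOf_coe]; exact hw
  · intro s hs
    have := congrArg Subtype.val (Subgroup.mem_center_iff.mp w.2 ⟨s, hs⟩)
    simpa using this

/-- in a simple group the normal closure of a nontrivial element is everything -/
theorem normalClosure_eq_top [IsSimpleGroup G] {y : G} (hy : y ≠ 1) :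
    Subgroup.normalClosure ({y} : Set G) = ⊤ := by
  rcases (Subgroup.normalClosure_normal (s := ({y} : Set G))).eq_bot_or_eq_top with h | h
  · exfalso
    apply hy
    have : y ∈ Subgroup.normalClosure ({y} : Set G) :=
      Subgroup.subset_normalClosure (Set.mem_singleton y)
    rw [h] at this
    exact Subgroup.mem_bot.1 this
  · exact h

/-- `S3276`, with the conclusion contradicting simplicity -/
theorem false_of_S3276 [Finite G] [IsSimpleGroup G] (x y : G) (hx : orderOf x = 2)
    (hy : orderOf y = 2) (hxy : Commute x y) (hnc : ¬ IsConj x y)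
    (hstar : ∀ u : G, orderOf u = 2 → Commute u x → ∀ g : G, Commute (g * y * g⁻¹) u →
      Commute (g * y * g⁻¹) y) : False :=
  (Cfsg.Agent.S3276.result x y hx hy hxy hnc hstar).1
    (normalClosure_eq_top (ne_one_of_orderOf_two hy))

theorem isConj_conj (g a : G) : IsConj a (g * a * g⁻¹) := isConj_iff.2 ⟨g, rfl⟩

theorem commute_conj_right_iff (g a b : G) :
    Commute a (g * b * g⁻¹) ↔ Commute (g⁻¹ * a * g) b := by
  have h := commute_conj_conj_iff g (g⁻¹ * a * g) b
  have h2 : g * (g⁻¹ * a * g) * g⁻¹ = a := by group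
  rw [h2] at h
  exact h

/-- **Part 1.** Some Sylow 2-subgroup containing `x` centralizes `x`. -/
theorem exists_sylow_centralizing [Finite G] [IsSimpleGroup G] (x : G) (hx : orderOf x = 2)
    (h3 : Nat.card {u : ↥(Subgroup.centralizer ({x} : Set G)) // orderOf u = 2} ≤ 3) :
    ∃ S : Sylow 2 G, x ∈ S ∧ ∀ s ∈ S, Commute s x := by
  haveI : Fact (Nat.Prime 2) := ⟨Nat.prime_two⟩
  have hxp : IsPGroup 2 (Subgroup.zpowers x) := by
    apply IsPGroup.of_card (n := 1)
    rw [Nat.card_zpowers, hx, pow_one]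
  obtain ⟨S, hS⟩ := hxp.exists_le_sylow
  have hxS : x ∈ S := hS (Subgroup.mem_zpowers x)
  by_cases hSC : ∀ s ∈ S, Commute s x
  · exact ⟨S, hxS, hSC⟩
  push Not at hSC
  have hmemC : ∀ w : G, w ∈ Subgroup.centralizer ({x} : Set G) ↔ Commute w x := by
    intro w
    rw [Subgroup.mem_centralizer_iff]
    constructor
    · intro h; exact (h x (Set.mem_singleton x)).symm
    · intro h y hy; rw [Set.mem_singleton_iff.1 hy]; exact h.eq.symm
  have hlt : (S : Subgroup G) ⊓ Subgroup.centralizer ({x} : Set G) < S := by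
    refine lt_of_le_of_ne inf_le_left ?_
    intro h
    obtain ⟨s, hs, hsx⟩ := hSC
    apply hsx
    rw [← hmemC]
    have : s ∈ (S : Subgroup G) ⊓ Subgroup.centralizer ({x} : Set G) := by rw [h]; exact hs
    exact this.2
  obtain ⟨n, hnS, hnQ, hnN⟩ :=
    Cfsg.Agent.Lib.Helper06.exists_mem_normalizer_not_mem_of_lt S.isPGroup' hlt
  have hnx : ¬ Commute n x := by
    intro h; apply hnQ; exact ⟨hnS, (hmemC n).2 h⟩
  have hxQ : x ∈ (S : Subgroup G) ⊓ Subgroup.centralizer ({x} : Set G) :=
    ⟨hxS, (hmemC x).2 (Commute.refl x)⟩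
  obtain ⟨x', hx'⟩ : ∃ x' : G, x' = n * x * n⁻¹ := ⟨_, rfl⟩
  have hx'Q : x' ∈ (S : Subgroup G) ⊓ Subgroup.centralizer ({x} : Set G) := by
    rw [hx']; exact (Subgroup.mem_normalizer_iff.1 hnN x).1 hxQ
  have hx'x : Commute x' x := (hmemC x').1 hx'Q.2
  have hx'2 : orderOf x' = 2 := by rw [hx', orderOf_conj_eq]; exact hx
  have hx'ne : x' ≠ x := by
    intro h
    apply hnx
    show n * x = x * n
    calc n * x = n * x * n⁻¹ * n := by group
      _ = x * n := by rw [← hx', h]
  obtain ⟨x'', hx''⟩ : ∃ x'' : G, x'' = x * x' := ⟨_, rfl⟩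
  have hx''2 : orderOf x'' = 2 := by
    rw [hx'']; exact orderOf_mul_of_commute hx hx'2 hx'x.symm (Ne.symm hx'ne)
  have hx''x : Commute x'' x := by rw [hx'']; exact (Commute.refl x).mul_left hx'x
  have hxx'' : x ≠ x'' := by
    intro h
    apply ne_one_of_orderOf_two hx'2
    have : x * 1 = x * x' := by rw [mul_one, ← hx'', ← h]
    exact (mul_left_cancel this).symm
  have hx'x'' : x' ≠ x'' := by
    intro h
    apply ne_one_of_orderOf_two hx
    have : 1 * x' = x * x' := by rw [one_mul, ← hx'', ← h]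
    exact (mul_right_cancel this).symm
  have three : ∀ {w : G}, orderOf w = 2 → Commute w x → w = x ∨ w = x' ∨ w = x'' :=
    fun hw hwx => mem_three h3 hx hx'2 hx''2 (Commute.refl x) hx'x hx''x (Ne.symm hx'ne) hxx''
      hx'x'' hw hwx
  obtain ⟨z, hzS, hz2, hzc⟩ :=
    exists_central_involution S S.isPGroup' hxS (ne_one_of_orderOf_two hx)
  have hzx : Commute z x := (hzc x hxS).symm
  rcases three hz2 hzx with hz | hz | hz
  · -- `z = x`
    exfalso
    obtain ⟨s, hs, hsx⟩ := hSC
    apply hsx
    have := hzc s hs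
    rw [hz] at this
    exact this
  · -- `z = x'`
    exfalso
    apply hx'ne
    have h1 : n * x' = x' * n := by have := hzc n hnS; rw [hz] at this; exact this
    calc x' = n⁻¹ * (n * x') := by group
      _ = n⁻¹ * (x' * n) := by rw [h1]
      _ = n⁻¹ * (n * x * n⁻¹ * n) := by rw [hx']
      _ = x := by group
  · -- `z = x''`
    by_cases hconj : IsConj x z
    · obtain ⟨g, hg⟩ := isConj_iff.1 hconj
      refine ⟨g⁻¹ • S, ?_, ?_⟩
      · change x ∈ ((g⁻¹ • S : Sylow 2 G) : Subgroup G)
        rw [Cfsg.Agent.Lib.Helper60.mem_smul_sylow_iff, inv_inv, hg]; exact hzS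
      · intro s hs
        change s ∈ ((g⁻¹ • S : Sylow 2 G) : Subgroup G) at hs
        rw [Cfsg.Agent.Lib.Helper60.mem_smul_sylow_iff, inv_inv] at hs
        have h1 : Commute (g * s * g⁻¹) (g * x * g⁻¹) := by rw [hg]; exact hzc _ hs
        exact (commute_conj_conj_iff g s x).1 h1
    · exfalso
      apply false_of_S3276 x z hx hz2 hzx.symm hconj
      intro u hu hux g hgu
      have hnotx : ∀ k : G, k * z * k⁻¹ ≠ x := by
        intro k hk; apply hconj; rw [← hk]; exact (isConj_conj k z).symm
      have hnotx' : ∀ k : G, k * z * k⁻¹ ≠ x' := by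
        intro k hk
        apply hnotx (n⁻¹ * k)
        calc n⁻¹ * k * z * (n⁻¹ * k)⁻¹ = n⁻¹ * (k * z * k⁻¹) * n := by group
          _ = n⁻¹ * (n * x * n⁻¹) * n := by rw [hk, hx']
          _ = x := by group
      have hkey : ∀ k : G, Commute (k * z * k⁻¹) x → k * z * k⁻¹ = z := by
        intro k hk
        rcases three (by rw [orderOf_conj_eq]; exact hz2) hk with h | h | h
        · exact absurd h (hnotx k)
        · exact absurd h (hnotx' k)
        · rw [h, hz]
      rcases three hu hux with h | h | h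
      · rw [h] at hgu; rw [hkey g hgu]
      · rw [h, hx'] at hgu
        have h5 : Commute (n⁻¹ * g * z * (n⁻¹ * g)⁻¹) x := by
          have := (commute_conj_right_iff n (g * z * g⁻¹) x).1 hgu
          have e : n⁻¹ * g * z * (n⁻¹ * g)⁻¹ = n⁻¹ * (g * z * g⁻¹) * n := by group
          rw [e]; exact this
        have h6 := hkey (n⁻¹ * g) h5
        have h7 : g * z * g⁻¹ = z := by
          have e : g * z * g⁻¹ = n * (n⁻¹ * g * z * (n⁻¹ * g)⁻¹) * n⁻¹ := by group
          rw [e, h6, hzc n hnS]; group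
        rw [h7]
      · rw [h, ← hz] at hgu; exact hgu

/-- **Part 2.** All involutions are conjugate to `x` (using `Z*` as hypothesis `ZS`). -/
theorem isConj_of_sylow_centralizing [Finite G] [IsSimpleGroup G]
    (ZS : ∀ (P : Sylow 2 G) (u : G), orderOf u = 2 → u ∈ P →
      (∀ g : G, g * u * g⁻¹ ∈ P → g * u * g⁻¹ = u) →
      ∃ N : Subgroup G, N.Normal ∧ Odd (Nat.card N) ∧ ∀ g : G, (u * g * u⁻¹ * g⁻¹) ∈ N)
    (x : G) (hx : orderOf x = 2)
    (h3 : Nat.card {u : ↥(Subgroup.centralizer ({x} : Set G)) // orderOf u = 2} ≤ 3)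
    (S : Sylow 2 G) (hxS : x ∈ S) (hSC : ∀ s ∈ S, Commute s x) (u : G) (hu : orderOf u = 2) :
    IsConj u x := by
  haveI : Fact (Nat.Prime 2) := ⟨Nat.prime_two⟩
  have hup : IsPGroup 2 (Subgroup.zpowers u) := by
    apply IsPGroup.of_card (n := 1)
    rw [Nat.card_zpowers, hu, pow_one]
  obtain ⟨h, -, hh⟩ := Cfsg.Agent.Lib.Helper60.exists_conj_mem_of_sylow_le S ⊤ le_top
    (Subgroup.zpowers u) le_top hup
  obtain ⟨v, hv⟩ : ∃ v : G, v = h * u * h⁻¹ := ⟨_, rfl⟩
  have hvS : v ∈ (S : Subgroup G) := by rw [hv]; exact hh u (Subgroup.mem_zpowers u)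
  have hv2 : orderOf v = 2 := by rw [hv, orderOf_conj_eq]; exact hu
  suffices hsuff : IsConj v x by
    have h1 : IsConj u v := by rw [hv]; exact isConj_conj h u
    exact h1.trans hsuff
  by_contra hvx
  have hvne : v ≠ x := by
    intro h; apply hvx; rw [h]
  have hvc : Commute v x := hSC v hvS
  obtain ⟨y, hy⟩ : ∃ y : G, y = x * v := ⟨_, rfl⟩
  have hy2 : orderOf y = 2 := by
    rw [hy]; exact orderOf_mul_of_commute hx hv2 hvc.symm (Ne.symm hvne)
  have hyc : Commute y x := by rw [hy]; exact (Commute.refl x).mul_left hvc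
  have hxy : x ≠ y := by
    intro h
    apply ne_one_of_orderOf_two hv2
    have : x * 1 = x * v := by rw [mul_one, ← hy, ← h]
    exact (mul_left_cancel this).symm
  have hvy : v ≠ y := by
    intro h
    apply ne_one_of_orderOf_two hx
    have : 1 * v = x * v := by rw [one_mul, ← hy, ← h]
    exact (mul_right_cancel this).symm
  have three : ∀ {w : G}, orderOf w = 2 → Commute w x → w = x ∨ w = v ∨ w = y :=
    fun hw hwx => mem_three h3 hx hv2 hy2 (Commute.refl x) hvc hyc (Ne.symm hvne) hxy hvy hw hwx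
  by_cases hxyc : IsConj x y
  · -- `x ~ y`, `v` not conjugate to `x`: use `S3276` for `(x, v)`
    obtain ⟨k, hk⟩ := isConj_iff.1 hxyc
    apply false_of_S3276 x v hx hv2 hvc.symm (fun h => hvx h.symm)
    intro w hw hwx g hgw
    have hnx : ∀ m : G, m * v * m⁻¹ ≠ x := by
      intro m hm; apply hvx; rw [← hm]; exact isConj_conj m v
    have hny : ∀ m : G, m * v * m⁻¹ ≠ y := by
      intro m hm
      apply hnx (k⁻¹ * m)
      calc k⁻¹ * m * v * (k⁻¹ * m)⁻¹ = k⁻¹ * (m * v * m⁻¹) * k := by group
        _ = k⁻¹ * (k * x * k⁻¹) * k := by rw [hm, hk]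
        _ = x := by group
    have hkey : ∀ m : G, Commute (m * v * m⁻¹) x → m * v * m⁻¹ = v := by
      intro m hm
      rcases three (by rw [orderOf_conj_eq]; exact hv2) hm with h | h | h
      · exact absurd h (hnx m)
      · exact h
      · exact absurd h (hny m)
    have hvyc : Commute v y := by
      show v * y = y * v
      rw [hy, ← mul_assoc, hvc.eq]
    have h8 : k⁻¹ * v * (k⁻¹)⁻¹ = v := by
      apply hkey
      rw [inv_inv]
      apply (commute_conj_right_iff k v x).1
      rw [hk]; exact hvyc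
    have h9 : k * v * k⁻¹ = v := by
      rw [inv_inv] at h8
      calc k * v * k⁻¹ = k * (k⁻¹ * v * k) * k⁻¹ := by rw [h8]
        _ = v := by group
    rcases three hw hwx with h | h | h
    · rw [h] at hgw; rw [hkey g hgw]
    · rw [h] at hgw; exact hgw
    · rw [h, ← hk] at hgw
      have h5 : Commute (k⁻¹ * g * v * (k⁻¹ * g)⁻¹) x := by
        have := (commute_conj_right_iff k (g * v * g⁻¹) x).1 hgw
        have e : k⁻¹ * g * v * (k⁻¹ * g)⁻¹ = k⁻¹ * (g * v * g⁻¹) * k := by group
        rw [e]; exact this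
      have h6 := hkey (k⁻¹ * g) h5
      have h7 : g * v * g⁻¹ = v := by
        have e : g * v * g⁻¹ = k * (k⁻¹ * g * v * (k⁻¹ * g)⁻¹) * k⁻¹ := by group
        rw [e, h6, h9]
      rw [h7]
  · -- `x` is isolated in `S`: use `Z*`
    have hiso : ∀ g : G, g * x * g⁻¹ ∈ S → g * x * g⁻¹ = x := by
      intro g hg
      rcases three (by rw [orderOf_conj_eq]; exact hx) (hSC _ hg) with h | h | h
      · exact h
      · exfalso; apply hvx; rw [← h]; exact (isConj_conj g x).symm
      · exfalso; apply hxyc; rw [← h]; exact isConj_conj g x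
    obtain ⟨N, hN, hNodd, hNc⟩ := ZS S x hx hxS hiso
    rcases hN.eq_bot_or_eq_top with h | h
    · have hcen : ∀ g : G, g * x = x * g := by
        intro g
        have := hNc g
        rw [h, Subgroup.mem_bot] at this
        calc g * x = (x * g * x⁻¹ * g⁻¹)⁻¹ * (x * g) := by group
          _ = x * g := by rw [this, inv_one, one_mul]
      have hZn : (Subgroup.zpowers x).Normal := by
        refine ⟨fun a ha g => ?_⟩
        obtain ⟨i, rfl⟩ := ha
        have : Commute g (x ^ i) := Commute.zpow_right (hcen g) i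
        rw [this.eq, mul_inv_cancel_right]
        exact ⟨i, rfl⟩
      rcases hZn.eq_bot_or_eq_top with h' | h'
      · apply ne_one_of_orderOf_two hx
        have : x ∈ Subgroup.zpowers x := Subgroup.mem_zpowers x
        rw [h'] at this
        exact Subgroup.mem_bot.1 this
      · have : v ∈ Subgroup.zpowers x := by rw [h']; exact Subgroup.mem_top v
        obtain ⟨i, hi⟩ := this
        have hi : x ^ i = v := hi
        have h1 := zpow_mod_orderOf x i
        rw [hx] at h1
        rcases Int.emod_two_eq_zero_or_one i with h2 | h2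
        · apply ne_one_of_orderOf_two hv2
          rw [← hi, ← h1]
          have : i % ((2 : ℕ) : ℤ) = 0 := by exact_mod_cast h2
          rw [this, zpow_zero]
        · apply hvne
          rw [← hi, ← h1]
          have : i % ((2 : ℕ) : ℤ) = 1 := by exact_mod_cast h2
          rw [this, zpow_one]
    · rw [h, Subgroup.card_top] at hNodd
      have h2 : 2 ∣ Nat.card G := by rw [← hx]; exact orderOf_dvd_natCard x
      rw [← Nat.not_even_iff_odd, even_iff_two_dvd] at hNodd
      exact hNodd h2

/-- **`S3279` modulo `Z*`.** -/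
theorem main [Finite G] [IsSimpleGroup G]
    (ZS : ∀ (P : Sylow 2 G) (u : G), orderOf u = 2 → u ∈ P →
      (∀ g : G, g * u * g⁻¹ ∈ P → g * u * g⁻¹ = u) →
      ∃ N : Subgroup G, N.Normal ∧ Odd (Nat.card N) ∧ ∀ g : G, (u * g * u⁻¹ * g⁻¹) ∈ N)
    (x : G) (hx : orderOf x = 2)
    (h3 : Nat.card {u : ↥(Subgroup.centralizer ({x} : Set G)) // orderOf u = 2} ≤ 3) :
    (∃ S : Sylow 2 G, (S : Subgroup G) ≤ Subgroup.centralizer ({x} : Set G)) ∧
      ∀ u v : G, orderOf u = 2 → orderOf v = 2 → IsConj u v := by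
  obtain ⟨S, hxS, hSC⟩ := exists_sylow_centralizing x hx h3
  refine ⟨⟨S, ?_⟩, ?_⟩
  · intro s hs
    rw [Subgroup.mem_centralizer_iff]
    intro y hy
    rw [Set.mem_singleton_iff.1 hy]
    exact (hSC s hs).eq.symm
  · intro u v hu hv
    exact (isConj_of_sylow_centralizing ZS x hx h3 S hxS hSC u hu).trans
      (isConj_of_sylow_centralizing ZS x hx h3 S hxS hSC v hv).symm

end Cfsg.Agent.Lib.Helper60.ThreeInvolutions
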