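import Mathlib
import Cfsg.Prelude.Def_RootSubgroups

/-!
# Families of subgroups of `GL(M)` that pairwise generate unipotent subgroups

A Baer--Suzuki type theorem for linear groups, proved with the Alperin--Lyons argument,
phrased inside a fixed finite-dimensional space `M` (relative to an invariant subspace `X`).
-/

set_option autoImplicit false

namespace Cfsg.Agent.Lib.Helper60.UP

variable {k : Type*} [Field k] {M : Type*} [AddCommGroup M] [Module k M]

/-- the action of an element of `GL(M)` on a vector -/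
def act (g : LinearMap.GeneralLinearGroup k M) (m : M) : M := (g : M →ₗ[k] M) m

theorem act_one (m : M) : act (1 : LinearMap.GeneralLinearGroup k M) m = m := by simp [act]

theorem act_mul (g h : LinearMap.GeneralLinearGroup k M) (m : M) :
    act (g * h) m = act g (act h m) := by simp [act]

theorem act_inv_act (g : LinearMap.GeneralLinearGroup k M) (m : M) : act g⁻¹ (act g m) = m := by
  rw [← act_mul, inv_mul_cancel, act_one]

theorem act_act_inv (g : LinearMap.GeneralLinearGroup k M) (m : M) : act g (act g⁻¹ m) = m := by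
  rw [← act_mul, mul_inv_cancel, act_one]

theorem act_add (g : LinearMap.GeneralLinearGroup k M) (m m' : M) :
    act g (m + m') = act g m + act g m' := by simp [act]

theorem act_sub (g : LinearMap.GeneralLinearGroup k M) (m m' : M) :
    act g (m - m') = act g m - act g m' := by simp [act]

theorem act_zero (g : LinearMap.GeneralLinearGroup k M) : act g (0 : M) = 0 := by simp [act]

theorem act_smul (g : LinearMap.GeneralLinearGroup k M) (c : k) (m : M) :
    act g (c • m) = c • act g m := by simp [act]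

theorem sub_one_apply (g : LinearMap.GeneralLinearGroup k M) (v : M) :
    ((g : M →ₗ[k] M) - 1) v = act g v - v := by simp [act]

theorem act_conj_sub (g a : LinearMap.GeneralLinearGroup k M) (m : M) :
    act (g * a * g⁻¹) m - m = act g (act a (act g⁻¹ m) - act g⁻¹ m) := by
  rw [act_sub, act_act_inv, act_mul, act_mul]

theorem conj_mem_conjBy {A : Subgroup (LinearMap.GeneralLinearGroup k M)}
    {a : LinearMap.GeneralLinearGroup k M} (ha : a ∈ A) (g : LinearMap.GeneralLinearGroup k M) :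
    g * a * g⁻¹ ∈ Cfsg.conjBy A g :=
  Subgroup.mem_map.mpr ⟨a, ha, rfl⟩

/-- `A` acts trivially on `Y` modulo `X` -/
def TrivOn (A : Subgroup (LinearMap.GeneralLinearGroup k M)) (Y X : Submodule k M) : Prop :=
  ∀ a ∈ A, ∀ m ∈ Y, act a m - m ∈ X

theorem TrivOn.mono {A : Subgroup (LinearMap.GeneralLinearGroup k M)} {Y X X' : Submodule k M}
    (h : TrivOn A Y X) (hX : X ≤ X') : TrivOn A Y X' := fun a ha m hm => hX (h a ha m hm)

theorem TrivOn.anti {A : Subgroup (LinearMap.GeneralLinearGroup k M)} {Y Y' X : Submodule k M}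
    (h : TrivOn A Y X) (hY : Y' ≤ Y) : TrivOn A Y' X := fun a ha m hm => h a ha m (hY hm)

/-- the vectors fixed modulo `X` by all members of the family `V` -/
def FixMod (V : Set (Subgroup (LinearMap.GeneralLinearGroup k M))) (X : Submodule k M) :
    Submodule k M where
  carrier := {m | ∀ A ∈ V, ∀ a ∈ A, act a m - m ∈ X}
  add_mem' := by
    intro x y hx hy A hA a ha
    have := X.add_mem (hx A hA a ha) (hy A hA a ha)
    rwa [act_add, add_sub_add_comm]
  zero_mem' := by
    intro A hA a ha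
    simp [act_zero]
  smul_mem' := by
    intro c x hx A hA a ha
    show act a (c • x) - c • x ∈ X
    rw [act_smul, ← smul_sub]
    exact X.smul_mem c (hx A hA a ha)

theorem mem_FixMod {V : Set (Subgroup (LinearMap.GeneralLinearGroup k M))} {X : Submodule k M}
    {m : M} : m ∈ FixMod V X ↔ ∀ A ∈ V, ∀ a ∈ A, act a m - m ∈ X := Iff.rfl

/-- `X` is invariant under all members of `V` -/
def Inv (V : Set (Subgroup (LinearMap.GeneralLinearGroup k M))) (X : Submodule k M) : Prop :=
  ∀ A ∈ V, ∀ a ∈ A, ∀ x ∈ X, act a x ∈ X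

/-- `V` is closed under conjugation by elements of its members -/
def SelfInv (V : Set (Subgroup (LinearMap.GeneralLinearGroup k M))) : Prop :=
  ∀ A ∈ V, ∀ B ∈ V, ∀ b ∈ B, Cfsg.conjBy A b ∈ V

theorem le_FixMod {V : Set (Subgroup (LinearMap.GeneralLinearGroup k M))} {X : Submodule k M}
    (hI : Inv V X) : X ≤ FixMod V X := by
  intro x hx A hA a ha
  exact X.sub_mem (hI A hA a ha x hx) hx

theorem FixMod_anti {V V' : Set (Subgroup (LinearMap.GeneralLinearGroup k M))}
    (X : Submodule k M) (h : V' ⊆ V) : FixMod V X ≤ FixMod V' X :=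
  fun _ hm A hA a ha => hm A (h hA) a ha

theorem Inv_FixMod {V : Set (Subgroup (LinearMap.GeneralLinearGroup k M))} {X : Submodule k M}
    (hS : SelfInv V) (hI : Inv V X) : Inv V (FixMod V X) := by
  intro B hB b hb m hm A hA a ha
  -- `a (b m) - b m = b ((b⁻¹ a b) m - m)`
  have h1 : b⁻¹ * a * b⁻¹⁻¹ ∈ Cfsg.conjBy A b⁻¹ := conj_mem_conjBy ha b⁻¹
  have h2 : Cfsg.conjBy A b⁻¹ ∈ V := hS A hA B hB b⁻¹ (B.inv_mem hb)
  have h3 := hm _ h2 _ h1
  have h4 := hI B hB b hb _ h3
  have h5 : act b (act (b⁻¹ * a * b⁻¹⁻¹) m - m) = act a (act b m) - act b m := by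
    rw [act_sub, ← act_mul, inv_inv]
    congr 1
    rw [← act_mul]
    congr 1
    group
  rwa [h5] at h4

/-- the product of the endomorphisms `g - 1` over a list -/
def prodOf (l : List (LinearMap.GeneralLinearGroup k M)) : M →ₗ[k] M :=
  (l.map (fun g : LinearMap.GeneralLinearGroup k M => (g : M →ₗ[k] M) - 1)).prod

theorem prodOf_nil : prodOf ([] : List (LinearMap.GeneralLinearGroup k M)) = 1 := rfl

theorem prodOf_cons (g : LinearMap.GeneralLinearGroup k M)
    (l : List (LinearMap.GeneralLinearGroup k M)) :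
    prodOf (g :: l) = ((g : M →ₗ[k] M) - 1) * prodOf l := by
  unfold prodOf
  rw [List.map_cons, List.prod_cons]

theorem prodOf_cons_apply (g : LinearMap.GeneralLinearGroup k M)
    (l : List (LinearMap.GeneralLinearGroup k M)) (m : M) :
    prodOf (g :: l) m = act g (prodOf l m) - prodOf l m := by
  rw [prodOf_cons, Module.End.mul_apply, sub_one_apply]

theorem isUnipotentOn_iff (H : Subgroup (LinearMap.GeneralLinearGroup k M)) :
    Cfsg.IsUnipotentOn H ↔ ∃ n : ℕ, ∀ l : List (LinearMap.GeneralLinearGroup k M),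
      (∀ g ∈ l, g ∈ H) → l.length = n → prodOf l = 0 := by
  have key : ∀ l : List (LinearMap.GeneralLinearGroup k M),
      (List.map (fun g : M →ₗ[k] M => g - 1)
        (do let a ← l; pure (a : M →ₗ[k] M))).prod = prodOf l := by
    intro l
    unfold prodOf
    congr 1
    induction l with
    | nil => rfl
    | cons a l ih => simpa using ih
  unfold Cfsg.IsUnipotentOn
  simp only [key]

/-- a unipotent group has a fixed vector in each invariant section -/
theorem unip_fixed {H : Subgroup (LinearMap.GeneralLinearGroup k M)} (hH : Cfsg.IsUnipotentOn H)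
    {X Y : Submodule k M} (hY : ∀ h ∈ H, ∀ y ∈ Y, act h y ∈ Y) (hXY : X ≤ Y) (hne : X ≠ Y) :
    ∃ m ∈ Y, m ∉ X ∧ ∀ h ∈ H, act h m - m ∈ X := by
  by_contra hcon
  push Not at hcon
  obtain ⟨n, hn⟩ := (isUnipotentOn_iff H).mp hH
  have key : ∀ j : ℕ, ∃ l : List (LinearMap.GeneralLinearGroup k M), (∀ g ∈ l, g ∈ H) ∧
      l.length = j ∧ ∃ m ∈ Y, prodOf l m ∈ Y ∧ prodOf l m ∉ X := by
    intro j
    induction j with
    | zero =>
      obtain ⟨m, hmY, hmX⟩ := SetLike.exists_of_lt (lt_of_le_of_ne hXY hne)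
      exact ⟨[], by simp, rfl, m, hmY, by simpa [prodOf_nil] using hmY,
        by simpa [prodOf_nil] using hmX⟩
    | succ j ih =>
      obtain ⟨l, hl, hlen, m, hmY, hvY, hvX⟩ := ih
      obtain ⟨h, hh, hhv⟩ := hcon _ hvY hvX
      refine ⟨h :: l, ?_, by simp [hlen], m, hmY, ?_, ?_⟩
      · intro g hg
        rcases List.mem_cons.mp hg with rfl | hg
        · exact hh
        · exact hl g hg
      · rw [prodOf_cons_apply]
        exact Y.sub_mem (hY h hh _ hvY) hvY
      · rw [prodOf_cons_apply]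
        exact hhv
  obtain ⟨l, hl, hlen, m, hmY, hvY, hvX⟩ := key n
  rw [hn l hl hlen] at hvX
  exact hvX (by simp)

/-- the stabilizer of a subspace, as a subgroup -/
def stabSub (L : Submodule k M) : Subgroup (LinearMap.GeneralLinearGroup k M) where
  carrier := {g | (∀ l ∈ L, act g l ∈ L) ∧ (∀ l ∈ L, act g⁻¹ l ∈ L)}
  mul_mem' := by
    intro g h hg hh
    refine ⟨fun l hl => ?_, fun l hl => ?_⟩
    · rw [act_mul]; exact hg.1 _ (hh.1 _ hl)
    · rw [mul_inv_rev, act_mul]; exact hh.2 _ (hg.2 _ hl)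
  one_mem' := by
    refine ⟨fun l hl => ?_, fun l hl => ?_⟩
    · rw [act_one]; exact hl
    · rw [inv_one, act_one]; exact hl
  inv_mem' := by
    intro g hg
    refine ⟨hg.2, fun l hl => ?_⟩
    rw [inv_inv]; exact hg.1 l hl

/-- the elements acting trivially on `Y` modulo `X`, as a subgroup -/
def trivSub (Y X : Submodule k M) (hXY : X ≤ Y) : Subgroup (LinearMap.GeneralLinearGroup k M) where
  carrier := {g | (∀ m ∈ Y, act g m - m ∈ X) ∧ (∀ m ∈ Y, act g⁻¹ m - m ∈ X)}
  mul_mem' := by
    intro g h hg hh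
    have hgX : ∀ x ∈ X, act g x ∈ X := fun x hx => by
      have := X.add_mem (hg.1 x (hXY hx)) hx
      rwa [sub_add_cancel] at this
    have hhX : ∀ x ∈ X, act h⁻¹ x ∈ X := fun x hx => by
      have := X.add_mem (hh.2 x (hXY hx)) hx
      rwa [sub_add_cancel] at this
    refine ⟨fun m hm => ?_, fun m hm => ?_⟩
    · have h1 : act (g * h) m - m = act g (act h m - m) + (act g m - m) := by
        rw [act_mul, act_sub]; abel
      rw [h1]
      exact X.add_mem (hgX _ (hh.1 m hm)) (hg.1 m hm)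
    · have h1 : act (g * h)⁻¹ m - m = act h⁻¹ (act g⁻¹ m - m) + (act h⁻¹ m - m) := by
        rw [mul_inv_rev, act_mul, act_sub]; abel
      rw [h1]
      exact X.add_mem (hhX _ (hg.2 m hm)) (hh.2 m hm)
  one_mem' := by
    refine ⟨fun m hm => ?_, fun m hm => ?_⟩
    · rw [act_one, sub_self]; exact X.zero_mem
    · rw [inv_one, act_one, sub_self]; exact X.zero_mem
  inv_mem' := by
    intro g hg
    refine ⟨hg.2, fun m hm => ?_⟩
    rw [inv_inv]; exact hg.1 m hm

/-- The chain trick: in a family `V₁` acting unipotently above `X`, some member not acting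
trivially on `L` modulo `Y` normalizes the set of members that do. -/
theorem exists_normalizing [FiniteDimensional k M]
    {V₁ : Set (Subgroup (LinearMap.GeneralLinearGroup k M))} (hS : SelfInv V₁)
    (L X : Submodule k M)
    (hstep : ∀ Y : Submodule k M, Inv V₁ Y → X ≤ Y → Y ≠ ⊤ → FixMod V₁ Y ≠ Y) :
    ∀ (d : ℕ) (Y : Submodule k M), Module.finrank k M - Module.finrank k Y = d → Inv V₁ Y →
      X ≤ Y → (∃ A ∈ V₁, ¬ TrivOn A L Y) →
      ∃ A ∈ V₁, ¬ TrivOn A L Y ∧
        ∀ a ∈ A, ∀ E ∈ V₁, TrivOn E L Y → TrivOn (Cfsg.conjBy E a) L Y := by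
  intro d
  induction d using Nat.strong_induction_on with
  | _ d ih =>
    intro Y hd hIY hXY hex
    obtain ⟨A₀, hA₀, hA₀L⟩ := hex
    have hYtop : Y ≠ ⊤ := by
      rintro rfl
      exact hA₀L (fun a _ m _ => Submodule.mem_top)
    have hY1ne : FixMod V₁ Y ≠ Y := hstep Y hIY hXY hYtop
    have hYle : Y ≤ FixMod V₁ Y := le_FixMod hIY
    have hlt : Y < FixMod V₁ Y := lt_of_le_of_ne hYle (Ne.symm hY1ne)
    have hfr : Module.finrank k Y < Module.finrank k (FixMod V₁ Y) :=
      Submodule.finrank_lt_finrank_of_lt hlt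
    have hfr2 : Module.finrank k (FixMod V₁ Y) ≤ Module.finrank k M := Submodule.finrank_le _
    have hI1 : Inv V₁ (FixMod V₁ Y) := Inv_FixMod hS hIY
    by_cases hc : ∃ A ∈ V₁, TrivOn A L (FixMod V₁ Y) ∧ ¬ TrivOn A L Y
    · obtain ⟨A, hA, hAL1, hAL⟩ := hc
      refine ⟨A, hA, hAL, ?_⟩
      intro a ha E hE hEL x hx l hl
      obtain ⟨e, he, rfl⟩ := Subgroup.mem_map.mp hx
      show act (a * e * a⁻¹) l - l ∈ Y
      rw [act_conj_sub]
      apply hIY A hA a ha
      have hy1 : act a⁻¹ l - l ∈ FixMod V₁ Y := hAL1 a⁻¹ (A.inv_mem ha) l hl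
      have h1 : act e (act a⁻¹ l) - act a⁻¹ l =
          (act e l - l) + (act e (act a⁻¹ l - l) - (act a⁻¹ l - l)) := by
        rw [act_sub]; abel
      rw [h1]
      exact Y.add_mem (hEL e he l hl) (hy1 E hE e he)
    · push Not at hc
      have hA₀L1 : ¬ TrivOn A₀ L (FixMod V₁ Y) := fun h => hA₀L (hc A₀ hA₀ h)
      obtain ⟨A, hA, hAL1, hnorm⟩ := ih (Module.finrank k M - Module.finrank k (FixMod V₁ Y))
        (by omega) (FixMod V₁ Y) rfl hI1 (hXY.trans hYle) ⟨A₀, hA₀, hA₀L1⟩
      refine ⟨A, hA, fun h => hAL1 (h.mono hYle), ?_⟩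
      intro a ha E hE hEL
      exact hc _ (hS E hE A hA a ha) (hnorm a ha E hE (hEL.mono hYle))

theorem act_conj_sub' (b a : LinearMap.GeneralLinearGroup k M) (m : M) :
    act b (act (b⁻¹ * a * b⁻¹⁻¹) m - m) = act a (act b m) - act b m := by
  rw [act_sub, ← act_mul, inv_inv]
  congr 1
  rw [← act_mul]
  congr 1
  group

/-- members of `V` acting trivially on `F` modulo `X` -/
def VF (V : Set (Subgroup (LinearMap.GeneralLinearGroup k M))) (X F : Submodule k M) :
    Set (Subgroup (LinearMap.GeneralLinearGroup k M)) := {A | A ∈ V ∧ TrivOn A F X}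

/-- the subspaces of the form `FixMod V' X` with `V' ⊆ V`, different from `X` -/
def Fam (V : Set (Subgroup (LinearMap.GeneralLinearGroup k M))) (X : Submodule k M) :
    Set (Submodule k M) :=
  {Y | Y ≠ X ∧ ∃ V' : Set (Subgroup (LinearMap.GeneralLinearGroup k M)), V' ⊆ V ∧ Y = FixMod V' X}

/-- minimal members of `Fam V X` -/
def IsMinFam (V : Set (Subgroup (LinearMap.GeneralLinearGroup k M))) (X F : Submodule k M) : Prop :=
  F ∈ Fam V X ∧ ∀ Z ∈ Fam V X, ¬ Z < F

theorem VF_subset (V : Set (Subgroup (LinearMap.GeneralLinearGroup k M))) (X F : Submodule k M) :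
    VF V X F ⊆ V := fun _ hA => hA.1

theorem FixMod_VF {V : Set (Subgroup (LinearMap.GeneralLinearGroup k M))} {X F : Submodule k M}
    (hF : F ∈ Fam V X) : FixMod (VF V X F) X = F := by
  obtain ⟨-, V', hV', hFeq⟩ := hF
  apply le_antisymm
  · calc FixMod (VF V X F) X ≤ FixMod V' X := by
          apply FixMod_anti X
          intro A hA
          refine ⟨hV' hA, fun a ha m hm => ?_⟩
          rw [hFeq] at hm
          exact hm A hA a ha
      _ = F := hFeq.symm
  · intro m hm A hA a ha
    exact hA.2 a ha m hm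

theorem le_of_mem_Fam {V : Set (Subgroup (LinearMap.GeneralLinearGroup k M))} {X F : Submodule k M}
    (hI : Inv V X) (hF : F ∈ Fam V X) : X ≤ F := by
  obtain ⟨-, V', hV', hFeq⟩ := hF
  rw [hFeq]
  exact le_FixMod (fun A hA => hI A (hV' hA))

theorem exists_min_Fam [FiniteDimensional k M]
    {V : Set (Subgroup (LinearMap.GeneralLinearGroup k M))} {X Y : Submodule k M}
    (hY : Y ∈ Fam V X) : ∃ F, IsMinFam V X F ∧ F ≤ Y := by
  obtain ⟨F, ⟨hFF, hFY⟩, hFmin⟩ :=
    wellFounded_lt.has_min {Z | Z ∈ Fam V X ∧ Z ≤ Y} ⟨Y, hY, le_rfl⟩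
  exact ⟨F, ⟨hFF, fun Z hZ hlt => hFmin Z ⟨hZ, hlt.le.trans hFY⟩ hlt⟩, hFY⟩

theorem SelfInv_VF {V : Set (Subgroup (LinearMap.GeneralLinearGroup k M))} {X F : Submodule k M}
    (hS : SelfInv V) (hI : Inv V X) (hXF : X ≤ F) : SelfInv (VF V X F) := by
  intro A hA B hB b hb
  refine ⟨hS A hA.1 B hB.1 b hb, ?_⟩
  intro x hx m hm
  obtain ⟨a, ha, rfl⟩ := Subgroup.mem_map.mp hx
  show act (b * a * b⁻¹) m - m ∈ X
  rw [act_conj_sub]
  apply hI B hB.1 b hb
  have hbm : act b⁻¹ m ∈ F := by
    have h1 := hB.2 b⁻¹ (B.inv_mem hb) m hm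
    have h2 := F.add_mem (hXF h1) hm
    rwa [sub_add_cancel] at h2
  exact hA.2 a ha _ hbm

/-- **Main claim**: a self-invariant subfamily `V` of a pairwise unipotent family has a fixed
vector modulo every proper invariant subspace. -/
theorem main_claim [FiniteDimensional k M]
    {W : Set (Subgroup (LinearMap.GeneralLinearGroup k M))}
    (hU : ∀ A ∈ W, ∀ B ∈ W, Cfsg.IsUnipotentOn (A ⊔ B)) :
    ∀ (d : ℕ) (V : Set (Subgroup (LinearMap.GeneralLinearGroup k M))) (X : Submodule k M),
      V ⊆ W → SelfInv V → Inv V X →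
      Module.finrank k M - Module.finrank k X = d → X ≠ ⊤ → FixMod V X ≠ X := by
  intro d
  induction d using Nat.strong_induction_on with
  | _ d ih =>
  intro V X hVW hS hI hd hXtop hfix
  have hU1 : ∀ B ∈ V, Cfsg.IsUnipotentOn B := fun B hB => by
    have := hU B (hVW hB) B (hVW hB)
    rwa [sup_idem] at this
  -- every member lies in `VF` of a minimal `F`
  have hcover : ∀ B ∈ V, ∃ F, IsMinFam V X F ∧ B ∈ VF V X F := by
    intro B hB
    have hne : FixMod {B} X ≠ X := by
      obtain ⟨m, -, hmX, hmfix⟩ := unip_fixed (hU1 B hB) (X := X) (Y := ⊤)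
        (fun _ _ _ _ => Submodule.mem_top) le_top hXtop
      intro h
      apply hmX
      rw [← h]
      intro A hA a ha
      rw [Set.mem_singleton_iff] at hA
      subst hA
      exact hmfix a ha
    obtain ⟨F, hF, hFle⟩ := exists_min_Fam (V := V) (X := X) (Y := FixMod {B} X)
      ⟨hne, {B}, Set.singleton_subset_iff.mpr hB, rfl⟩
    exact ⟨F, hF, hB, fun a ha m hm => hFle hm B rfl a ha⟩
  -- `VF F ≠ V`
  have hVFne : ∀ F, F ∈ Fam V X → ∃ B ∈ V, B ∉ VF V X F := by
    intro F hF
    by_contra hcon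
    push Not at hcon
    have h1 : VF V X F = V := Set.Subset.antisymm (VF_subset V X F) hcon
    have h2 := FixMod_VF hF
    rw [h1, hfix] at h2
    exact hF.1 h2.symm
  -- the induction hypothesis for `VF F`
  have hstepF : ∀ F, F ∈ Fam V X → ∀ Y : Submodule k M, Inv (VF V X F) Y → X ≤ Y → Y ≠ ⊤ →
      FixMod (VF V X F) Y ≠ Y := by
    intro F hF Y hIY hXY hYtop
    by_cases hYX : Y = X
    · rw [hYX, FixMod_VF hF]
      exact hF.1
    · have hlt : X < Y := lt_of_le_of_ne hXY (Ne.symm hYX)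
      have h1 := Submodule.finrank_lt_finrank_of_lt hlt
      have h2 : Module.finrank k Y ≤ Module.finrank k M := Submodule.finrank_le _
      exact ih (Module.finrank k M - Module.finrank k Y) (by omega) (VF V X F) Y
        ((VF_subset V X F).trans hVW) (SelfInv_VF hS hI (le_of_mem_Fam hI hF)) hIY rfl hYtop
  -- one side of the Alperin--Lyons step
  have side : ∀ (L F F' : Submodule k M), IsMinFam V X F → F' ∈ Fam V X → F ≠ F' →
      L = FixMod (VF V X F ∩ VF V X F') X →
      ∃ A ∈ VF V X F, ¬ TrivOn A L X ∧ ∀ a ∈ A, ∀ l ∈ L, act a l ∈ L := by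
    intro L F F' hF hF' hFF' hL
    have hF'L : F' ≤ L := by
      rw [hL]
      calc F' = FixMod (VF V X F') X := (FixMod_VF hF').symm
        _ ≤ FixMod (VF V X F ∩ VF V X F') X := FixMod_anti X Set.inter_subset_right
    have a2 : ∃ A ∈ VF V X F, ¬ TrivOn A L X := by
      by_contra hcon
      push Not at hcon
      have hsub : VF V X F ⊆ VF V X F' := fun A hA => ⟨hA.1, (hcon A hA).anti hF'L⟩
      have hle : F' ≤ F := by
        calc F' = FixMod (VF V X F') X := (FixMod_VF hF').symm
          _ ≤ FixMod (VF V X F) X := FixMod_anti X hsub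
          _ = F := FixMod_VF hF.1
      rcases eq_or_lt_of_le hle with h | h
      · exact hFF' h.symm
      · exact hF.2 F' hF' h
    have hIX : Inv (VF V X F) X := fun A hA => hI A hA.1
    obtain ⟨A, hA, hAL, hnorm⟩ := exists_normalizing
      (SelfInv_VF hS hI (le_of_mem_Fam hI hF.1)) L X (hstepF F hF.1) d X hd hIX le_rfl a2
    refine ⟨A, hA, hAL, ?_⟩
    intro a ha l hl
    rw [hL]
    intro E hE e he
    have hEL : TrivOn E L X := by
      intro e' he' m hm
      rw [hL] at hm
      exact hm E hE e' he'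
    have h1 := hnorm a⁻¹ (A.inv_mem ha) E hE.1 hEL _ (conj_mem_conjBy he a⁻¹) l hl
    have h2 := hI A hA.1 a ha _ h1
    rwa [act_conj_sub'] at h2
  -- two distinct minimal members
  have hLne : {L : Submodule k M | ∃ F F', IsMinFam V X F ∧ IsMinFam V X F' ∧ F ≠ F' ∧
      L = FixMod (VF V X F ∩ VF V X F') X}.Nonempty := by
    have htop : (⊤ : Submodule k M) ∈ Fam V X := by
      refine ⟨Ne.symm hXtop, ∅, Set.empty_subset _, ?_⟩
      symm
      rw [eq_top_iff]
      intro m _ A hA
      exact absurd hA (Set.notMem_empty A)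
    obtain ⟨F, hF, -⟩ := exists_min_Fam htop
    obtain ⟨B, hB, hBn⟩ := hVFne F hF.1
    obtain ⟨F', hF', hBF'⟩ := hcover B hB
    have hne : F ≠ F' := by
      rintro rfl
      exact hBn hBF'
    exact ⟨_, F, F', hF, hF', hne, rfl⟩
  obtain ⟨L, ⟨F, F', hF, hF', hFF', hL⟩, hLmin⟩ := wellFounded_lt.has_min _ hLne
  obtain ⟨A, hA, hAL, hAstab⟩ := side L F F' hF hF'.1 hFF' hL
  have hL' : L = FixMod (VF V X F' ∩ VF V X F) X := by rw [Set.inter_comm]; exact hL
  obtain ⟨A', hA', hA'L, hA'stab⟩ := side L F' F hF' hF.1 (Ne.symm hFF') hL'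
  -- `A ⊔ A'` stabilizes `L`
  have hsup : A ⊔ A' ≤ stabSub L := by
    apply sup_le
    · intro a ha
      exact ⟨hAstab a ha, hAstab a⁻¹ (A.inv_mem ha)⟩
    · intro a ha
      exact ⟨hA'stab a ha, hA'stab a⁻¹ (A'.inv_mem ha)⟩
  have hXL : X ≤ L := by
    rw [hL]
    exact le_FixMod (fun E hE => hI E hE.1.1)
  have hFL : F ≤ L := by
    rw [hL]
    calc F = FixMod (VF V X F) X := (FixMod_VF hF.1).symm
      _ ≤ FixMod (VF V X F ∩ VF V X F') X := FixMod_anti X Set.inter_subset_left
  have hXneL : X ≠ L := by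
    intro h
    have h1 : F ≤ X := by rw [h]; exact hFL
    exact hF.1.1 (le_antisymm h1 (le_of_mem_Fam hI hF.1))
  obtain ⟨m, hmL, hmX, hmfix⟩ := unip_fixed (hU A (hVW hA.1) A' (hVW hA'.1))
    (fun h hh y hy => (hsup hh).1 y hy) hXL hXneL
  -- the new fixed space
  have hsubV : (VF V X F ∩ VF V X F') ∪ {A, A'} ⊆ V := by
    intro E hE
    rcases hE with hE | hE
    · exact hE.1.1
    · rcases hE with rfl | hE
      · exact hA.1
      · rw [Set.mem_singleton_iff] at hE
        subst hE
        exact hA'.1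
  have hmY₂ : m ∈ FixMod ((VF V X F ∩ VF V X F') ∪ {A, A'}) X := by
    intro E hE e he
    rcases hE with hE | hE
    · rw [hL] at hmL
      exact hmL E hE e he
    · rcases hE with rfl | hE
      · exact hmfix e (Subgroup.mem_sup_left he)
      · rw [Set.mem_singleton_iff] at hE
        subst hE
        exact hmfix e (Subgroup.mem_sup_right he)
  have hY₂ : FixMod ((VF V X F ∩ VF V X F') ∪ {A, A'}) X ∈ Fam V X := by
    refine ⟨?_, _, hsubV, rfl⟩
    intro h
    rw [h] at hmY₂
    exact hmX hmY₂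
  obtain ⟨F₂, hF₂, hF₂le⟩ := exists_min_Fam hY₂
  have hmem₂ : ∀ E ∈ (VF V X F ∩ VF V X F') ∪ {A, A'}, E ∈ VF V X F₂ := by
    intro E hE
    exact ⟨hsubV hE, fun e he x hx => hF₂le hx E hE e he⟩
  have hA₂ : A ∈ VF V X F₂ := hmem₂ A (Set.mem_union_right _ (Set.mem_insert _ _))
  have hA'₂ : A' ∈ VF V X F₂ :=
    hmem₂ A' (Set.mem_union_right _ (Set.mem_insert_of_mem _ rfl))
  have hD₂ : VF V X F ∩ VF V X F' ⊆ VF V X F₂ := fun E hE =>
    hmem₂ E (Set.mem_union_left _ hE)
  -- `F = F₂`
  have e1 : F = F₂ := by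
    by_contra hne
    have hlt : FixMod (VF V X F ∩ VF V X F₂) X < L := by
      apply lt_of_le_of_ne
      · rw [hL]
        exact FixMod_anti X (fun E hE => ⟨hE.1, hD₂ hE⟩)
      · intro h
        apply hAL
        intro a ha x hx
        rw [← h] at hx
        exact hx A ⟨hA, hA₂⟩ a ha
    exact hLmin _ ⟨F, F₂, hF, hF₂, hne, rfl⟩ hlt
  have e2 : F' = F₂ := by
    by_contra hne
    have hlt : FixMod (VF V X F' ∩ VF V X F₂) X < L := by
      apply lt_of_le_of_ne
      · rw [hL]
        exact FixMod_anti X (fun E hE => ⟨hE.2, hD₂ hE⟩)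
      · intro h
        apply hA'L
        intro a ha x hx
        rw [← h] at hx
        exact hx A' ⟨hA', hA'₂⟩ a ha
    exact hLmin _ ⟨F', F₂, hF', hF₂, hne, rfl⟩ hlt
  exact hFF' (e1.trans e2.symm)

/-- the ascending chain of fixed spaces -/
def Xc (W : Set (Subgroup (LinearMap.GeneralLinearGroup k M))) : ℕ → Submodule k M
  | 0 => ⊥
  | (i + 1) => FixMod W (Xc W i)

theorem Xc_inv {W : Set (Subgroup (LinearMap.GeneralLinearGroup k M))} (hS : SelfInv W) :
    ∀ i, Inv W (Xc W i) := by
  intro i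
  induction i with
  | zero =>
    intro A _ a _ x hx
    rw [Xc, Submodule.mem_bot] at hx ⊢
    rw [hx, act_zero]
  | succ i ih => exact Inv_FixMod hS ih

theorem Xc_mono {W : Set (Subgroup (LinearMap.GeneralLinearGroup k M))} (hS : SelfInv W) (i : ℕ) :
    Xc W i ≤ Xc W (i + 1) := le_FixMod (Xc_inv hS i)

theorem prodOf_mem_Xc {W : Set (Subgroup (LinearMap.GeneralLinearGroup k M))} (hS : SelfInv W)
    (l : List (LinearMap.GeneralLinearGroup k M)) (hl : ∀ g ∈ l, g ∈ ⨆ A ∈ W, A) :
    ∀ (i : ℕ) (m : M), m ∈ Xc W (i + l.length) → prodOf l m ∈ Xc W i := by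
  have hle : ∀ i, (⨆ A ∈ W, A) ≤ trivSub (Xc W (i + 1)) (Xc W i) (Xc_mono hS i) := by
    intro i
    apply iSup₂_le
    intro A hA a ha
    exact ⟨fun m hm => hm A hA a ha, fun m hm => hm A hA a⁻¹ (A.inv_mem ha)⟩
  induction l with
  | nil =>
    intro i m hm
    simpa [prodOf_nil] using hm
  | cons g l ih =>
    intro i m hm
    have hl' : ∀ g ∈ l, g ∈ ⨆ A ∈ W, A := fun g' hg' => hl g' (List.mem_cons_of_mem _ hg')
    have hg : g ∈ ⨆ A ∈ W, A := hl g List.mem_cons_self
    have h1 : prodOf l m ∈ Xc W (i + 1) := by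
      apply ih hl' (i + 1) m
      have : i + 1 + l.length = i + (g :: l).length := by simp; omega
      rw [this]; exact hm
    rw [prodOf_cons_apply]
    exact (hle i hg).1 _ h1

/-- **Theorem**: a family of subgroups of `GL(M)`, closed under conjugation by its members'
elements, any two members of which generate a unipotent subgroup, generates a unipotent
subgroup. -/
theorem unipotent_of_pairs [FiniteDimensional k M]
    {W : Set (Subgroup (LinearMap.GeneralLinearGroup k M))}
    (hU : ∀ A ∈ W, ∀ B ∈ W, Cfsg.IsUnipotentOn (A ⊔ B)) (hS : SelfInv W) :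
    Cfsg.IsUnipotentOn (⨆ A ∈ W, A) := by
  have hrank : ∀ i, Xc W i = ⊤ ∨ i ≤ Module.finrank k (Xc W i) := by
    intro i
    induction i with
    | zero => right; exact Nat.zero_le _
    | succ i ih =>
      rcases ih with h | h
      · left
        have := Xc_mono hS i
        rw [h] at this
        exact top_le_iff.mp this
      · by_cases htop : Xc W i = ⊤
        · left
          have := Xc_mono hS i
          rw [htop] at this
          exact top_le_iff.mp this
        · right
          have hne : FixMod W (Xc W i) ≠ Xc W i :=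
            main_claim hU _ W (Xc W i) subset_rfl hS (Xc_inv hS i) rfl htop
          have hlt : Xc W i < Xc W (i + 1) := lt_of_le_of_ne (Xc_mono hS i) (Ne.symm hne)
          have := Submodule.finrank_lt_finrank_of_lt hlt
          omega
  have htop : Xc W (Module.finrank k M) = ⊤ := by
    rcases hrank (Module.finrank k M) with h | h
    · exact h
    · by_contra hne
      have := Submodule.finrank_lt hne
      omega
  rw [isUnipotentOn_iff]
  refine ⟨Module.finrank k M, fun l hl hlen => ?_⟩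
  apply LinearMap.ext
  intro m
  have h1 := prodOf_mem_Xc hS l hl 0 m (by rw [zero_add, hlen, htop]; exact Submodule.mem_top)
  rw [Xc, Submodule.mem_bot] at h1
  rw [h1, LinearMap.zero_apply]

end Cfsg.Agent.Lib.Helper60.UP
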